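import Groth.Agent.H9Diag.ChiAdd
import Groth.Agent.CycLib.SamuelAssoc

/-!
Dévissage for the Tor Euler characteristic.
-/

set_option autoImplicit false
set_option linter.style.haveILetI false
set_option backward.isDefEq.respectTransparency false
set_option maxHeartbeats 1000000

universe u

open IsLocalRing Groth.Agent Groth.Agent.CycLib

noncomputable section

namespace Groth.Agent.H9Diag

variable {A : Type u} [CommRing A] [IsRegularLocalRing A]

/-- The multiplicity of `M` at a prime. -/
def lenAt (p : PrimeSpectrum A) (M : Type u) [AddCommGroup M] [Module A M] : ℕ :=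
  (Module.length (Localization.AtPrime p.asIdeal) (LocalizedModule p.asIdeal.primeCompl M)).toNat

theorem annihilator_le_of_equiv {M M' : Type u} [AddCommGroup M] [Module A M] [AddCommGroup M'] [Module A M']
    (e : M ≃ₗ[A] M') : Module.annihilator A M ≤ Module.annihilator A M' :=
  LinearMap.annihilator_le_of_surjective e.toLinearMap e.surjective

theorem devissage (N : Type u) [AddCommGroup N] [Module A N] [Module.Finite A N] (a : ℕ)
    (hzero : ∀ P : PrimeSpectrum A, Primary A (A ⧸ P.asIdeal) N → ringKrullDim (A ⧸ P.asIdeal) < a →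
      IntMult.chi A (A ⧸ P.asIdeal) N = 0)
    (M : Type u) [AddCommGroup M] [Module A M] [Module.Finite A M] (hP : Primary A M N)
    (hd : Module.supportDim A M ≤ a) :
    IntMult.chi A M N = ∑ᶠ (p : PrimeSpectrum A) (_ : ringKrullDim (A ⧸ p.asIdeal) = a),
      (lenAt p M : ℤ) * IntMult.chi A (A ⧸ p.asIdeal) N := by
  classical
  suffices h : Primary A M N → Module.supportDim A M ≤ a →
      ∃ T : Finset (PrimeSpectrum A), (∀ p, ringKrullDim (A ⧸ p.asIdeal) = a →
        Module.length (Localization.AtPrime p.asIdeal) (LocalizedModule p.asIdeal.primeCompl M) ≠ ⊤ ∧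
        (p ∉ T → Module.length (Localization.AtPrime p.asIdeal) (LocalizedModule p.asIdeal.primeCompl M) = 0)) ∧
      ∀ S : Finset (PrimeSpectrum A), T ⊆ S → IntMult.chi A M N =
        ∑ p ∈ S.filter (fun p => ringKrullDim (A ⧸ p.asIdeal) = a),
          (lenAt p M : ℤ) * IntMult.chi A (A ⧸ p.asIdeal) N by
    obtain ⟨T, hT, hsum⟩ := h hP hd
    rw [hsum T le_rfl]
    refine (finsum_mem_eq_sum_of_subset (s := {p : PrimeSpectrum A | ringKrullDim (A ⧸ p.asIdeal) = a}) _ ?_ ?_).symm
    · intro p hp
      rw [Finset.coe_filter]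
      refine ⟨?_, hp.1⟩
      by_contra hn
      exact hp.2 (by simp [lenAt, (hT p hp.1).2 hn])
    · intro p hp
      exact (Finset.mem_filter.1 hp).2
  refine IsNoetherianRing.induction_on_isQuotientEquivQuotientPrime (A := A) (M := M) ‹_›
    (motive := fun M _ _ _ => Primary A M N → Module.supportDim A M ≤ a →
      ∃ T : Finset (PrimeSpectrum A), (∀ p, ringKrullDim (A ⧸ p.asIdeal) = a →
        Module.length (Localization.AtPrime p.asIdeal) (LocalizedModule p.asIdeal.primeCompl M) ≠ ⊤ ∧
        (p ∉ T → Module.length (Localization.AtPrime p.asIdeal) (LocalizedModule p.asIdeal.primeCompl M) = 0)) ∧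
      ∀ S : Finset (PrimeSpectrum A), T ⊆ S → IntMult.chi A M N =
        ∑ p ∈ S.filter (fun p => ringKrullDim (A ⧸ p.asIdeal) = a),
          (lenAt p M : ℤ) * IntMult.chi A (A ⧸ p.asIdeal) N) ?_ ?_ ?_
  · intro L _ _ _ _ _ _
    have h0 : ∀ p : PrimeSpectrum A,
        Module.length (Localization.AtPrime p.asIdeal) (LocalizedModule p.asIdeal.primeCompl L) = 0 := fun p => by
      haveI : Subsingleton (LocalizedModule p.asIdeal.primeCompl L) := ⟨fun a b => by
        induction a using LocalizedModule.induction_on with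
        | _ m s =>
          induction b using LocalizedModule.induction_on with
          | _ m' s' => exact LocalizedModule.mk_eq.2 ⟨1, Subsingleton.elim _ _⟩⟩
      exact Module.length_eq_zero
    refine ⟨∅, fun p _ => ⟨by simp [h0 p], fun _ => h0 p⟩, fun S _ => ?_⟩
    have hs : IntMult.chi A L N = 0 := by
      haveI : Module.Projective A L := Module.Projective.of_free
      have h : ∀ i, Subsingleton (DRing.Tor A i L N) := fun i => by
        rcases i with _ | i
        · obtain ⟨e⟩ := H9Mult.nonempty_tor_zero (ModuleCat.of A L) (ModuleCat.of A N)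
          haveI : Subsingleton (TensorProduct A L N) := inferInstance
          exact e.toEquiv.subsingleton
        · exact subsingleton_tor_of_pdLE N 0 L (RegLoc6.pdLE_of_projective 0) (i + 1) (Nat.succ_pos i)
      refine finsum_eq_zero_of_forall_eq_zero fun i => ?_
      rw [Module.length_eq_zero_iff.2 (h i)]
      simp
    simp [lenAt, h0, hs]
  · intro L _ _ _ q eq hPL hq
    rw [Module.supportDim_eq_of_equiv eq, Module.supportDim_quotient_eq_ringKrullDim] at hq
    have hlen : ∀ p : PrimeSpectrum A, ringKrullDim (A ⧸ p.asIdeal) = a →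
        Module.length (Localization.AtPrime p.asIdeal) (LocalizedModule p.asIdeal.primeCompl L) =
          if q = p then 1 else 0 := fun p hp => by
      rw [← length_localized_quot_prime q p a hq hp]
      refine le_antisymm ?_ ?_
      · exact Module.length_le_of_injective (LocalizedModule.map p.asIdeal.primeCompl eq.toLinearMap)
          (IsLocalizedModule.map_injective p.asIdeal.primeCompl (LocalizedModule.mkLinearMap _ _)
            (LocalizedModule.mkLinearMap _ _) eq.toLinearMap eq.injective)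
      · exact Module.length_le_of_surjective (LocalizedModule.map p.asIdeal.primeCompl eq.toLinearMap)
          (IsLocalizedModule.map_surjective p.asIdeal.primeCompl (LocalizedModule.mkLinearMap _ _)
            (LocalizedModule.mkLinearMap _ _) eq.toLinearMap eq.surjective)
    refine ⟨{q}, fun p hp => ⟨?_, fun hpq => ?_⟩, fun S hS => ?_⟩
    · rw [hlen p hp]
      split_ifs <;> simp
    · rw [hlen p hp, if_neg fun h => hpq (by simp [h])]
    rw [chi_congr_left eq]
    rcases hq.lt_or_eq with hlt | heq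
    · rw [hzero q (hPL.mono (annihilator_le_of_equiv eq)) hlt, Finset.sum_eq_zero fun p hp => ?_]
      have hp' := (Finset.mem_filter.1 hp).2
      simp [lenAt, hlen p hp', if_neg fun h : q = p => hlt.ne (h.symm ▸ hp')]
    · rw [Finset.sum_eq_single q]
      · simp [lenAt, hlen q heq]
      · intro p hp hpq
        simp [lenAt, hlen p (Finset.mem_filter.1 hp).2, if_neg (Ne.symm hpq)]
      · exact fun h => absurd (Finset.mem_filter.2 ⟨hS (by simp), heq⟩) h
  · intro N₁ _ _ _ N₂ _ _ _ N₃ _ _ _ f g hf hg hfg h₁ h₃ hPN hN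
    obtain ⟨T₁, hT₁, hl₁⟩ := h₁ (hPN.mono (LinearMap.annihilator_le_of_injective f hf))
      ((Module.supportDim_le_of_injective f hf).trans hN)
    obtain ⟨T₃, hT₃, hl₃⟩ := h₃ (hPN.mono (LinearMap.annihilator_le_of_surjective g hg))
      ((Module.supportDim_le_of_surjective g hg).trans hN)
    refine ⟨T₁ ∪ T₃, fun p hp => ?_, fun S hS => ?_⟩
    · rw [length_localized_add p f g hf hg hfg]
      exact ⟨WithTop.add_ne_top.2 ⟨(hT₁ p hp).1, (hT₃ p hp).1⟩, fun h => by
        rw [Finset.mem_union, not_or] at h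
        rw [(hT₁ p hp).2 h.1, (hT₃ p hp).2 h.2, add_zero]⟩
    · rw [chi_add f g hf hg hfg hPN, hl₁ S (Finset.union_subset_left hS), hl₃ S (Finset.union_subset_right hS),
        ← Finset.sum_add_distrib]
      refine Finset.sum_congr rfl fun p hp => ?_
      have hp' := (Finset.mem_filter.1 hp).2
      rw [lenAt, lenAt, lenAt, length_localized_add p f g hf hg hfg, ENat.toNat_add (hT₁ p hp').1 (hT₃ p hp').1,
        Nat.cast_add, add_mul]

/-- Dévissage in both variables. -/
theorem devissage₂ {D : ℕ}
    (hvan : ∀ P Q : PrimeSpectrum A, Primary A (A ⧸ P.asIdeal) (A ⧸ Q.asIdeal) →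
      ringKrullDim (A ⧸ P.asIdeal) + ringKrullDim (A ⧸ Q.asIdeal) < (D : WithBot ℕ∞) →
      IntMult.chi A (A ⧸ P.asIdeal) (A ⧸ Q.asIdeal) = 0)
    {a b : ℕ} (hab : a + b = D) (M N : Type u) [AddCommGroup M] [Module A M] [Module.Finite A M]
    [AddCommGroup N] [Module A N] [Module.Finite A N] (hP : Primary A M N)
    (hM : Module.supportDim A M ≤ a) (hN : Module.supportDim A N ≤ b) :
    IntMult.chi A M N = ∑ᶠ (p : PrimeSpectrum A) (_ : ringKrullDim (A ⧸ p.asIdeal) = a),
      ∑ᶠ (q : PrimeSpectrum A) (_ : ringKrullDim (A ⧸ q.asIdeal) = b),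
        (lenAt p M : ℤ) * ((lenAt q N : ℤ) * IntMult.chi A (A ⧸ p.asIdeal) (A ⧸ q.asIdeal)) := by
  have inner : ∀ p : PrimeSpectrum A, ringKrullDim (A ⧸ p.asIdeal) ≤ a → Primary A (A ⧸ p.asIdeal) N →
      IntMult.chi A (A ⧸ p.asIdeal) N = ∑ᶠ (q : PrimeSpectrum A) (_ : ringKrullDim (A ⧸ q.asIdeal) = b),
        (lenAt q N : ℤ) * IntMult.chi A (A ⧸ p.asIdeal) (A ⧸ q.asIdeal) := fun p hp hprim => by
    rw [H9Samuel.chi_comm]
    refine (devissage (A ⧸ p.asIdeal) b (fun Q hQ hlt => ?_) N hprim.symm hN).trans ?_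
    · rw [H9Samuel.chi_comm]
      refine hvan p Q hQ.symm ?_
      haveI : Nontrivial (A ⧸ p.asIdeal) := Ideal.Quotient.nontrivial_iff.2 p.2.ne_top
      haveI : Nontrivial (A ⧸ Q.asIdeal) := Ideal.Quotient.nontrivial_iff.2 Q.2.ne_top
      rw [← hab]
      revert hp hlt
      have h1 : (0 : WithBot ℕ∞) ≤ ringKrullDim (A ⧸ p.asIdeal) := ringKrullDim_nonneg_of_nontrivial
      have h2 : (0 : WithBot ℕ∞) ≤ ringKrullDim (A ⧸ Q.asIdeal) := ringKrullDim_nonneg_of_nontrivial
      generalize ringKrullDim (A ⧸ p.asIdeal) = x at h1 ⊢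
      generalize ringKrullDim (A ⧸ Q.asIdeal) = y at h2 ⊢
      intro hx hy
      obtain ⟨i, rfl, hi⟩ := exists_nat_le h1 hx
      obtain ⟨j, rfl, hj⟩ := exists_nat_le h2 hy.le
      have hj' : j < b := by exact_mod_cast hy
      exact_mod_cast (by omega : i + j < a + b)
    · exact finsum_congr fun q => finsum_congr fun _ => by rw [H9Samuel.chi_comm]
  rw [devissage N a (fun P hP' hlt => ?_) M hP hM]
  · refine finsum_congr fun p => finsum_congr fun hp => ?_
    by_cases h0 : lenAt p M = 0
    · simp [h0]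
    · have hprim : Primary A (A ⧸ p.asIdeal) N := by
        refine hP.mono ?_
        rw [Ideal.annihilator_quotient]
        refine Module.annihilator_le_of_mem_support (Module.mem_support_iff.2 ?_)
        by_contra hn
        rw [not_nontrivial_iff_subsingleton] at hn
        exact h0 (by rw [lenAt, Module.length_eq_zero_iff.2 hn]; rfl)
      rw [inner p hp.le hprim]
      exact mul_finsum_mem (R := ℤ) (s := {q : PrimeSpectrum A | ringKrullDim (A ⧸ q.asIdeal) = b}) _ _
  · rw [inner P hlt.le hP']
    refine finsum_mem_of_eqOn_zero fun q hq => ?_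
    by_cases h0 : lenAt q N = 0
    · simp [h0]
    · have hprim : Primary A (A ⧸ P.asIdeal) (A ⧸ q.asIdeal) := by
        refine (hP'.symm.mono ?_).symm
        rw [Ideal.annihilator_quotient]
        refine Module.annihilator_le_of_mem_support (Module.mem_support_iff.2 ?_)
        by_contra hn
        rw [not_nontrivial_iff_subsingleton] at hn
        exact h0 (by rw [lenAt, Module.length_eq_zero_iff.2 hn]; rfl)
      show (lenAt q N : ℤ) * IntMult.chi A (A ⧸ P.asIdeal) (A ⧸ q.asIdeal) = 0
      rw [hvan P q hprim ?_, mul_zero]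
      rw [show ringKrullDim (A ⧸ q.asIdeal) = b from hq, ← hab, Nat.cast_add]
      obtain ⟨i, hi, hi'⟩ := exists_nat_le (by
        haveI : Nontrivial (A ⧸ P.asIdeal) := Ideal.Quotient.nontrivial_iff.2 P.2.ne_top
        exact ringKrullDim_nonneg_of_nontrivial) hlt.le
      rw [hi] at hlt ⊢
      have : i < a := by exact_mod_cast hlt
      exact_mod_cast (by omega : i + b < a + b)
where
  exists_nat_le {x : WithBot ℕ∞} {n : ℕ} (h0 : 0 ≤ x) (h : x ≤ (n : WithBot ℕ∞)) :
      ∃ i : ℕ, x = (i : WithBot ℕ∞) ∧ i ≤ n := by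
    obtain ⟨y, rfl⟩ := WithBot.ne_bot_iff_exists.1 (ne_bot_of_le_ne_bot (by simp) h0)
    have hy : y ≤ (n : ℕ∞) := WithBot.coe_le_coe.1 h
    obtain ⟨i, rfl⟩ := ENat.ne_top_iff_exists.1 (ne_top_of_le_ne_top (ENat.natCast_ne_top n) hy)
    exact ⟨i, rfl, by exact_mod_cast hy⟩

end Groth.Agent.H9Diag
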