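import Groth.Agent.H9Diag.Algebra
import Groth.Agent.H23.StalkPrimes
import Groth.Agent.QCoh.Stalk
import Groth.Agent.H9Mult.CycleMult

/-!
Stalks at a generalisation as localisations of the stalk.
-/

set_option autoImplicit false
set_option linter.style.haveILetI false
set_option backward.isDefEq.respectTransparency false
set_option backward.isDefEq.respectTransparency.types false
set_option maxHeartbeats 1000000

universe u

open AlgebraicGeometry CategoryTheory TopologicalSpace Groth.Agent Groth.Agent.CDiv6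

noncomputable section

namespace Groth.Agent.H9Diag

variable {X : Scheme.{u}} (F : X.Modules) {ξ ζ : X} (h : ξ ⤳ ζ)

/-- The specialisation map on stalks of a module. -/
def modSpec : F.presheaf.stalk ζ →ₛₗ[(X.presheaf.stalkSpecializes h).hom] F.presheaf.stalk ξ where
  toFun := F.presheaf.stalkSpecializes h
  map_add' := map_add (F.presheaf.stalkSpecializes h).hom
  map_smul' r m := by
    obtain ⟨U, hU, a, rfl⟩ := X.presheaf.exists_germ_eq r
    obtain ⟨V, hV, n, rfl⟩ := F.presheaf.exists_germ_eq m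
    have hW : ζ ∈ U ⊓ V := ⟨hU, hV⟩
    rw [← X.presheaf.germ_res_apply (homOfLE (inf_le_left : U ⊓ V ≤ U)) ζ hW a,
      ← TopCat.Presheaf.germ_res_apply (F := F.presheaf) (homOfLE (inf_le_right : U ⊓ V ≤ V)) ζ hW n,
      ← QCoh.germ_smul', TopCat.Presheaf.germ_stalkSpecializes_apply F.presheaf hW h,
      TopCat.Presheaf.germ_stalkSpecializes_apply F.presheaf hW h, QCoh.germ_smul']
    congr 1
    exact (TopCat.Presheaf.germ_stalkSpecializes_apply X.presheaf hW h _).symm

theorem modSpec_germ {U : X.Opens} (hU : ζ ∈ U) (n : Γ(F, U)) :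
    modSpec F h (F.presheaf.germ U ζ hU n) = F.presheaf.germ U ξ (h.mem_open U.isOpen hU) n :=
  TopCat.Presheaf.germ_stalkSpecializes_apply F.presheaf hU h n

/-- The stalk at a generalisation is the localised stalk. -/
theorem isLocalizedModule_modSpec (hF : Coh.IsQCoh F) :
    letI := Module.compHom (F.presheaf.stalk ξ) (X.presheaf.stalkSpecializes h).hom
    ∃ l : F.presheaf.stalk ζ →ₗ[X.presheaf.stalk ζ] F.presheaf.stalk ξ,
      IsLocalizedModule (primeOf h).asIdeal.primeCompl l := by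
  letI := Module.compHom (F.presheaf.stalk ξ) (X.presheaf.stalkSpecializes h).hom
  let l : F.presheaf.stalk ζ →ₗ[X.presheaf.stalk ζ] F.presheaf.stalk ξ :=
    { toFun := modSpec F h, map_add' := map_add _, map_smul' := fun r m => (modSpec F h).map_smulₛₗ r m }
  obtain ⟨U, hU, hζ, -⟩ := exists_isAffineOpen_mem_and_subset (x := ζ) (U := ⊤) trivial
  have hξ : ξ ∈ U := h.mem_open U.isOpen hζ
  let φ := (X.presheaf.stalkSpecializes h).hom
  have hφ : ∀ a : Γ(X, U), φ (X.presheaf.germ U ζ hζ a) = X.presheaf.germ U ξ hξ a := fun a =>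
    TopCat.Presheaf.germ_stalkSpecializes_apply X.presheaf hζ h a
  have hg : ∀ m : Γ(F, U), l (F.presheaf.germ U ζ hζ m) = F.presheaf.germ U ξ hξ m := modSpec_germ F h hζ
  have hp : ∀ a : Γ(X, U), a ∉ (hU.primeIdealOf ⟨ξ, hξ⟩).asIdeal →
      X.presheaf.germ U ζ hζ a ∉ (primeOf h).asIdeal := fun a ha hmem => by
    refine (mem_primeOf h _).1 hmem ?_
    show IsUnit (φ _)
    rw [hφ]
    exact (X.mem_basicOpen a ξ hξ).1 ((QCoh.mem_basicOpen_iff_notMem hU hξ a).2 ha)
  refine ⟨l, ⟨fun s => ?_, fun y => ?_, fun {x₁ x₂} he => ?_⟩⟩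
  · rw [Module.End.isUnit_iff]
    have hu : IsUnit (φ s) := by
      by_contra hu
      exact s.2 ((mem_primeOf h _).2 hu)
    refine ⟨fun a b hab => hu.smul_left_cancel.1 hab, fun b => ⟨hu.unit⁻¹.val • b, ?_⟩⟩
    show φ s • hu.unit⁻¹.val • b = b
    rw [← mul_smul, IsUnit.mul_val_inv, one_smul]
  · letI := QCoh.stalkModule F hξ
    haveI := QCoh.isLocalizedModule_germLin hF hU hξ
    obtain ⟨⟨m, t⟩, hmt⟩ := IsLocalizedModule.surj (hU.primeIdealOf ⟨ξ, hξ⟩).asIdeal.primeCompl (QCoh.germLin F hξ) y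
    refine ⟨⟨F.presheaf.germ U ζ hζ m, ⟨X.presheaf.germ U ζ hζ t.1, hp _ t.2⟩⟩, ?_⟩
    show φ (X.presheaf.germ U ζ hζ t.1) • y = l (F.presheaf.germ U ζ hζ m)
    rw [hφ, hg]
    exact hmt
  · letI := QCoh.stalkModule F hζ
    haveI := QCoh.isLocalizedModule_germLin hF hU hζ
    obtain ⟨⟨m₁, s₁⟩, hm₁⟩ := IsLocalizedModule.surj (hU.primeIdealOf ⟨ζ, hζ⟩).asIdeal.primeCompl (QCoh.germLin F hζ) x₁
    obtain ⟨⟨m₂, s₂⟩, hm₂⟩ := IsLocalizedModule.surj (hU.primeIdealOf ⟨ζ, hζ⟩).asIdeal.primeCompl (QCoh.germLin F hζ) x₂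
    have hm₁' : X.presheaf.germ U ζ hζ s₁.1 • x₁ = F.presheaf.germ U ζ hζ m₁ := hm₁
    have hm₂' : X.presheaf.germ U ζ hζ s₂.1 • x₂ = F.presheaf.germ U ζ hζ m₂ := hm₂
    have hu : ∀ s : (hU.primeIdealOf ⟨ζ, hζ⟩).asIdeal.primeCompl, IsUnit (X.presheaf.germ U ζ hζ s.1) := fun s =>
      (X.mem_basicOpen s.1 ζ hζ).1 ((QCoh.mem_basicOpen_iff_notMem hU hζ _).2 s.2)
    have e1 : X.presheaf.germ U ξ hξ s₁.1 • l x₁ = F.presheaf.germ U ξ hξ m₁ := by
      rw [← hg, ← hm₁', map_smul, ← hφ]; rfl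
    have e2 : X.presheaf.germ U ξ hξ s₂.1 • l x₂ = F.presheaf.germ U ξ hξ m₂ := by
      rw [← hg, ← hm₂', map_smul, ← hφ]; rfl
    have e0 : F.presheaf.germ U ξ hξ (s₂.1 • m₁ - s₁.1 • m₂) = 0 := by
      rw [map_sub, QCoh.germ_smul', QCoh.germ_smul', ← e1, ← e2, he, smul_comm, sub_self]
    obtain ⟨f, hf, hf0⟩ := (QCoh.germ_eq_zero_iff hF hU hξ _).1 e0
    refine ⟨⟨X.presheaf.germ U ζ hζ f, hp f ((QCoh.mem_basicOpen_iff_notMem hU hξ f).1 hf)⟩, ?_⟩
    show X.presheaf.germ U ζ hζ f • x₁ = X.presheaf.germ U ζ hζ f • x₂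
    have h3 := congrArg (F.presheaf.germ U ζ hζ) hf0
    rw [smul_sub, map_sub, map_zero, sub_eq_zero, QCoh.germ_smul', QCoh.germ_smul', QCoh.germ_smul', QCoh.germ_smul',
      ← hm₁', ← hm₂', smul_comm (X.presheaf.germ U ζ hζ f), smul_comm (X.presheaf.germ U ζ hζ f),
      smul_comm (X.presheaf.germ U ζ hζ f) (X.presheaf.germ U ζ hζ s₁.1),
      smul_comm (X.presheaf.germ U ζ hζ f) (X.presheaf.germ U ζ hζ s₂.1)] at h3
    rw [smul_comm (X.presheaf.germ U ζ hζ s₁.1) (X.presheaf.germ U ζ hζ s₂.1)] at h3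
    exact ((hu s₁).smul_left_cancel.1 ((hu s₂).smul_left_cancel.1 h3))

/-- Lengths at a generalisation. -/
theorem length_stalk_eq (hF : Coh.IsQCoh F) :
    Module.length (X.presheaf.stalk ξ) (F.presheaf.stalk ξ) =
      Module.length (Localization.AtPrime (primeOf h).asIdeal)
        (LocalizedModule (primeOf h).asIdeal.primeCompl (F.presheaf.stalk ζ)) := by
  letI := Module.compHom (F.presheaf.stalk ξ) (X.presheaf.stalkSpecializes h).hom
  letI := (X.presheaf.stalkSpecializes h).hom.toAlgebra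
  haveI := H23.StalkPrimes.isLocalization_primeOf h
  obtain ⟨l, hl⟩ := isLocalizedModule_modSpec F h hF
  haveI := hl
  haveI : IsScalarTower (X.presheaf.stalk ζ) (X.presheaf.stalk ξ) (F.presheaf.stalk ξ) :=
    IsScalarTower.of_algebraMap_smul fun _ _ => rfl
  let e := IsLocalizedModule.iso (primeOf h).asIdeal.primeCompl l
  let σ : Localization.AtPrime (primeOf h).asIdeal ≃ₐ[X.presheaf.stalk ζ] X.presheaf.stalk ξ :=
    IsLocalization.algEquiv (primeOf h).asIdeal.primeCompl _ _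
  let φ : LocalizedModule (primeOf h).asIdeal.primeCompl (F.presheaf.stalk ζ) →ₛₗ[σ.toRingEquiv.toRingHom]
      F.presheaf.stalk ξ :=
    { toFun := e
      map_add' := map_add e
      map_smul' := fun c x => by
        show e (c • x) = σ c • e x
        obtain ⟨⟨a, s⟩, hc⟩ := IsLocalization.surj (primeOf h).asIdeal.primeCompl c
        have hu : IsUnit (σ (algebraMap _ _ (s : X.presheaf.stalk ζ))) :=
          (IsLocalization.map_units _ s).map σ
        refine hu.smul_left_cancel.1 ?_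
        rw [← mul_smul, ← map_mul, mul_comm, hc, σ.commutes, σ.commutes, algebraMap_smul, algebraMap_smul, ← map_smul,
          ← map_smul, ← algebraMap_smul (Localization.AtPrime (primeOf h).asIdeal) (s : X.presheaf.stalk ζ), smul_smul,
          mul_comm, hc, algebraMap_smul] }
  exact (length_eq_of_semilinear φ e.bijective fun s n => ⟨σ.symm s, by
    show s • n = σ (σ.symm s) • n
    rw [σ.apply_symm_apply]⟩).symm

/-- The prime of a generalisation is the stalk of the ideal of its closure. -/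
theorem primeOf_eq_ptIdeal {K : Type u} [Field K] (f : X ⟶ Spec (CommRingCat.of K)) [LocallyOfFiniteType f] {δ : X → ℤ}
    (hδ : Cyc.DeltaCompat f δ (fun _ => 0)) :
    (primeOf h).asIdeal = IntMult.stalkIdeal (IntMult.ptIdeal ξ) ζ := by
  obtain ⟨-, -, -, hprime⟩ := H9Mult.exists_dim_ptIdeal f hδ h
  obtain ⟨y, hy, hyP⟩ := H23.StalkPrimes.exists_point (IntMult.stalkIdeal (IntMult.ptIdeal ξ) ζ)
  have key : ∀ {z : X} (hz : z ⤳ ζ), IntMult.stalkIdeal (IntMult.ptIdeal ξ) ζ ≤ (primeOf hz).asIdeal ↔ ξ ⤳ z := by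
    intro z hz
    constructor
    · intro hle
      by_contra hns
      have htop : IntMult.stalkIdeal (IntMult.ptIdeal ξ) z = ⊤ :=
        H9Mult.stalkIdeal_eq_top _ fun hmem => hns (specializes_iff_mem_closure.2 (by
          rw [← H9Mult.support_ptIdeal]; exact hmem))
      rw [H9Mult.stalkIdeal_eq_stI, ← Div21Lib.stI_generize _ hz, ← H9Mult.stalkIdeal_eq_stI] at htop
      have : IsLocalRing.maximalIdeal (X.presheaf.stalk z) = ⊤ := top_le_iff.1 (htop.ge.trans (Ideal.map_le_iff_le_comap.2 hle))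
      exact (IsLocalRing.maximalIdeal.isMaximal _).ne_top this
    · intro hs g hg
      by_contra hgz
      have hu : IsUnit ((X.presheaf.stalkSpecializes hz).hom g) := by
        by_contra hu
        exact hgz ((mem_primeOf hz g).2 hu)
      have htop : IntMult.stalkIdeal (IntMult.ptIdeal ξ) z = ⊤ := by
        rw [H9Mult.stalkIdeal_eq_stI, ← Div21Lib.stI_generize _ hz, ← H9Mult.stalkIdeal_eq_stI]
        exact Ideal.eq_top_of_isUnit_mem _ (Ideal.mem_map_of_mem _ hg) hu
      obtain ⟨-, -, -, hp⟩ := H9Mult.exists_dim_ptIdeal f hδ hs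
      exact hp.ne_top htop
  rw [← hyP]
  have hξy : ξ ⤳ y := (key hy).1 hyP.ge
  have hyξ : y ⤳ ξ := (H23.StalkPrimes.primeOf_le_iff h hy).1 (hyP.le.trans ((key h).2 (specializes_refl ξ)))
  obtain rfl : ξ = y := (hξy.antisymm hyξ).eq
  rfl

end Groth.Agent.H9Diag
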