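import Groth.Agent.H9Diag.MainPos
import Groth.Agent.H9Diag.Devissage
import Groth.Agent.H9Diag.StalkLoc
import Groth.Agent.CycLib.Supp
import Groth.Prelude.Def_Cyc

/-!
The intersection product of the cycles of two coherent modules.
-/

set_option autoImplicit false
set_option linter.style.haveILetI false
set_option backward.isDefEq.respectTransparency false
set_option backward.isDefEq.respectTransparency.types false
set_option maxHeartbeats 1000000

universe u

open AlgebraicGeometry CategoryTheory Limits TopologicalSpace IsLocalRing Groth.Agent Groth.Agent.CDiv6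
  Groth.Agent.H9Mult

noncomputable section

namespace Groth.Agent.H9Diag

variable {K : Type u} [Field K] {X : Scheme.{u}} (f : X ⟶ Spec (CommRingCat.of K)) [Smooth f] [IsSeparated f]
  [QuasiCompact f] [IsIntegral X] {δ : X → ℤ} (hδ : Cyc.DeltaCompat f δ (fun _ => 0)) {n : ℤ}
  (hn : δ (genericPoint X) = n)

include hδ hn in
theorem exists_dim_stalk (ζ : X) : ∃ D : ℕ, ringKrullDim (X.presheaf.stalk ζ) = D ∧ (D : ℤ) = n - δ ζ := by
  haveI := FibDim.subsingleton_spec_field K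
  have hN : topologicalKrullDim ↥X = (FibDim.rd f (genericPoint X) : ℕ) := by
    rw [← (Homeomorph.Set.univ X).isHomeomorph.topologicalKrullDim_eq,
      ← (genericPoint_spec X).def, FibDim.topologicalKrullDim_closure f]
    rfl
  obtain ⟨D, d, hD, hd, hDd⟩ := codim_add_rd f hN ζ
  refine ⟨D, hD, ?_⟩
  rw [← hn, delta_eq f hδ, delta_eq f hδ, hd, ← hDd]
  push_cast
  ring

include hδ in
/-- The dimension of the quotient by the prime of a generalisation. -/
theorem exists_dim_primeOf {ξ ζ : X} (h : ξ ⤳ ζ) :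
    ∃ a : ℕ, ringKrullDim (X.presheaf.stalk ζ ⧸ (primeOf h).asIdeal) = a ∧ (a : ℤ) = δ ξ - δ ζ := by
  rw [primeOf_eq_ptIdeal h f hδ]
  obtain ⟨a, ha, ha', -⟩ := exists_dim_ptIdeal f hδ h
  exact ⟨a, ha, ha'⟩

omit [IsIntegral X] in
theorem primeOf_point {ζ : X} (P : PrimeSpectrum (X.presheaf.stalk ζ)) :
    primeOf (fromSpecStalk_specializes P) = P :=
  primeOf_fromSpecStalk P

include hδ hn in
theorem chi_stalk_zero {ξ η ζ : X} (hξ : ξ ⤳ ζ) (hη : η ⤳ ζ) (hlt : δ ξ + δ η - n < δ ζ)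
    (he : ∃ e : ℕ, maximalIdeal (X.presheaf.stalk ζ) ^ e ≤ (primeOf hξ).asIdeal ⊔ (primeOf hη).asIdeal) :
    IntMult.chi (X.presheaf.stalk ζ) (X.presheaf.stalk ζ ⧸ (primeOf hξ).asIdeal)
      (X.presheaf.stalk ζ ⧸ (primeOf hη).asIdeal) = 0 := by
  obtain ⟨a, ha, ha'⟩ := exists_dim_primeOf f hδ hξ
  obtain ⟨b, hb, hb'⟩ := exists_dim_primeOf f hδ hη
  obtain ⟨D, hD, hD'⟩ := exists_dim_stalk f hδ hn ζ
  let Δ := pullback.diagonal f
  haveI : IsRegularLocalRing (X.presheaf.stalk ζ) := GrpSchLib.isRegularLocalRing_stalk_of_smooth f ζ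
  haveI : IsRegularLocalRing ((pullback f f).presheaf.stalk (Δ ζ)) :=
    GrpSchLib.isRegularLocalRing_stalk_of_smooth (pullback.fst f f ≫ f) _
  obtain ⟨hfl, hflm⟩ := stalk_flats f (IntMult.ptIdeal η) ζ (by
    show ζ ∈ ((IntMult.ptIdeal η).support : Set X)
    rw [H9Mult.support_ptIdeal]
    exact specializes_iff_mem_closure.1 hη)
  rw [← primeOf_eq_ptIdeal hη f hδ] at hfl
  have h1 : Δ ≫ pullback.fst f f = 𝟙 X := pullback.diagonal_fst f
  have h2 : Δ ≫ pullback.snd f f = 𝟙 X := pullback.diagonal_snd f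
  exact chi_zero_of_diag (Δ.stalkMap ζ).hom (sectStalk Δ _ h1 ζ).hom (sectStalk Δ _ h2 ζ).hom
    (fun x => ConcreteCategory.congr_hom (sectStalk_section Δ _ h1 ζ) x)
    (fun x => ConcreteCategory.congr_hom (sectStalk_section Δ _ h2 ζ) x)
    (sectStalk_flat Δ _ h1 ζ) (sectStalk_flat Δ _ h2 ζ) _ _ hfl hflm hD ha hb (by omega) he

omit [IsIntegral X] in
theorem nontrivial_of_length_ne_zero {ξ : X} {F : X.Modules}
    (h : (Module.length (X.presheaf.stalk ξ) (F.presheaf.stalk ξ)).toNat ≠ 0) : Nontrivial (F.presheaf.stalk ξ) := by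
  by_contra hn'
  rw [not_nontrivial_iff_subsingleton] at hn'
  exact h (by rw [Module.length_eq_zero_iff.2 hn']; rfl)

omit [IsIntegral X] in
theorem mem_support_primeOf_iff (F : X.Modules) (hF : Coh.IsQCoh F) {y ζ : X} (h : y ⤳ ζ) :
    primeOf h ∈ Module.support (X.presheaf.stalk ζ) (F.presheaf.stalk ζ) ↔ Nontrivial (F.presheaf.stalk y) := by
  rw [Module.mem_support_iff, ← Module.length_pos_iff (R := Localization.AtPrime (primeOf h).asIdeal),
    ← length_stalk_eq F h hF, Module.length_pos_iff]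

omit [IsIntegral X] in
theorem nontrivial_of_specializes (F : X.Modules) (hF : Coh.IsQCoh F) {y ζ : X} (h : y ⤳ ζ)
    (hy : Nontrivial (F.presheaf.stalk y)) : Nontrivial (F.presheaf.stalk ζ) := by
  by_contra hn'
  rw [not_nontrivial_iff_subsingleton] at hn'
  have := (mem_support_primeOf_iff F hF h).2 hy
  rw [Module.support_eq_empty] at this
  exact this

theorem supportDim_le {A : Type u} [CommRing A] {M : Type u} [AddCommGroup M] [Module A M] {a : WithBot ℕ∞}
    (h : ∀ p ∈ Module.support A M, ringKrullDim (A ⧸ p.asIdeal) ≤ a) : Module.supportDim A M ≤ a := by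
  refine iSup_le fun l => le_trans ?_ (h (l.toFun 0).1 (l.toFun 0).2)
  rw [ringKrullDim_quotient]
  exact Order.LTSeries.length_le_krullDim
    { length := l.length
      toFun := fun i => ⟨(l.toFun i).1, (PrimeSpectrum.mem_zeroLocus _ _).2
        (SetLike.coe_subset_coe.2 (l.monotone (Fin.zero_le i)))⟩
      step := fun i => l.step i }

theorem finite_support_top {A : Type u} [CommRing A] [IsNoetherianRing A] {M : Type u} [AddCommGroup M] [Module A M]
    [Module.Finite A M] {a : ℕ} (hd : Module.supportDim A M ≤ a) :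
    {p : PrimeSpectrum A | ringKrullDim (A ⧸ p.asIdeal) = a ∧ p ∈ Module.support A M}.Finite := by
  refine Set.Finite.subset (((Module.annihilator A M).finite_minimalPrimes_of_isNoetherianRing).preimage
    (f := PrimeSpectrum.asIdeal) fun a _ b _ h => PrimeSpectrum.ext h) ?_
  rintro p ⟨hp, hl⟩
  have hann : Module.annihilator A M ≤ p.asIdeal := Module.annihilator_le_of_mem_support hl
  refine ⟨⟨p.2, hann⟩, fun q hq hle => ?_⟩
  haveI := hq.1
  refine (eq_of_le_of_dim hle (a := a) ?_ hp.ge).ge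
  refine le_trans ?_ hd
  rw [Module.supportDim_eq_ringKrullDim_quotient_annihilator]
  exact ringKrullDim_le_of_surjective _ (Ideal.Quotient.factor_surjective hq.2)

include hδ hn in
/-- The intersection product of the cycles of two coherent modules. -/
theorem interProd_sheafFun (F G : X.Modules) (hF : Coh.IsCoh F) (hG : Coh.IsCoh G) (r s : ℤ)
    (hr : ∀ x : X, Nontrivial (F.presheaf.stalk x) → δ x ≤ r)
    (hs : ∀ x : X, Nontrivial (G.presheaf.stalk x) → δ x ≤ s)
    (hrs : ∀ x : X, Nontrivial (F.presheaf.stalk x) → Nontrivial (G.presheaf.stalk x) → δ x ≤ r + s - n) (ζ : X) :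
    IntMult.interProd δ n (Cyc.sheafFun δ r F) (Cyc.sheafFun δ s G) ζ =
      if δ ζ = r + s - n then IntMult.chi (X.presheaf.stalk ζ) (F.presheaf.stalk ζ) (G.presheaf.stalk ζ) else 0 := by
  classical
  haveI := FibDim.subsingleton_spec_field K
  haveI : IsLocallyNoetherian X := LocallyOfFiniteType.isLocallyNoetherian f
  have hfun : ∀ (E : X.Modules) (t : ℤ) (x : X), Cyc.sheafFun δ t E x ≠ 0 → δ x = t ∧ Nontrivial (E.presheaf.stalk x) := by
    intro E t x hx
    rw [Cyc.sheafFun] at hx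
    split_ifs at hx with h
    · exact ⟨h, nontrivial_of_length_ne_zero (by exact_mod_cast hx)⟩
    · exact absurd rfl hx
  have hzero : (¬ δ ζ = r + s - n ∨ ¬ Nontrivial (F.presheaf.stalk ζ) ∨ ¬ Nontrivial (G.presheaf.stalk ζ)) →
      IntMult.interProd δ n (Cyc.sheafFun δ r F) (Cyc.sheafFun δ s G) ζ = 0 := by
    intro h
    refine finsum_eq_zero_of_forall_eq_zero ?_
    rintro ⟨⟨ξ, η⟩, hξ, hη, hd⟩
    by_contra h0
    simp only [mul_eq_zero, not_or] at h0
    obtain ⟨h1, h1'⟩ := hfun F r ξ h0.1.1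
    obtain ⟨h2, h2'⟩ := hfun G s η h0.1.2
    dsimp only at hd hξ hη
    rcases h with h | h | h
    · exact h (by omega)
    · exact h (nontrivial_of_specializes F hF.1 hξ h1')
    · exact h (nontrivial_of_specializes G hG.1 hη h2')
  by_cases hζ : δ ζ = r + s - n
  swap
  · rw [if_neg hζ, hzero (Or.inl hζ)]
  rw [if_pos hζ]
  by_cases hFζ : Nontrivial (F.presheaf.stalk ζ)
  swap
  · rw [hzero (Or.inr (Or.inl hFζ))]
    rw [not_nontrivial_iff_subsingleton] at hFζ
    refine (finsum_eq_zero_of_forall_eq_zero fun i => ?_).symm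
    rw [Module.length_eq_zero_iff.2 (subsingleton_tor_of_subsingleton i)]
    simp
  by_cases hGζ : Nontrivial (G.presheaf.stalk ζ)
  swap
  · rw [hzero (Or.inr (Or.inr hGζ))]
    rw [not_nontrivial_iff_subsingleton] at hGζ
    rw [H9Samuel.chi_comm]
    refine (finsum_eq_zero_of_forall_eq_zero fun i => ?_).symm
    rw [Module.length_eq_zero_iff.2 (subsingleton_tor_of_subsingleton i)]
    simp
  haveI hA : IsRegularLocalRing (X.presheaf.stalk ζ) := GrpSchLib.isRegularLocalRing_stalk_of_smooth f ζ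
  haveI := QCoh.finite_stalk_of_isFT hF.1 hF.2 ζ
  haveI := QCoh.finite_stalk_of_isFT hG.1 hG.2 ζ
  obtain ⟨D, hD, hD'⟩ := exists_dim_stalk f hδ hn ζ
  obtain ⟨a, ha⟩ : ∃ a : ℕ, (a : ℤ) = r - δ ζ := ⟨(r - δ ζ).toNat, by have := hr ζ hFζ; omega⟩
  obtain ⟨b, hb⟩ : ∃ b : ℕ, (b : ℤ) = s - δ ζ := ⟨(s - δ ζ).toNat, by have := hs ζ hGζ; omega⟩
  have hab : a + b = D := by omega
  let A := X.presheaf.stalk ζ
  let pt : PrimeSpectrum A → X := fun P => X.fromSpecStalk ζ P
  have hpt : ∀ P, pt P ⤳ ζ := fromSpecStalk_specializes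
  have hdim : ∀ P : PrimeSpectrum A, ∃ c : ℕ, ringKrullDim (A ⧸ P.asIdeal) = c ∧ (c : ℤ) = δ (pt P) - δ ζ := fun P => by
    have h := exists_dim_primeOf f hδ (hpt P)
    rwa [primeOf_point] at h
  have hdim_iff : ∀ (P : PrimeSpectrum A) (c : ℕ) (t : ℤ), (c : ℤ) = t - δ ζ →
      (ringKrullDim (A ⧸ P.asIdeal) = (c : WithBot ℕ∞) ↔ δ (pt P) = t) := fun P c t hc => by
    obtain ⟨k, hk, hk'⟩ := hdim P
    rw [hk]
    constructor
    · intro h
      have : k = c := by exact_mod_cast h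
      omega
    · intro h
      exact_mod_cast (by omega : k = c)
  have hsupp : ∀ (E : X.Modules), Coh.IsQCoh E → ∀ P, P ∈ Module.support A (E.presheaf.stalk ζ) →
      Nontrivial (E.presheaf.stalk (pt P)) := fun E hE P hP =>
    (mem_support_primeOf_iff E hE (hpt P)).1 (by rwa [primeOf_point])
  have hMd : Module.supportDim A (F.presheaf.stalk ζ) ≤ a := supportDim_le fun P hP => by
    obtain ⟨k, hk, hk'⟩ := hdim P
    have := hr _ (hsupp F hF.1 P hP)
    rw [hk]; exact_mod_cast (by omega : k ≤ a)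
  have hNd : Module.supportDim A (G.presheaf.stalk ζ) ≤ b := supportDim_le fun P hP => by
    obtain ⟨k, hk, hk'⟩ := hdim P
    have := hs _ (hsupp G hG.1 P hP)
    rw [hk]; exact_mod_cast (by omega : k ≤ b)
  have hPrim : Primary A (F.presheaf.stalk ζ) (G.presheaf.stalk ζ) := by
    refine Ideal.exists_pow_le_of_le_radical_of_fg ?_ (IsNoetherian.noetherian _)
    rw [Ideal.radical_eq_sInf]
    refine le_sInf fun p hp => ?_
    haveI := hp.2
    obtain ⟨h1, h2⟩ := sup_le_iff.1 hp.1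
    let P : PrimeSpectrum A := ⟨p, inferInstance⟩
    have hle := hrs _ (hsupp F hF.1 P (Module.mem_support_iff_of_finite.2 h1))
      (hsupp G hG.1 P (Module.mem_support_iff_of_finite.2 h2))
    obtain ⟨k, hk, hk'⟩ := hdim P
    obtain rfl : k = 0 := by omega
    haveI : Nontrivial (A ⧸ p) := Ideal.Quotient.nontrivial_iff.2 hp.2.ne_top
    haveI : IsDomain (A ⧸ p) := (Ideal.Quotient.isDomain_iff_prime p).2 hp.2
    haveI : Ring.KrullDimLE 0 (A ⧸ p) := Ring.krullDimLE_iff.2 (by rw [hk])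
    have hm : p.IsMaximal := Ideal.Quotient.maximal_of_isField _ Ring.KrullDimLE.isField_of_isDomain
    exact (IsLocalRing.eq_maximalIdeal hm).ge
  have hvan : ∀ P Q : PrimeSpectrum A, Primary A (A ⧸ P.asIdeal) (A ⧸ Q.asIdeal) →
      ringKrullDim (A ⧸ P.asIdeal) + ringKrullDim (A ⧸ Q.asIdeal) < (D : WithBot ℕ∞) →
      IntMult.chi A (A ⧸ P.asIdeal) (A ⧸ Q.asIdeal) = 0 := by
    rintro P Q ⟨e, he⟩ hlt
    rw [Ideal.annihilator_quotient, Ideal.annihilator_quotient] at he
    obtain ⟨k, hk, hk'⟩ := hdim P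
    obtain ⟨l, hl, hl'⟩ := hdim Q
    rw [hk, hl] at hlt
    have : k + l < D := by exact_mod_cast hlt
    have h := chi_stalk_zero f hδ hn (hpt P) (hpt Q) (by omega) ⟨e, by rwa [primeOf_point, primeOf_point]⟩
    rwa [primeOf_point, primeOf_point] at h
  rw [devissage₂ hvan hab _ _ hPrim hMd hNd]
  let T₁ := (finite_support_top hMd).toFinset
  let T₂ := (finite_support_top hNd).toFinset
  have hT : ∀ (E : Type u) [AddCommGroup E] [Module A E] (P : PrimeSpectrum A), (lenAt P E : ℤ) ≠ 0 →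
      P ∈ Module.support A E := fun E _ _ P h => by
    refine Module.mem_support_iff.2 ?_
    by_contra hn'
    rw [not_nontrivial_iff_subsingleton] at hn'
    exact h (by rw [lenAt, Module.length_eq_zero_iff.2 hn']; rfl)
  have rhs : (∑ᶠ (p : PrimeSpectrum A) (_ : ringKrullDim (A ⧸ p.asIdeal) = a),
      ∑ᶠ (q : PrimeSpectrum A) (_ : ringKrullDim (A ⧸ q.asIdeal) = b),
        (lenAt p (F.presheaf.stalk ζ) : ℤ) * ((lenAt q (G.presheaf.stalk ζ) : ℤ) * IntMult.chi A (A ⧸ p.asIdeal) (A ⧸ q.asIdeal))) =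
      ∑ x ∈ T₁ ×ˢ T₂, (lenAt x.1 (F.presheaf.stalk ζ) : ℤ) * ((lenAt x.2 (G.presheaf.stalk ζ) : ℤ) *
        IntMult.chi A (A ⧸ x.1.asIdeal) (A ⧸ x.2.asIdeal)) := by
    rw [Finset.sum_product]
    refine (finsum_mem_eq_sum_of_subset (s := {p : PrimeSpectrum A | ringKrullDim (A ⧸ p.asIdeal) = a}) _ ?_ ?_).trans
      (Finset.sum_congr rfl fun p hp => ?_)
    · rintro p ⟨hp, hne⟩
      simp only [T₁, Set.Finite.coe_toFinset]
      refine ⟨hp, hT (F.presheaf.stalk ζ) p fun h0 => hne ?_⟩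
      simp [h0]
    · intro p hp
      exact ((finite_support_top hMd).mem_toFinset.1 hp).1
    · refine finsum_mem_eq_sum_of_subset (s := {q : PrimeSpectrum A | ringKrullDim (A ⧸ q.asIdeal) = b}) _ ?_ ?_
      · rintro q ⟨hq, hne⟩
        simp only [T₂, Set.Finite.coe_toFinset]
        refine ⟨hq, hT (G.presheaf.stalk ζ) q fun h0 => hne ?_⟩
        simp [h0]
      · intro q hq
        exact ((finite_support_top hNd).mem_toFinset.1 hq).1
  rw [rhs]
  let Φ : (x : PrimeSpectrum A × PrimeSpectrum A) → x ∈ T₁ ×ˢ T₂ →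
      {p : X × X // p.1 ⤳ ζ ∧ p.2 ⤳ ζ ∧ δ p.1 + δ p.2 - n = δ ζ} := fun x hx =>
    ⟨(pt x.1, pt x.2), hpt _, hpt _, by
      simp only [T₁, T₂, Finset.mem_product, Set.Finite.mem_toFinset] at hx
      have h1 := (hdim_iff x.1 a r ha).1 hx.1.1
      have h2 := (hdim_iff x.2 b s hb).1 hx.2.1
      show δ (pt x.1) + δ (pt x.2) - n = δ ζ
      omega⟩
  rw [IntMult.interProd, finsum_eq_sum_of_support_subset _
    (s := ((T₁ ×ˢ T₂).attach.image fun x => Φ x.1 x.2)) ?_]
  · rw [Finset.sum_image ?_, ← Finset.sum_attach (T₁ ×ˢ T₂)]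
    · refine Finset.sum_congr rfl fun x _ => ?_
      obtain ⟨⟨P, Q⟩, hx⟩ := x
      simp only [T₁, T₂, Finset.mem_product, Set.Finite.mem_toFinset] at hx
      show Cyc.sheafFun δ r F (pt P) * Cyc.sheafFun δ s G (pt Q) * IntMult.mult (IntMult.ptIdeal (pt P)) (IntMult.ptIdeal (pt Q)) ζ = _
      rw [Cyc.sheafFun, Cyc.sheafFun, if_pos ((hdim_iff P a r ha).1 hx.1.1), if_pos ((hdim_iff Q b s hb).1 hx.2.1),
        length_stalk_eq F (hpt P) hF.1, length_stalk_eq G (hpt Q) hG.1, IntMult.mult,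
        H9Samuel.chi_comm (X.presheaf.stalk ζ ⧸ IntMult.stalkIdeal (IntMult.ptIdeal (pt Q)) ζ),
        ← primeOf_eq_ptIdeal (hpt P) f hδ, ← primeOf_eq_ptIdeal (hpt Q) f hδ, primeOf_point, primeOf_point, mul_assoc]
      rfl
    · rintro ⟨x, hx⟩ _ ⟨y, hy⟩ _ hxy
      have h := congrArg Subtype.val hxy
      refine Subtype.ext (Prod.ext ?_ ?_)
      · exact (X.fromSpecStalk ζ).isEmbedding.injective (congrArg Prod.fst h)
      · exact (X.fromSpecStalk ζ).isEmbedding.injective (congrArg Prod.snd h)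
  · rintro ⟨⟨ξ, η⟩, hξ, hη, hd⟩ hne
    simp only [Function.mem_support, ne_eq, mul_eq_zero, not_or] at hne
    obtain ⟨h1, h1'⟩ := hfun F r ξ hne.1.1
    obtain ⟨h2, h2'⟩ := hfun G s η hne.1.2
    have e1 : pt (primeOf hξ) = ξ := fromSpecStalk_primeOf hξ
    have e2 : pt (primeOf hη) = η := fromSpecStalk_primeOf hη
    have hx : (primeOf hξ, primeOf hη) ∈ T₁ ×ˢ T₂ := by
      simp only [T₁, T₂, Finset.mem_product, Set.Finite.mem_toFinset]
      exact ⟨⟨(hdim_iff _ a r ha).2 (by rw [e1]; exact h1), (mem_support_primeOf_iff F hF.1 hξ).2 h1'⟩,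
        ⟨(hdim_iff _ b s hb).2 (by rw [e2]; exact h2), (mem_support_primeOf_iff G hG.1 hη).2 h2'⟩⟩
    simp only [Finset.coe_image, Set.mem_image, Finset.mem_coe, Finset.mem_attach, true_and]
    exact ⟨⟨_, hx⟩, Subtype.ext (Prod.ext e1 e2)⟩
where
  subsingleton_tor_of_subsingleton {A : Type u} [CommRing A] {M N : Type u} [AddCommGroup M] [Module A M]
      [Subsingleton M] [AddCommGroup N] [Module A N] (i : ℕ) : Subsingleton (DRing.Tor A i M N) := by
    rcases i with _ | i
    · obtain ⟨e⟩ := H9Mult.nonempty_tor_zero (ModuleCat.of A M) (ModuleCat.of A N)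
      haveI : Subsingleton (TensorProduct A M N) := inferInstance
      exact e.toEquiv.subsingleton
    · haveI : Module.Flat A M := Module.Flat.of_free
      exact ModuleCat.subsingleton_of_isZero (TorBridge.isZero_tor_succ_of_flat (ModuleCat.of A M) (ModuleCat.of A N) i)

end Groth.Agent.H9Diag
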