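import Groth.Agent.H9Misc.TorBaseChange
import Groth.Agent.H9Mult.TorVanish
import Groth.Prelude.Def_IntMult

/-!
Reduction to the diagonal, local algebra: two flat sections of a surjection `B → A`.
-/

set_option autoImplicit false
set_option linter.style.haveILetI false
set_option backward.isDefEq.respectTransparency false
set_option maxHeartbeats 1000000

universe u

open CategoryTheory CategoryTheory.Limits TensorProduct Groth.Agent Groth.Agent.H9Mult

noncomputable section

namespace Groth.Agent.H9Diag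

/-- A bijective semilinear map with essentially surjective scalars preserves the length. -/
theorem length_eq_of_semilinear {R S : Type u} [CommRing R] [CommRing S] {σ : R →+* S} {M N : Type u}
    [AddCommGroup M] [Module R M] [AddCommGroup N] [Module S N] (φ : M →ₛₗ[σ] N) (hφ : Function.Bijective φ)
    (h : ∀ (s : S) (n : N), ∃ r : R, s • n = σ r • n) : Module.length R M = Module.length S N := by
  let e : Submodule R M ≃o Submodule S N :=
    { toFun := fun p =>
        { carrier := φ '' (p : Set M)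
          add_mem' := by
            rintro _ _ ⟨x, hx, rfl⟩ ⟨y, hy, rfl⟩
            exact ⟨x + y, p.add_mem hx hy, map_add φ x y⟩
          zero_mem' := ⟨0, p.zero_mem, map_zero φ⟩
          smul_mem' := by
            rintro s _ ⟨x, hx, rfl⟩
            obtain ⟨r, hr⟩ := h s (φ x)
            exact ⟨r • x, p.smul_mem r hx, by rw [map_smulₛₗ, ← hr]⟩ }
      invFun := fun q =>
        { carrier := φ ⁻¹' (q : Set N)
          add_mem' := fun {x y} hx hy => by
            show φ (x + y) ∈ q
            rw [map_add]; exact q.add_mem hx hy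
          zero_mem' := by
            show φ 0 ∈ q
            rw [map_zero]; exact q.zero_mem
          smul_mem' := fun r x hx => by
            show φ (r • x) ∈ q
            rw [map_smulₛₗ]; exact q.smul_mem _ hx }
      left_inv := fun p => SetLike.coe_injective (Set.preimage_image_eq _ hφ.1)
      right_inv := fun q => SetLike.coe_injective (Set.image_preimage_eq _ hφ.2)
      map_rel_iff' := fun {p q} => Set.image_subset_image_iff hφ.1 }
  refine WithBot.coe_injective ?_
  rw [Module.coe_length, Module.coe_length]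
  exact Order.krullDim_eq_of_orderIso e

/-- `R' ⊗ R/I = R'/IR'`. -/
theorem nonempty_baseChange_quot {R R' : Type u} [CommRing R] [CommRing R'] [Algebra R R'] (I : Ideal R) :
    Nonempty ((R' ⊗[R] (R ⧸ I)) ≃ₗ[R'] R' ⧸ I.map (algebraMap R R')) :=
  ⟨(Algebra.TensorProduct.quotIdealMapEquivTensorQuot R' I).symm.toLinearEquiv⟩

theorem length_tor_congr {R : Type u} [CommRing R] {M M' N N' : Type u} [AddCommGroup M] [Module R M]
    [AddCommGroup M'] [Module R M'] [AddCommGroup N] [Module R N] [AddCommGroup N'] [Module R N']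
    (e : M ≃ₗ[R] M') (e' : N ≃ₗ[R] N') (n : ℕ) :
    Module.length R (DRing.Tor R n M N) = Module.length R (DRing.Tor R n M' N') :=
  (((Tor (ModuleCat.{u} R) n).mapIso e.toModuleIso).app _ ≪≫
    ((Tor (ModuleCat.{u} R) n).obj (ModuleCat.of R M')).mapIso e'.toModuleIso).toLinearEquiv.length_eq

theorem subsingleton_tor_congr {R : Type u} [CommRing R] {M M' N N' : Type u} [AddCommGroup M] [Module R M]
    [AddCommGroup M'] [Module R M'] [AddCommGroup N] [Module R N] [AddCommGroup N'] [Module R N']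
    (e : M ≃ₗ[R] M') (e' : N ≃ₗ[R] N') (n : ℕ) (h : Subsingleton (DRing.Tor R n M N)) :
    Subsingleton (DRing.Tor R n M' N') :=
  (((Tor (ModuleCat.{u} R) n).mapIso e.toModuleIso).app _ ≪≫
    ((Tor (ModuleCat.{u} R) n).obj (ModuleCat.of R M')).mapIso e'.toModuleIso).toLinearEquiv.symm.toEquiv.subsingleton

theorem subsingleton_tor_succ_of_flat_right {R : Type u} [CommRing R] (M N : Type u) [AddCommGroup M] [Module R M]
    [AddCommGroup N] [Module R N] [Module.Flat R N] (n : ℕ) : Subsingleton (DRing.Tor R (n + 1) M N) :=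
  ModuleCat.subsingleton_of_isZero ((TorBridge.isZero_tor_succ_of_flat (ModuleCat.of R N) (ModuleCat.of R M) n).of_iso
    (H9Misc.TorBalance.torSymm (ModuleCat.of R M) (ModuleCat.of R N) (n + 1)))

theorem length_tor_comm {R : Type u} [CommRing R] (M N : Type u) [AddCommGroup M] [Module R M]
    [AddCommGroup N] [Module R N] (n : ℕ) :
    Module.length R (DRing.Tor R n M N) = Module.length R (DRing.Tor R n N M) :=
  (H9Misc.TorBalance.torSymm (ModuleCat.of R M) (ModuleCat.of R N) n).toLinearEquiv.length_eq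

/-- Base change of `Tor` from a cyclic module. -/
theorem exists_semilinear_quot {R R' : Type u} [CommRing R] [CommRing R'] [Algebra R R'] (I : Ideal R)
    (hI : ∀ q, Subsingleton (DRing.Tor R (q + 1) (R ⧸ I) R'))
    (Q : Type u) [AddCommGroup Q] [Module R' Q] [Module R Q] [IsScalarTower R R' Q] (n : ℕ) :
    ∃ φ : DRing.Tor R n (R ⧸ I) Q →ₛₗ[algebraMap R R'] DRing.Tor R' n (R' ⧸ I.map (algebraMap R R')) Q,
      Function.Bijective φ := by
  obtain ⟨φ, hφ⟩ := H9Misc.TorBaseChange.exists_semilinear R R' Q (R ⧸ I) (fun q hq => by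
    obtain ⟨k, rfl⟩ : ∃ k, q = k + 1 := ⟨q - 1, by omega⟩
    exact hI k) n
  obtain ⟨e⟩ := nonempty_baseChange_quot (R' := R') I
  let l := (((Tor (ModuleCat.{u} R') n).mapIso e.toModuleIso).app (ModuleCat.of R' Q)).toLinearEquiv
  exact ⟨l.toLinearMap.comp φ, l.bijective.comp hφ⟩

/-- Change of rings to a quotient ring preserves the length of `Tor`. -/
theorem length_tor_quot {R : Type u} [CommRing R] (I J : Ideal R)
    (hI : ∀ q, Subsingleton (DRing.Tor R (q + 1) (R ⧸ I) (R ⧸ J)))
    (Q : Type u) [AddCommGroup Q] [Module (R ⧸ J) Q] [Module R Q] [IsScalarTower R (R ⧸ J) Q] (n : ℕ) :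
    Module.length R (DRing.Tor R n (R ⧸ I) Q) =
      Module.length (R ⧸ J) (DRing.Tor (R ⧸ J) n ((R ⧸ J) ⧸ I.map (algebraMap R (R ⧸ J))) Q) := by
  obtain ⟨φ, hφ⟩ := exists_semilinear_quot I hI Q n
  refine length_eq_of_semilinear φ hφ fun s m => ?_
  obtain ⟨r, hr⟩ := Ideal.Quotient.mk_surjective s
  exact ⟨r, by rw [← hr]; rfl⟩

theorem subsingleton_tor_flat {R R' : Type u} [CommRing R] [CommRing R'] [Algebra R R'] [Module.Flat R R']
    (I : Ideal R) (Q : Type u) [AddCommGroup Q] [Module R' Q] [Module R Q] [IsScalarTower R R' Q]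
    [Module.Flat R Q] (n : ℕ) :
    Subsingleton (DRing.Tor R' (n + 1) (R' ⧸ I.map (algebraMap R R')) Q) := by
  obtain ⟨φ, hφ⟩ := exists_semilinear_quot (R' := R') I (fun q => subsingleton_tor_succ_of_flat_right _ _ q) Q (n + 1)
  haveI := subsingleton_tor_succ_of_flat_right (R := R) (R ⧸ I) Q n
  exact hφ.2.subsingleton

variable {A B : Type u} [CommRing A] [CommRing B] (μ : B →+* A) (a b : A →+* B)
  (ha : ∀ x, μ (a x) = x) (hb : ∀ x, μ (b x) = x)

include ha hb in
/-- Reduction to the diagonal. -/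
theorem length_tor_diag (hfa : a.Flat) (hfb : b.Flat) (I J : Ideal A)
    (hfl : (((Ideal.Quotient.mk (J.map b)).comp a)).Flat) (n : ℕ) :
    Module.length B (DRing.Tor B n (B ⧸ RingHom.ker μ) (B ⧸ (I.map a ⊔ J.map b))) =
      Module.length A (DRing.Tor A n (A ⧸ I) (A ⧸ J)) := by
  classical
  let K := RingHom.ker μ
  let Jb := J.map b
  have hμs : Function.Surjective μ := fun x => ⟨a x, ha x⟩
  -- `Tor` of the diagonal against `B / bJ` vanishes
  have P3 : ∀ q, Subsingleton (DRing.Tor B (q + 1) (B ⧸ K) (B ⧸ Jb)) := by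
    letI := b.toAlgebra
    haveI : Module.Flat A B := hfb
    have e : A ≃ₗ[A] (B ⧸ K) := LinearEquiv.ofBijective (Algebra.linearMap A (B ⧸ K))
      ⟨fun x y h => by
        have h' : (Ideal.Quotient.mk K (b x)) = Ideal.Quotient.mk K (b y) := h
        rw [Ideal.Quotient.eq, RingHom.mem_ker, map_sub, hb, hb, sub_eq_zero] at h'
        exact h', fun z => by
        obtain ⟨z, rfl⟩ := Ideal.Quotient.mk_surjective z
        exact ⟨μ z, (Ideal.Quotient.eq).2 (by rw [RingHom.mem_ker, map_sub]; exact sub_eq_zero.2 (hb (μ z)))⟩⟩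
    haveI : Module.Flat A (B ⧸ K) := Module.Flat.of_linearEquiv e.symm
    intro q
    haveI := subsingleton_tor_flat (R' := B) J (B ⧸ K) q
    exact (H9Misc.TorBalance.torSymm (ModuleCat.of B (B ⧸ K)) (ModuleCat.of B (B ⧸ Jb)) (q + 1)).toLinearEquiv.toEquiv.subsingleton
  letI := a.toAlgebra
  haveI : Module.Flat A B := hfa
  let Ia := I.map a
  have P2 : ∀ q, Subsingleton (DRing.Tor B (q + 1) (B ⧸ Ia) (B ⧸ Jb)) := by
    haveI : Module.Flat A (B ⧸ Jb) := by
      rw [← RingHom.flat_algebraMap_iff]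
      exact hfl
    exact fun q => subsingleton_tor_flat (R' := B) I (B ⧸ Jb) q
  let I' := Ia.map (algebraMap B (B ⧸ Jb))
  let K' := K.map (algebraMap B (B ⧸ Jb))
  let Q := (B ⧸ Jb) ⧸ K'
  let e1 : ((B ⧸ Jb) ⧸ I') ≃ₗ[B] B ⧸ (Ia ⊔ Jb) :=
    (DoubleQuot.quotQuotEquivQuotSupₐ B Jb Ia).toLinearEquiv.trans (Submodule.quotEquivOfEq _ _ (sup_comm Jb Ia))
  rw [← length_tor_congr (LinearEquiv.refl B _) e1 n, length_tor_quot K Jb P3 ((B ⧸ Jb) ⧸ I') n,
    length_tor_comm, ← length_tor_quot Ia Jb P2 ((B ⧸ Jb) ⧸ K') n]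
  obtain ⟨φ, hφ⟩ := exists_semilinear_quot (R' := B) I (fun q => subsingleton_tor_succ_of_flat_right _ _ q) Q n
  have hK : ∀ (z : B), z ∈ K → ∀ q : Q, z • q = 0 := by
    intro z hz q
    obtain ⟨q, rfl⟩ := Ideal.Quotient.mk_surjective q
    obtain ⟨q, rfl⟩ := Ideal.Quotient.mk_surjective q
    show Ideal.Quotient.mk K' (Ideal.Quotient.mk Jb (z * q)) = 0
    exact Ideal.Quotient.eq_zero_iff_mem.2 (Ideal.mem_map_of_mem _ (K.mul_mem_right _ hz))
  refine Eq.trans (length_eq_of_semilinear φ hφ fun z m => ⟨μ z, ?_⟩).symm ?_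
  rotate_left
  · -- the diagonal quotient of `B / bJ` is `A / J`
    let l : A →ₗ[A] Q := Algebra.linearMap A Q
    have hl : Function.Surjective l := fun q => by
      obtain ⟨q, rfl⟩ := Ideal.Quotient.mk_surjective q
      obtain ⟨q, rfl⟩ := Ideal.Quotient.mk_surjective q
      refine ⟨μ q, ?_⟩
      show Ideal.Quotient.mk K' (Ideal.Quotient.mk Jb (a (μ q))) = Ideal.Quotient.mk K' (Ideal.Quotient.mk Jb q)
      refine Ideal.Quotient.eq.2 ?_
      rw [← map_sub]
      exact Ideal.mem_map_of_mem _ (by rw [RingHom.mem_ker, map_sub, ha, sub_self])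
    have hker : LinearMap.ker l = J := by
      ext x
      show Ideal.Quotient.mk K' (Ideal.Quotient.mk Jb (a x)) = 0 ↔ x ∈ J
      rw [Ideal.Quotient.eq_zero_iff_mem]
      show (a x) ∈ (K.map (algebraMap B (B ⧸ Jb))).comap (Ideal.Quotient.mk Jb) ↔ _
      rw [show algebraMap B (B ⧸ Jb) = Ideal.Quotient.mk Jb from rfl,
        Ideal.comap_map_of_surjective _ Ideal.Quotient.mk_surjective, ← RingHom.ker_eq_comap_bot, Ideal.mk_ker]
      constructor
      · intro h
        obtain ⟨k, hk, j, hj, hkj⟩ := Submodule.mem_sup.1 h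
        have hjJ : μ j ∈ J := by
          have := Ideal.mem_map_of_mem μ hj
          rwa [Ideal.map_map, show μ.comp b = RingHom.id A from RingHom.ext hb, Ideal.map_id] at this
        have := congrArg μ hkj
        rw [map_add, RingHom.mem_ker.1 hk, zero_add, ha] at this
        rwa [← this]
      · intro hx
        refine Submodule.mem_sup.2 ⟨a x - b x, ?_, b x, Ideal.mem_map_of_mem _ hx, sub_add_cancel _ _⟩
        rw [RingHom.mem_ker, map_sub, ha, hb, sub_self]
    let e2 : (A ⧸ J) ≃ₗ[A] Q := (Submodule.quotEquivOfEq _ _ hker.symm).trans (l.quotKerEquivOfSurjective hl)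
    exact (length_tor_congr (LinearEquiv.refl A _) e2 n).symm
  · -- `B` acts through `μ`
    show z • m = a (μ z) • m
    rw [← sub_eq_zero, ← sub_smul]
    exact smul_tor_eq_zero_right (ModuleCat.of B (B ⧸ I.map (algebraMap A B))) (ModuleCat.of B Q) n _
      (fun q => hK _ (by rw [RingHom.mem_ker, map_sub, ha, sub_self]) q) m

include ha hb in
theorem chi_diag (hfa : a.Flat) (hfb : b.Flat) (I J : Ideal A)
    (hfl : (((Ideal.Quotient.mk (J.map b)).comp a)).Flat) :
    IntMult.chi B (B ⧸ RingHom.ker μ) (B ⧸ (I.map a ⊔ J.map b)) = IntMult.chi A (A ⧸ I) (A ⧸ J) :=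
  finsum_congr fun n => by rw [length_tor_diag μ a b ha hb hfa hfb I J hfl n]

end Groth.Agent.H9Diag
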