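import Groth.Agent.H9Diag.Pullback
import Groth.Agent.H9ChowK.CycleSheaf
import Groth.Agent.H9Assoc.Global
import Groth.Agent.H23.P1Fam

/-!
Bilinearity of the intersection product on coefficient functions, and cycles as differences of sheaf cycles.
-/

set_option autoImplicit false
set_option linter.style.haveILetI false
set_option backward.isDefEq.respectTransparency false
set_option maxHeartbeats 1000000

universe u

open AlgebraicGeometry CategoryTheory Groth.Agent

noncomputable section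

namespace Groth.Agent.H9Diag

variable {X : Scheme.{u}}

/-- A coefficient function with finitely many nonzero values on the generalisations of each point. -/
def FinGen (a : X → ℤ) : Prop := ∀ ζ : X, {ξ : X | ξ ⤳ ζ ∧ a ξ ≠ 0}.Finite

theorem finGen_cycle (α : AlgebraicCycle X ℤ) : FinGen ⇑α := fun ζ => by
  obtain ⟨U, hU, hζ⟩ := QCoh.exists_affine_mem ζ
  exact (CycLib.finite_support_inter_affine α hU).subset fun ξ h => ⟨h.1.mem_open U.2 hζ, h.2⟩

theorem finGen_sheafFun [IsLocallyNoetherian X] {δ : X → ℤ} (hd : Cyc.IsDimFun X δ) {m : ℤ} {F : X.Modules}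
    (hF : Coh.IsCoh F) (hdim : ∀ z : X, Nontrivial (F.presheaf.stalk z) → δ z ≤ m) :
    FinGen (Cyc.sheafFun δ m F) := fun ζ => by
  obtain ⟨U, hU, hfin⟩ := H23.P1Fam.locFin_sheafFun hd hF hdim ζ
  obtain ⟨V, hVU, hV, hζ⟩ := mem_nhds_iff.1 hU
  exact hfin.subset fun ξ h => ⟨hVU (h.1.mem_open hV hζ), h.2⟩

theorem finite_pairs {δ : X → ℤ} {n : ℤ} {a b : X → ℤ} (ha : FinGen a) (hb : FinGen b) (ζ : X) :
    (Function.support fun p : {p : X × X // p.1 ⤳ ζ ∧ p.2 ⤳ ζ ∧ δ p.1 + δ p.2 - n = δ ζ} =>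
      a p.1.1 * b p.1.2 * IntMult.mult (IntMult.ptIdeal p.1.1) (IntMult.ptIdeal p.1.2) ζ).Finite := by
  refine ((((ha ζ).prod (hb ζ))).preimage Subtype.val_injective.injOn).subset fun p hp => ?_
  simp only [Function.mem_support, ne_eq, mul_eq_zero, not_or] at hp
  exact ⟨⟨p.2.1, hp.1.1⟩, p.2.2.1, hp.1.2⟩

theorem interProd_sub_left {δ : X → ℤ} {n : ℤ} {a a' b : X → ℤ} (ha : FinGen a) (ha' : FinGen a') (hb : FinGen b) :
    IntMult.interProd δ n (a - a') b = IntMult.interProd δ n a b - IntMult.interProd δ n a' b := by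
  funext ζ
  rw [Pi.sub_apply]
  simp only [IntMult.interProd]
  rw [← finsum_sub_distrib (finite_pairs ha hb ζ) (finite_pairs ha' hb ζ)]
  exact finsum_congr fun p => by rw [Pi.sub_apply]; ring

theorem interProd_sub_right {δ : X → ℤ} {n : ℤ} {a b b' : X → ℤ} (ha : FinGen a) (hb : FinGen b) (hb' : FinGen b') :
    IntMult.interProd δ n a (b - b') = IntMult.interProd δ n a b - IntMult.interProd δ n a b' := by
  rw [H9Assoc.interProd_comm δ n a, interProd_sub_left hb hb' ha, H9Assoc.interProd_comm δ n b,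
    H9Assoc.interProd_comm δ n b']

theorem interProd_sub_sub {δ : X → ℤ} {n : ℤ} {a a' b b' : X → ℤ} (ha : FinGen a) (ha' : FinGen a') (hb : FinGen b)
    (hb' : FinGen b') (hbb : FinGen (b - b')) :
    IntMult.interProd δ n (a - a') (b - b') = (IntMult.interProd δ n a b - IntMult.interProd δ n a b') -
      (IntMult.interProd δ n a' b - IntMult.interProd δ n a' b') := by
  rw [interProd_sub_left ha ha' hbb, interProd_sub_right ha hb hb', interProd_sub_right ha' hb hb']

theorem pullFun_sub {Y : Scheme.{u}} (f : X ⟶ Y) (δX : X → ℤ) (δY : Y → ℤ) (r : ℤ) (a a' : Y → ℤ) :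
    Cyc.pullFun f δX δY r (a - a') = Cyc.pullFun f δX δY r a - Cyc.pullFun f δX δY r a' := by
  funext x
  simp only [Cyc.pullFun, Pi.sub_apply]
  split_ifs <;> ring

theorem FinGen.sub {a a' : X → ℤ} (ha : FinGen a) (ha' : FinGen a') : FinGen (a - a') := fun ζ =>
  ((ha ζ).union (ha' ζ)).subset fun ξ h => by
    by_contra hc
    simp only [Set.mem_union, Set.mem_ofPred_eq, not_or, not_and, ne_eq, not_not] at hc
    exact h.2 (by rw [Pi.sub_apply, hc.1 h.1, hc.2 h.1, sub_zero])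

/-- The support of the sheaf of the positive part of a cycle. -/
theorem exists_of_nontrivial_cycleSheafPos [IsLocallyNoetherian X] {α : X → ℤ} (h : H9ChowK.FinPts α) {x : X}
    (hx : Nontrivial ((Cyc.cycleSheafPos α).presheaf.stalk x)) : ∃ ξ, 0 < α ξ ∧ ξ ⤳ x := by
  obtain ⟨i, hi⟩ := H9ChowK.exists_summand_of_mem_support _ (fun i => H9ChowK.isQCoh_closure _)
    (H9ChowK.locFin_closure h) (show x ∈ CohB1.support (Cyc.cycleSheafPos α) from
      not_subsingleton_iff_nontrivial.2 hx)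
  exact ⟨i.1.1, i.1.2, specializes_iff_mem_closure.2 (H9ChowK.support_closure_subset _ hi)⟩

/-- Properly intersecting cycles are differences of sheaf cycles with properly intersecting supports. -/
theorem exists_sheaves [IsLocallyNoetherian X] {δ : X → ℤ} (hd : Cyc.IsDimFun X δ) {n r s : ℤ}
    (α β : AlgebraicCycle X ℤ) (hα : α ∈ Cyc.Zk X δ r) (hβ : β ∈ Cyc.Zk X δ s)
    (hprop : IntMult.IntersectProperly δ n ⇑α ⇑β) :
    ∃ F G : Bool → X.Modules,
      (⇑α = Cyc.sheafFun δ r (F true) - Cyc.sheafFun δ r (F false)) ∧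
      (⇑β = Cyc.sheafFun δ s (G true) - Cyc.sheafFun δ s (G false)) ∧
      ∀ i j, Coh.IsCoh (F i) ∧ Coh.IsCoh (G j) ∧ (∀ x : X, Nontrivial ((F i).presheaf.stalk x) → δ x ≤ r) ∧
        (∀ x : X, Nontrivial ((G j).presheaf.stalk x) → δ x ≤ s) ∧
        (∀ x : X, Nontrivial ((F i).presheaf.stalk x) → Nontrivial ((G j).presheaf.stalk x) → δ x ≤ r + s - n) := by
  let sg : Bool → ℤ := fun i => if i then 1 else -1
  have hFP : ∀ (γ : AlgebraicCycle X ℤ) (i : Bool), H9ChowK.FinPts (sg i • ⇑γ) := fun γ i U =>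
    (H9ChowK.finPts_cycle γ U).subset (Set.inter_subset_inter_right _ (Function.support_const_smul_subset _ _))
  have hk : ∀ (γ : AlgebraicCycle X ℤ) (t : ℤ), γ ∈ Cyc.Zk X δ t → ∀ i x, (sg i • ⇑γ) x ≠ 0 → δ x = t :=
    fun γ t hγ i x hx => by_contra fun hne => hx (by simp [hγ x hne])
  have hsum : ∀ (γ : AlgebraicCycle X ℤ) (t : ℤ), γ ∈ Cyc.Zk X δ t →
      ⇑γ = Cyc.sheafFun δ t (Cyc.cycleSheafPos (sg true • ⇑γ)) - Cyc.sheafFun δ t (Cyc.cycleSheafPos (sg false • ⇑γ)) := by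
    intro γ t hγ
    funext x
    rw [Pi.sub_apply, H9ChowK.sheafFun_cycleSheafPos hd (hFP γ true) (hk γ t hγ true),
      H9ChowK.sheafFun_cycleSheafPos hd (hFP γ false) (hk γ t hγ false)]
    simp only [sg, Pi.smul_apply, smul_eq_mul, if_true, Bool.false_eq_true, if_false]
    omega
  refine ⟨fun i => Cyc.cycleSheafPos (sg i • ⇑α), fun j => Cyc.cycleSheafPos (sg j • ⇑β), hsum α r hα, hsum β s hβ,
    fun i j => ?_⟩
  obtain ⟨hF, hFr⟩ := H9ChowK.cohLe_cycleSheafPos hd (hFP α i) (hk α r hα i)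
  obtain ⟨hG, hGs⟩ := H9ChowK.cohLe_cycleSheafPos hd (hFP β j) (hk β s hβ j)
  refine ⟨hF, hG, hFr, hGs, fun x hx hx' => ?_⟩
  obtain ⟨ξ, hξ, hξx⟩ := exists_of_nontrivial_cycleSheafPos (hFP α i) hx
  obtain ⟨η, hη, hηx⟩ := exists_of_nontrivial_cycleSheafPos (hFP β j) hx'
  have h1 : α ξ ≠ 0 := fun h0 => by simp [h0] at hξ
  have h2 : β η ≠ 0 := fun h0 => by simp [h0] at hη
  rw [← (by_contra fun hne => h1 (hα ξ hne) : δ ξ = r), ← (by_contra fun hne => h2 (hβ η hne) : δ η = s)]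
  exact hprop ξ η x h1 h2 hξx hηx

end Groth.Agent.H9Diag
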