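import Groth.Agent.H9Mult.TorVanish
import Groth.Agent.H9Samuel.Positive
import Groth.Agent.PushAmp.TorShift
import Groth.Agent.RegLoc6.Serre

/-!
Additivity of the Tor Euler characteristic over a regular local ring.
-/

set_option autoImplicit false
set_option linter.style.haveILetI false
set_option backward.isDefEq.respectTransparency false
set_option backward.isDefEq.respectTransparency.types false
set_option maxHeartbeats 1000000

universe u

open CategoryTheory CategoryTheory.Limits IsLocalRing TensorProduct Groth.Agent Groth.Agent.H9Mult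
  Groth.Agent.RegLoc6

noncomputable section

namespace Groth.Agent.H9Diag

variable {A : Type u} [CommRing A]

theorem finite_tor [IsNoetherianRing A] (N : Type u) [AddCommGroup N] [Module A N] [Module.Finite A N] :
    ∀ (i : ℕ) (M : Type u) [AddCommGroup M] [Module A M] [Module.Finite A M],
      Module.Finite A (DRing.Tor A i M N) := by
  intro i
  induction i with
  | zero =>
    intro M _ _ _
    obtain ⟨e⟩ := nonempty_tor_zero (ModuleCat.of A M) (ModuleCat.of A N)
    exact Module.Finite.equiv e.symm
  | succ i ih =>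
    intro M _ _ _
    obtain ⟨n, g, hg⟩ := Module.Finite.exists_fin' A M
    have hS := LinearMap.shortExact_shortComplexKer hg
    haveI : Module.Flat A (g.shortComplexKer).X₂ := inferInstanceAs (Module.Flat A (Fin n → A))
    cases i with
    | zero =>
      obtain ⟨e⟩ := PushAmp.nonempty_tor_one (ModuleCat.of A N) hS
      haveI : IsNoetherian A (((g.shortComplexKer).X₁ : Type u) ⊗[A] (ModuleCat.of A N : Type u)) :=
        isNoetherian_of_isNoetherianRing_of_finite A ((LinearMap.ker g) ⊗[A] N)
      haveI : Module.Finite A (LinearMap.ker ((g.shortComplexKer).f.hom.rTensor (ModuleCat.of A N))) :=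
        Module.Finite.of_injective (LinearMap.ker ((g.shortComplexKer).f.hom.rTensor (ModuleCat.of A N))).subtype
          Subtype.val_injective
      exact Module.Finite.equiv e.toLinearEquiv.symm
    | succ i =>
      obtain ⟨e⟩ := PushAmp.nonempty_tor_shift (ModuleCat.of A N) hS i
      haveI := ih (LinearMap.ker g)
      exact Module.Finite.equiv e.toLinearEquiv.symm

theorem subsingleton_tor_of_pdLE [IsNoetherianRing A] (N : Type u) [AddCommGroup N] [Module A N] :
    ∀ (q : ℕ) (M : Type u) [AddCommGroup M] [Module A M] [Module.Finite A M], PdLE A q M → ∀ i, q < i →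
      Subsingleton (DRing.Tor A i M N) := by
  intro q
  induction q with
  | zero =>
    intro M _ _ _ hM i hi
    haveI : Module.Projective A M := pdLE_zero_iff.1 hM
    obtain ⟨j, rfl⟩ := Nat.exists_eq_succ_of_ne_zero hi.ne'
    exact ModuleCat.subsingleton_of_isZero
      (TorBridge.isZero_tor_succ_of_flat (ModuleCat.of A M) (ModuleCat.of A N) j)
  | succ q ih =>
    intro M _ _ _ hM i hi
    obtain ⟨n, g, hg⟩ := Module.Finite.exists_fin' A M
    have hS := LinearMap.shortExact_shortComplexKer hg
    haveI : Module.Flat A (g.shortComplexKer).X₂ := inferInstanceAs (Module.Flat A (Fin n → A))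
    obtain ⟨j, rfl⟩ : ∃ j, i = j + 2 := ⟨i - 2, by omega⟩
    obtain ⟨e⟩ := PushAmp.nonempty_tor_shift (ModuleCat.of A N) hS j
    haveI := ih (LinearMap.ker g) ((pdLE_succ_iff g hg).1 hM) (j + 1) (by omega)
    exact e.toLinearEquiv.toEquiv.subsingleton

/-- The supports meet only at the closed point. -/
def Primary (A : Type u) [CommRing A] [IsLocalRing A] (M N : Type u) [AddCommGroup M] [Module A M] [AddCommGroup N] [Module A N] : Prop :=
  ∃ e : ℕ, maximalIdeal A ^ e ≤ Module.annihilator A M ⊔ Module.annihilator A N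

theorem Primary.symm [IsLocalRing A] {M N : Type u} [AddCommGroup M] [Module A M] [AddCommGroup N] [Module A N]
    (h : Primary A M N) : Primary A N M :=
  h.imp fun e he => he.trans_eq (sup_comm _ _)

theorem Primary.mono [IsLocalRing A] {M N M' : Type u} [AddCommGroup M] [Module A M] [AddCommGroup N] [Module A N]
    [AddCommGroup M'] [Module A M'] (h : Primary A M N) (hle : Module.annihilator A M ≤ Module.annihilator A M') :
    Primary A M' N :=
  h.imp fun e he => he.trans (sup_le_sup_right hle _)

theorem length_tor_ne_top [IsLocalRing A] [IsNoetherianRing A] {M N : Type u} [AddCommGroup M] [Module A M]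
    [Module.Finite A M] [AddCommGroup N] [Module A N] [Module.Finite A N] (h : Primary A M N) (i : ℕ) :
    Module.length A (DRing.Tor A i M N) ≠ ⊤ := by
  obtain ⟨e, he⟩ := h
  haveI : Module.Finite A (DRing.Tor A i M N) := finite_tor (A := A) N i M
  refine HSLib.length_ne_top_of_forall_isMaximal (A := A) (N := DRing.Tor A i M N) fun p hp => ?_
  have hle : maximalIdeal A ^ e ≤ p.asIdeal := fun r hr => Module.annihilator_le_of_mem_support hp
    (Module.mem_annihilator.2 fun t =>
      mem_annihilator_tor_of_mem_sup (A := A) (K := ModuleCat.of A M) (X := ModuleCat.of A N) i (he hr) t)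
  rw [← (maximalIdeal.isMaximal A).eq_of_le p.2.ne_top (p.2.le_of_pow_le hle)]
  exact maximalIdeal.isMaximal A

theorem length_middle {P Q R : Type u} [AddCommGroup P] [Module A P] [AddCommGroup Q] [Module A Q]
    [AddCommGroup R] [Module A R] (f : P →ₗ[A] Q) (g : Q →ₗ[A] R) (h : Function.Exact f g) :
    Module.length A Q = Module.length A (LinearMap.range f) + Module.length A (LinearMap.range g) :=
  Module.length_eq_add_of_exact (LinearMap.range f).subtype g.rangeRestrict Subtype.val_injective
    g.surjective_rangeRestrict (fun y => by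
      rw [show g.rangeRestrict y = 0 ↔ g y = 0 from Subtype.ext_iff, h y]
      simp)

/-- The alternating sum of a long exact sequence. -/
theorem alt_sum_les (D : ℕ) (T₁ T₂ T₃ : ℕ → ℕ) (x y z : ℕ → ℕ)
    (h1 : ∀ i, T₁ i = z (i + 1) + x i) (h2 : ∀ i, T₂ i = x i + y i) (h3 : ∀ i, T₃ i = y i + z i)
    (hz0 : z 0 = 0) (hzD : z (D + 1) = 0) :
    ∑ i ∈ Finset.range (D + 1), (-1 : ℤ) ^ i * T₂ i =
      ∑ i ∈ Finset.range (D + 1), (-1 : ℤ) ^ i * T₁ i + ∑ i ∈ Finset.range (D + 1), (-1 : ℤ) ^ i * T₃ i := by
  have key : ∀ k, ∑ i ∈ Finset.range k, ((-1 : ℤ) ^ i * T₁ i + (-1 : ℤ) ^ i * T₃ i) =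
      ∑ i ∈ Finset.range k, (-1 : ℤ) ^ i * T₂ i + (z 0 : ℤ) - (-1 : ℤ) ^ k * z k := by
    intro k
    induction k with
    | zero => simp
    | succ k ih =>
      rw [Finset.sum_range_succ, ih, Finset.sum_range_succ, h1, h2, h3, pow_succ]
      push_cast
      ring
  have := key (D + 1)
  rw [Finset.sum_add_distrib, hz0, hzD] at this
  simp only [Nat.cast_zero, mul_zero, add_zero, sub_zero] at this
  exact this.symm

variable [IsRegularLocalRing A]

theorem subsingleton_tor_of_lt (M N : Type u) [AddCommGroup M] [Module A M] [Module.Finite A M]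
    [AddCommGroup N] [Module A N] {i : ℕ} (hi : (maximalIdeal A).spanFinrank < i) :
    Subsingleton (DRing.Tor A i M N) :=
  subsingleton_tor_of_pdLE N _ M (pdLE_of_isRegularLocalRing A M) i hi

theorem chi_eq_sum (M N : Type u) [AddCommGroup M] [Module A M] [Module.Finite A M]
    [AddCommGroup N] [Module A N] :
    IntMult.chi A M N = ∑ i ∈ Finset.range ((maximalIdeal A).spanFinrank + 1),
      (-1 : ℤ) ^ i * ((Module.length A (DRing.Tor A i M N)).toNat : ℤ) := by
  refine finsum_eq_sum_of_support_subset _ fun i hi => ?_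
  simp only [Finset.coe_range, Set.mem_Iio]
  by_contra hlt
  haveI := subsingleton_tor_of_lt (A := A) M N (i := i) (by omega)
  apply hi
  show _ * _ = (0 : ℤ)
  rw [Module.length_eq_zero_iff.2 ‹_›]
  simp

/-- Additivity in the first variable. -/
theorem chi_add {M₁ M₂ M₃ N : Type u} [AddCommGroup M₁] [Module A M₁] [Module.Finite A M₁] [AddCommGroup M₂]
    [Module A M₂] [Module.Finite A M₂] [AddCommGroup M₃] [Module A M₃] [Module.Finite A M₃]
    [AddCommGroup N] [Module A N] [Module.Finite A N] (f : M₁ →ₗ[A] M₂) (g : M₂ →ₗ[A] M₃)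
    (hf : Function.Injective f) (hg : Function.Surjective g) (hfg : Function.Exact f g) (h : Primary A M₂ N) :
    IntMult.chi A M₂ N = IntMult.chi A M₁ N + IntMult.chi A M₃ N := by
  have hP1 : Primary A M₁ N := h.mono (LinearMap.annihilator_le_of_injective f hf)
  have hP3 : Primary A M₃ N := h.mono (LinearMap.annihilator_le_of_surjective g hg)
  let S : ShortComplex (ModuleCat.{u} A) :=
    ShortComplex.mk (X₁ := ModuleCat.of A M₁) (X₂ := ModuleCat.of A M₂) (X₃ := ModuleCat.of A M₃)
      (ModuleCat.ofHom f) (ModuleCat.ofHom g) (ModuleCat.hom_ext hfg.linearMap_comp_eq_zero)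
  have hS : S.ShortExact :=
    { exact := (ShortComplex.ShortExact.moduleCat_exact_iff_function_exact _).2 hfg
      mono_f := (ModuleCat.mono_iff_injective _).2 hf
      epi_g := (ModuleCat.epi_iff_surjective _).2 hg }
  obtain ⟨w, hT⟩ := PushAmp.exists_shortExact_torCx (ModuleCat.of A N) hS
  let P := ProjectiveResolution.of (ModuleCat.of A N)
  let C : ShortComplex (ChainComplex (ModuleCat.{u} A) ℕ) := ShortComplex.mk _ _ w
  let F : ∀ i, C.X₁.homology i ⟶ C.X₂.homology i := fun i => HomologicalComplex.homologyMap C.f i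
  let G : ∀ i, C.X₂.homology i ⟶ C.X₃.homology i := fun i => HomologicalComplex.homologyMap C.g i
  let dlt : ∀ i, C.X₃.homology (i + 1) ⟶ C.X₁.homology i := fun i => hT.δ (i + 1) i rfl
  have e : ∀ (X : ModuleCat.{u} A) (i : ℕ),
      Module.length A (DRing.Tor A i X N) = Module.length A (((((TorBridge.tenF X)).mapHomologicalComplex _).obj P.complex).homology i) :=
    fun X i => (P.isoLeftDerivedObj (TorBridge.tenF X) i).toLinearEquiv.length_eq
  let z : ℕ → ℕ := fun i => match i with
    | 0 => 0
    | i + 1 => (Module.length A (LinearMap.range (dlt i).hom)).toNat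
  have fin1 : ∀ i, Module.length A (C.X₁.homology i) ≠ ⊤ := fun i => (e S.X₁ i) ▸ length_tor_ne_top hP1 i
  have fin2 : ∀ i, Module.length A (C.X₂.homology i) ≠ ⊤ := fun i => (e S.X₂ i) ▸ length_tor_ne_top h i
  have fin3 : ∀ i, Module.length A (C.X₃.homology i) ≠ ⊤ := fun i => (e S.X₃ i) ▸ length_tor_ne_top hP3 i
  have split : ∀ {U V W : ModuleCat.{u} A} (a : U ⟶ V) (b : V ⟶ W), Function.Exact a.hom b.hom →
      Module.length A V ≠ ⊤ → (Module.length A V).toNat =
        (Module.length A (LinearMap.range a.hom)).toNat + (Module.length A (LinearMap.range b.hom)).toNat := by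
    intro U V W a b hab hV
    rw [length_middle a.hom b.hom hab] at hV ⊢
    exact ENat.toNat_add (WithTop.add_ne_top.1 hV).1 (WithTop.add_ne_top.1 hV).2
  let x : ℕ → ℕ := fun i => (Module.length A (LinearMap.range (F i).hom)).toNat
  let y : ℕ → ℕ := fun i => (Module.length A (LinearMap.range (G i).hom)).toNat
  have h1 : ∀ i, (Module.length A (DRing.Tor A i M₁ N)).toNat = z (i + 1) + x i := fun i => by
    rw [e S.X₁ i]
    exact split (dlt i) (F i) ((ShortComplex.ShortExact.moduleCat_exact_iff_function_exact _).1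
      (hT.homology_exact₁ (i + 1) i rfl)) (fin1 i)
  have h2 : ∀ i, (Module.length A (DRing.Tor A i M₂ N)).toNat = x i + y i := fun i => by
    rw [e S.X₂ i]
    exact split (F i) (G i) ((ShortComplex.ShortExact.moduleCat_exact_iff_function_exact _).1
      (hT.homology_exact₂ i)) (fin2 i)
  have h3 : ∀ i, (Module.length A (DRing.Tor A i M₃ N)).toNat = y i + z i := by
    intro i
    rw [e S.X₃ i]
    cases i with
    | zero =>
      haveI : Epi C.g := hT.epi_g
      haveI : Epi (HomologicalComplex.homologyMap C.g 0) :=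
        HomologicalComplex.epi_homologyMap_of_epi_of_not_rel C.g 0 (by simp)
      show _ = (Module.length A (LinearMap.range (G 0).hom)).toNat + 0
      rw [add_zero, LinearMap.range_eq_top.2 ((ModuleCat.epi_iff_surjective (G 0)).1 ‹_›), Module.length_top]
    | succ i =>
      exact split (G (i + 1)) (dlt i) ((ShortComplex.ShortExact.moduleCat_exact_iff_function_exact _).1
        (hT.homology_exact₃ (i + 1) i rfl)) (fin3 (i + 1))
  rw [chi_eq_sum, chi_eq_sum, chi_eq_sum]
  refine alt_sum_les _ _ _ _ x y z h1 h2 h3 rfl ?_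
  have h0 : Module.length A (DRing.Tor A ((maximalIdeal A).spanFinrank + 1) M₃ N) = 0 :=
    Module.length_eq_zero_iff.2 (subsingleton_tor_of_lt M₃ N (Nat.lt_succ_self _))
  have := h3 ((maximalIdeal A).spanFinrank + 1)
  rw [h0] at this
  simp only [ENat.toNat_zero] at this
  omega

theorem chi_add_right {N₁ N₂ N₃ M : Type u} [AddCommGroup N₁] [Module A N₁] [Module.Finite A N₁] [AddCommGroup N₂]
    [Module A N₂] [Module.Finite A N₂] [AddCommGroup N₃] [Module A N₃] [Module.Finite A N₃]
    [AddCommGroup M] [Module A M] [Module.Finite A M] (f : N₁ →ₗ[A] N₂) (g : N₂ →ₗ[A] N₃)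
    (hf : Function.Injective f) (hg : Function.Surjective g) (hfg : Function.Exact f g) (h : Primary A M N₂) :
    IntMult.chi A M N₂ = IntMult.chi A M N₁ + IntMult.chi A M N₃ := by
  rw [H9Samuel.chi_comm M N₂, H9Samuel.chi_comm M N₁, H9Samuel.chi_comm M N₃]
  exact chi_add f g hf hg hfg h.symm

omit [IsRegularLocalRing A] in
theorem chi_congr_left {M M' N : Type u} [AddCommGroup M] [Module A M] [AddCommGroup M'] [Module A M']
    [AddCommGroup N] [Module A N] (e : M ≃ₗ[A] M') : IntMult.chi A M N = IntMult.chi A M' N :=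
  finsum_congr fun i => by
    rw [(((Tor (ModuleCat.{u} A) i).mapIso e.toModuleIso).app (ModuleCat.of A N)).toLinearEquiv.length_eq]

end Groth.Agent.H9Diag
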