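import Groth.Agent.H9Diag.Stalks
import Groth.Agent.H9Samuel.Positive
import Groth.Agent.H9DimInt.Basic

/-!
Reduction to the diagonal.
-/

set_option autoImplicit false
set_option linter.style.haveILetI false
set_option backward.isDefEq.respectTransparency false
set_option backward.isDefEq.respectTransparency.types false
set_option maxHeartbeats 1000000

universe u

open AlgebraicGeometry CategoryTheory Limits TopologicalSpace Groth.Agent Groth.Agent.H9Mult

noncomputable section

namespace Groth.Agent.H9Diag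

variable {X S : Scheme.{u}} (f : X ⟶ S) (IV IW : X.IdealSheafData)

/-- `V × W → X × X`. -/
abbrev prodMap : pullback (IV.subschemeι ≫ f) (IW.subschemeι ≫ f) ⟶ pullback f f :=
  pullback.map (IV.subschemeι ≫ f) (IW.subschemeι ≫ f) f f IV.subschemeι IW.subschemeι (𝟙 _)
    (Category.comp_id _) (Category.comp_id _)

/-- The ideal of `V × W` in `X × X`. -/
theorem ker_prodMap :
    (prodMap f IV IW).ker = IV.comap (pullback.fst f f) ⊔ IW.comap (pullback.snd f f) := by
  refine le_antisymm ?_ (sup_le ?_ ?_)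
  · let JV := IV.comap (pullback.fst f f)
    let JW := IW.comap (pullback.snd f f)
    let jV := Scheme.IdealSheafData.inclusion (le_sup_left : JV ≤ JV ⊔ JW) ≫ (IV.comapIso _).hom ≫ pullback.snd _ _
    let jW := Scheme.IdealSheafData.inclusion (le_sup_right : JW ≤ JV ⊔ JW) ≫ (IW.comapIso _).hom ≫ pullback.snd _ _
    have hV : jV ≫ IV.subschemeι = (JV ⊔ JW).subschemeι ≫ pullback.fst f f := by
      simp [jV, JV, JW, ← pullback.condition]
    have hW : jW ≫ IW.subschemeι = (JV ⊔ JW).subschemeι ≫ pullback.snd f f := by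
      simp [jW, JV, JW, ← pullback.condition]
    let l : (JV ⊔ JW).subscheme ⟶ pullback (IV.subschemeι ≫ f) (IW.subschemeι ≫ f) :=
      pullback.lift jV jW (by rw [reassoc_of% hV, reassoc_of% hW, pullback.condition])
    have hl : l ≫ prodMap f IV IW = (JV ⊔ JW).subschemeι := by
      apply pullback.hom_ext
      · simp [l, hV]
      · simp [l, hW]
    rw [← (JV ⊔ JW).ker_subschemeι, ← hl]
    exact Scheme.Hom.le_ker_comp _ _
  · rw [← Scheme.IdealSheafData.le_map_iff_comap_le, Scheme.IdealSheafData.map_ker, pullback.lift_fst]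
    exact IV.ker_subschemeι.symm.le.trans (Scheme.Hom.le_ker_comp _ _)
  · rw [← Scheme.IdealSheafData.le_map_iff_comap_le, Scheme.IdealSheafData.map_ker, pullback.lift_snd]
    exact IW.ker_subschemeι.symm.le.trans (Scheme.Hom.le_ker_comp _ _)

variable {K : Type u} [Field K]

theorem mult_diag {X : Scheme.{u}} (f : X ⟶ Spec (CommRingCat.of K)) [Flat f] [IsSeparated f]
    (IV IW : X.IdealSheafData) (ξ : X) (hξW : ξ ∈ IW.support) :
    IntMult.mult IV IW ξ =
      IntMult.mult (prodMap f IV IW).ker (pullback.diagonal f).ker (pullback.diagonal f ξ) := by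
  haveI := FibDim.subsingleton_spec_field K
  let Δ := pullback.diagonal f
  have h1 : Δ ≫ pullback.fst f f = 𝟙 X := pullback.diagonal_fst f
  have h2 : Δ ≫ pullback.snd f f = 𝟙 X := pullback.diagonal_snd f
  let a := sectStalk Δ (pullback.fst f f) h1 ξ
  let b := sectStalk Δ (pullback.snd f f) h2 ξ
  let μ := (Δ.stalkMap ξ).hom
  have ha : ∀ x, μ (a x) = x := fun x => ConcreteCategory.congr_hom (sectStalk_section Δ _ h1 ξ) x
  have hb : ∀ x, μ (b x) = x := fun x => ConcreteCategory.congr_hom (sectStalk_section Δ _ h2 ξ) x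
  haveI : IsClosedImmersion Δ := IsSeparated.isClosedImmersion_diagonal
  have hb' := stalkIdeal_comap_sect Δ (pullback.snd f f) h2 ξ IW
  have ha' := stalkIdeal_comap_sect Δ (pullback.fst f f) h1 ξ IV
  have hfl : ((Ideal.Quotient.mk ((IntMult.stalkIdeal IW ξ).map b.hom)).comp a.hom).Flat := by
    let J := IW.comap (pullback.snd f f)
    haveI : Flat (J.subschemeι ≫ pullback.fst f f) := by
      haveI : Flat (pullback.fst f (IW.subschemeι ≫ f)) := inferInstance
      have e : J.subschemeι ≫ pullback.fst f f = ((IW.comapIso (pullback.snd f f)).hom ≫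
          (pullbackLeftPullbackSndIso f f IW.subschemeι).hom) ≫ pullback.fst f (IW.subschemeι ≫ f) := by
        rw [Category.assoc, pullbackLeftPullbackSndIso_hom_fst]
        exact (Scheme.IdealSheafData.comapIso_hom_fst_assoc _ _ _).symm
      rw [e]; infer_instance
    have hmem : Δ ξ ∈ J.support := by
      rw [Scheme.IdealSheafData.support_comap]
      show pullback.snd f f (Δ ξ) ∈ IW.support
      rw [← Scheme.Hom.comp_apply, h2]
      exact hξW
    obtain ⟨d, hd⟩ : Δ ξ ∈ Set.range J.subschemeι := by rw [J.range_subschemeι]; exact hmem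
    have h := quot_flat J (pullback.fst f f) d
    rw [← hb']
    have key : ∀ z, z = Δ ξ → ((Ideal.Quotient.mk (IntMult.stalkIdeal J z)).comp ((pullback.fst f f).stalkMap z).hom).Flat →
        ((Ideal.Quotient.mk (IntMult.stalkIdeal J (Δ ξ))).comp ((pullback.fst f f).stalkMap (Δ ξ)).hom).Flat := by
      rintro z rfl hz
      exact hz
    show ((Ideal.Quotient.mk _).comp (_ ≫ (pullback.fst f f).stalkMap (Δ ξ)).hom).Flat
    rw [CommRingCat.hom_comp, ← RingHom.comp_assoc]
    refine RingHom.Flat.comp (RingHom.Flat.of_bijective ?_) (key _ hd h)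
    haveI : IsIso (X.presheaf.stalkSpecializes (specializes_of_eq (show pullback.fst f f (Δ ξ) = ξ by
        rw [← Scheme.Hom.comp_apply, h1]; rfl))) :=
      (X.presheaf.stalkCongr (.of_eq (show ξ = pullback.fst f f (Δ ξ) by rw [← Scheme.Hom.comp_apply, h1]; rfl))).isIso_hom
    exact ConcreteCategory.bijective_of_isIso _
  rw [IntMult.mult, IntMult.mult, ker_prodMap, stalkIdeal_sup, stalkIdeal_ker, ha', hb',
    H9Samuel.chi_comm (X.presheaf.stalk ξ ⧸ IntMult.stalkIdeal IW ξ)]
  exact (chi_diag μ a.hom b.hom ha hb (sectStalk_flat Δ _ h1 ξ) (sectStalk_flat Δ _ h2 ξ) _ _ hfl).symm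

end Groth.Agent.H9Diag
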