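import Groth.Agent.H9Diag.Algebra
import Groth.Agent.H9Samuel.Positive
import Groth.Agent.Cohen4.RegHom
import Groth.Agent.RegLoc6.Seq
import Mathlib.RingTheory.Ideal.Quotient.Operations

/-!
Positivity after reduction to the diagonal: local algebra.
-/

set_option autoImplicit false
set_option linter.style.haveILetI false
set_option backward.isDefEq.respectTransparency false
set_option maxHeartbeats 1000000

universe u

open Groth.Agent IsLocalRing

noncomputable section

namespace Groth.Agent.H9Diag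

theorem flat_quot {R S : Type u} [CommRing R] [CommRing S] (φ : R →+* S) (hφ : φ.Flat) (I : Ideal R) :
    (Ideal.quotientMap (I.map φ) φ Ideal.le_comap_map).Flat := by
  letI := φ.toAlgebra
  haveI : Module.Flat R S := hφ
  have e : (Ideal.quotientMap (I.map φ) φ Ideal.le_comap_map) = algebraMap (R ⧸ I) (S ⧸ I.map (algebraMap R S)) := by
    ext x; rfl
  rw [e]
  exact (RingHom.flat_algebraMap_iff (R := R ⧸ I) (S := S ⧸ I.map (algebraMap R S))).2
    (Module.Flat.of_linearEquiv ((Algebra.TensorProduct.quotIdealMapEquivQuotTensor S I).toLinearEquiv))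

/-- Dimension of a flat extension modulo an ideal of the base. -/
theorem dim_flat_quot {R S : Type u} [CommRing R] [IsNoetherianRing R] [IsLocalRing R] [CommRing S]
    [IsNoetherianRing S] [IsLocalRing S] (φ : R →+* S) (hφ : φ.Flat) [IsLocalHom φ] (I : Ideal R) (hI : I ≠ ⊤) :
    ringKrullDim (S ⧸ I.map φ) = ringKrullDim (R ⧸ I) + ringKrullDim (S ⧸ (maximalIdeal R).map φ) := by
  have hI' : I ≤ maximalIdeal R := le_maximalIdeal hI
  have hm : (maximalIdeal R).map φ ≤ maximalIdeal S :=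
    ((local_hom_TFAE φ).out 0 2).1 ‹IsLocalHom φ›
  have hIS : I.map φ ≠ ⊤ :=
    ne_top_of_le_ne_top (maximalIdeal.isMaximal S).ne_top ((Ideal.map_mono hI').trans hm)
  haveI : Nontrivial (R ⧸ I) := Ideal.Quotient.nontrivial_iff.2 hI
  haveI : Nontrivial (S ⧸ I.map φ) := Ideal.Quotient.nontrivial_iff.2 hIS
  haveI : IsLocalRing (R ⧸ I) := .of_surjective' _ Ideal.Quotient.mk_surjective
  haveI : IsLocalRing (S ⧸ I.map φ) := .of_surjective' _ Ideal.Quotient.mk_surjective
  let ψ := Ideal.quotientMap (I.map φ) φ Ideal.le_comap_map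
  letI := ψ.toAlgebra
  haveI : Module.Flat (R ⧸ I) (S ⧸ I.map φ) := flat_quot φ hφ I
  have hmR : maximalIdeal (R ⧸ I) = (maximalIdeal R).map (Ideal.Quotient.mk I) :=
    (IsLocalRing.eq_maximalIdeal (Ideal.IsMaximal.map_of_surjective_of_ker_le Ideal.Quotient.mk_surjective
      (by rw [Ideal.mk_ker]; exact hI'))).symm
  have hmap : (maximalIdeal (R ⧸ I)).map ψ = ((maximalIdeal R).map φ).map (Ideal.Quotient.mk (I.map φ)) := by
    rw [hmR, Ideal.map_map, Ideal.map_map, show ψ.comp (Ideal.Quotient.mk I) = (Ideal.Quotient.mk (I.map φ)).comp φ from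
      RingHom.ext fun x => rfl]
  haveI : IsLocalHom (algebraMap (R ⧸ I) (S ⧸ I.map φ)) := by
    refine ((local_hom_TFAE (algebraMap (R ⧸ I) (S ⧸ I.map φ))).out 0 2).2 ?_
    show (maximalIdeal (R ⧸ I)).map ψ ≤ _
    rw [hmap]
    refine (Ideal.map_mono hm).trans (le_of_eq ?_)
    exact IsLocalRing.eq_maximalIdeal (Ideal.IsMaximal.map_of_surjective_of_ker_le Ideal.Quotient.mk_surjective
      (by rw [Ideal.mk_ker]; exact le_maximalIdeal hIS))
  let e : (S ⧸ I.map φ) ⧸ (maximalIdeal (R ⧸ I)).map (algebraMap (R ⧸ I) (S ⧸ I.map φ)) ≃+* S ⧸ (maximalIdeal R).map φ :=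
    (Ideal.quotEquivOfEq hmap).trans ((DoubleQuot.quotQuotEquivQuotSup _ _).trans
      (Ideal.quotEquivOfEq (sup_eq_right.2 (Ideal.map_mono hI'))))
  haveI : Nontrivial (S ⧸ (maximalIdeal R).map φ) :=
    Ideal.Quotient.nontrivial_iff.2 (ne_top_of_le_ne_top (maximalIdeal.isMaximal S).ne_top hm)
  haveI : IsLocalRing (S ⧸ (maximalIdeal R).map φ) := .of_surjective' _ Ideal.Quotient.mk_surjective
  haveI := e.symm.isLocalRing
  rw [Cohen4.dim_eq_of_flat (A := R ⧸ I) (B := S ⧸ I.map φ), ringKrullDim_eq_of_ringEquiv e]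

variable {A B : Type u} [CommRing A] [CommRing B] [IsRegularLocalRing A] [IsRegularLocalRing B]
  (μ : B →+* A) (a b : A →+* B) (ha : ∀ x, μ (a x) = x) (hb : ∀ x, μ (b x) = x)

include ha hb in
theorem diag_data (hfa : a.Flat) (hfb : b.Flat) (I J : Ideal A)
    (hfl : ((Ideal.Quotient.mk (J.map b)).comp a).Flat)
    (hflm : ((Ideal.Quotient.mk ((maximalIdeal A).map a)).comp b).Flat)
    {D di dj : ℕ} (hD : ringKrullDim A = D) (hi : ringKrullDim (A ⧸ I) = di) (hj : ringKrullDim (A ⧸ J) = dj)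
    (he : ∃ e : ℕ, maximalIdeal A ^ e ≤ I ⊔ J) :
    ∃ (c t : ℕ) (g : Fin c → B), RingTheory.Sequence.IsWeaklyRegular B (List.ofFn g) ∧
      Ideal.span (Set.range g) ≤ maximalIdeal B ∧ Nontrivial (B ⧸ (I.map a ⊔ J.map b)) ∧
      IntMult.chi A (A ⧸ I) (A ⧸ J) = IntMult.chi B (B ⧸ Ideal.span (Set.range g)) (B ⧸ (I.map a ⊔ J.map b)) ∧
      HSLib.MaxSupp (Ideal.span (Set.range g)) (B ⧸ (I.map a ⊔ J.map b)) ∧
      Module.supportDim B (B ⧸ (I.map a ⊔ J.map b)) = ((di + (dj + t) : ℕ) : WithBot ℕ∞) ∧ c = D + t := by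
  rw [← chi_diag μ a b ha hb hfa hfb I J hfl]
  have hμs : Function.Surjective μ := fun x => ⟨a x, ha x⟩
  haveI hμl : IsLocalHom μ := IsLocalHom.of_surjective μ hμs
  haveI : IsLocalHom a := ⟨fun x hx => ha x ▸ hx.map μ⟩
  haveI : IsLocalHom b := ⟨fun x hx => hb x ▸ hx.map μ⟩
  have hIt : I ≠ ⊤ := by
    rintro rfl
    haveI : Subsingleton (A ⧸ (⊤ : Ideal A)) := Ideal.Quotient.subsingleton_iff.2 rfl
    rw [ringKrullDim_eq_bot_of_subsingleton] at hi
    exact WithBot.bot_ne_natCast di hi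
  have hJt : J ≠ ⊤ := by
    rintro rfl
    haveI : Subsingleton (A ⧸ (⊤ : Ideal A)) := Ideal.Quotient.subsingleton_iff.2 rfl
    rw [ringKrullDim_eq_bot_of_subsingleton] at hj
    exact WithBot.bot_ne_natCast dj hj
  have hma : (maximalIdeal A).map a ≤ maximalIdeal B := ((local_hom_TFAE a).out 0 2).1 ‹IsLocalHom a›
  have hmb : (maximalIdeal A).map b ≤ maximalIdeal B := ((local_hom_TFAE b).out 0 2).1 ‹IsLocalHom b›
  have hIa := (Ideal.map_mono (le_maximalIdeal hIt)).trans hma
  have hJb := (Ideal.map_mono (le_maximalIdeal hJt)).trans hmb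
  haveI : Nontrivial (B ⧸ J.map b) :=
    Ideal.Quotient.nontrivial_iff.2 (ne_top_of_le_ne_top (maximalIdeal.isMaximal B).ne_top hJb)
  haveI : Nontrivial (B ⧸ (maximalIdeal A).map a) :=
    Ideal.Quotient.nontrivial_iff.2 (ne_top_of_le_ne_top (maximalIdeal.isMaximal B).ne_top hma)
  haveI : IsLocalRing (B ⧸ J.map b) := .of_surjective' _ Ideal.Quotient.mk_surjective
  haveI : IsLocalRing (B ⧸ (maximalIdeal A).map a) := .of_surjective' _ Ideal.Quotient.mk_surjective
  haveI : IsLocalHom (Ideal.Quotient.mk (J.map b)) := IsLocalHom.of_surjective _ Ideal.Quotient.mk_surjective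
  haveI : IsLocalHom (Ideal.Quotient.mk ((maximalIdeal A).map a)) :=
    IsLocalHom.of_surjective _ Ideal.Quotient.mk_surjective
  have qq : ∀ (P : Ideal B) (φ : A →+* B) (Q : Ideal A),
      ringKrullDim ((B ⧸ P) ⧸ Q.map ((Ideal.Quotient.mk P).comp φ)) = ringKrullDim (B ⧸ (P ⊔ Q.map φ)) :=
    fun P φ Q => ringKrullDim_eq_of_ringEquiv
      ((Ideal.quotEquivOfEq (Ideal.map_map φ (Ideal.Quotient.mk P)).symm).trans (DoubleQuot.quotQuotEquivQuotSup _ _))
  -- dimensions
  have e1 : ringKrullDim B = (D : WithBot ℕ∞) + ringKrullDim (B ⧸ (maximalIdeal A).map a) := by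
    have h := dim_flat_quot a hfa ⊥ bot_ne_top
    rwa [ringKrullDim_eq_of_ringEquiv ((Ideal.quotEquivOfEq Ideal.map_bot).trans (RingEquiv.quotientBot B)),
      ringKrullDim_eq_of_ringEquiv (RingEquiv.quotientBot A), hD] at h
  have e2 : ringKrullDim (B ⧸ (maximalIdeal A).map a) =
      (D : WithBot ℕ∞) + ringKrullDim (B ⧸ ((maximalIdeal A).map a ⊔ (maximalIdeal A).map b)) := by
    have h := dim_flat_quot _ hflm ⊥ bot_ne_top
    rwa [qq, qq, Ideal.map_bot, sup_bot_eq, ringKrullDim_eq_of_ringEquiv (RingEquiv.quotientBot A), hD] at h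
  have e3 : ringKrullDim (B ⧸ ((maximalIdeal A).map a ⊔ J.map b)) =
      (dj : WithBot ℕ∞) + ringKrullDim (B ⧸ ((maximalIdeal A).map a ⊔ (maximalIdeal A).map b)) := by
    have h := dim_flat_quot _ hflm J hJt
    rwa [qq, qq, hj] at h
  have e4 : ringKrullDim (B ⧸ (I.map a ⊔ J.map b)) =
      (di : WithBot ℕ∞) + ringKrullDim (B ⧸ ((maximalIdeal A).map a ⊔ J.map b)) := by
    have h := dim_flat_quot _ hfl I hIt
    rwa [qq, qq, hi, sup_comm (J.map b), sup_comm (J.map b)] at h
  rw [e3] at e4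
  rw [e2] at e1
  -- the kernel of `μ` is generated by a regular sequence
  haveI : IsRegularLocalRing (B ⧸ RingHom.ker μ) :=
    IsRegularLocalRing.of_ringEquiv (RingHom.quotientKerEquivOfSurjective hμs).symm
  obtain ⟨rs, hrs, hwr, hof⟩ := RegLoc6.exists_list_of_quotient _ B (RingHom.ker μ) le_rfl inferInstance
  have hreg : RingTheory.Sequence.IsRegular B rs :=
    ⟨hwr, by
      rw [hof, smul_eq_mul, Ideal.mul_top]
      exact (RingHom.ker_ne_top μ).symm⟩
  have e5 : (D : WithBot ℕ∞) + rs.length = ringKrullDim B := by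
    rw [← ringKrullDim_add_length_eq_ringKrullDim_of_isRegular rs hreg, hof,
      ringKrullDim_eq_of_ringEquiv (RingHom.quotientKerEquivOfSurjective hμs), hD]
  let g : Fin rs.length → B := rs.get
  have hg : Ideal.span (Set.range g) = RingHom.ker μ := by
    rw [← hof]
    exact congrArg Ideal.span (Set.ext fun x => (List.mem_iff_get).symm)
  have hofn : List.ofFn g = rs := List.ofFn_get rs
  have hK : I.map a ⊔ J.map b ≠ ⊤ :=
    ne_top_of_le_ne_top (maximalIdeal.isMaximal B).ne_top (sup_le hIa hJb)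
  rw [e1] at e5
  obtain ⟨t, ht⟩ : ∃ t : ℕ, ringKrullDim (B ⧸ ((maximalIdeal A).map a ⊔ (maximalIdeal A).map b)) = (t : ℕ) := by
    generalize ringKrullDim (B ⧸ ((maximalIdeal A).map a ⊔ (maximalIdeal A).map b)) = t at e5 ⊢
    induction t using WithBot.recBotCoe with
    | bot =>
      simp only [WithBot.add_bot] at e5
      exact absurd e5 (WithBot.coe_ne_bot (a := ((D + rs.length : ℕ) : ℕ∞)) ∘ fun h => by exact_mod_cast h)
    | coe t =>
      induction t using ENat.recTopCoe with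
      | top =>
        exfalso
        have h : ((D + rs.length : ℕ) : ℕ∞) = (D : ℕ∞) + ((D : ℕ∞) + ⊤) := WithBot.coe_injective (by exact_mod_cast e5)
        simp only [add_top] at h
        exact ENat.natCast_ne_top _ h
      | coe t => exact ⟨t, rfl⟩
  rw [ht] at e5 e4
  refine ⟨rs.length, t, g, by rw [hofn]; exact hwr, hg.trans_le (le_maximalIdeal (RingHom.ker_ne_top μ)),
    Ideal.Quotient.nontrivial_iff.2 hK, by rw [hg], ?_, ?_, ?_⟩
  · obtain ⟨e, he⟩ := he
    intro p hp hpg
    have hpK : I.map a ⊔ J.map b ≤ p.asIdeal := by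
      have := Module.annihilator_le_of_mem_support hp
      rwa [Ideal.annihilator_quotient] at this
    rw [hg] at hpg
    have hsub : ∀ x, μ x = 0 → x ∈ p.asIdeal := fun x hx => hpg (RingHom.mem_ker.2 hx)
    have hJa : J.map a ≤ p.asIdeal := Ideal.map_le_iff_le_comap.2 fun x hx => by
      have h1 : a x - b x ∈ p.asIdeal := hsub _ (by rw [map_sub, ha, hb, sub_self])
      have h2 : b x ∈ p.asIdeal := hpK (Ideal.mem_sup_right (Ideal.mem_map_of_mem _ hx))
      show a x ∈ p.asIdeal
      simpa using p.asIdeal.add_mem h1 h2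
    have hm : (maximalIdeal A).map a ≤ p.asIdeal := by
      refine p.2.le_of_pow_le ?_ (n := e)
      rw [← Ideal.map_pow]
      refine (Ideal.map_mono he).trans ?_
      rw [Ideal.map_sup]
      exact sup_le (le_sup_left.trans hpK) hJa
    suffices h : maximalIdeal B ≤ p.asIdeal by
      rw [← (maximalIdeal.isMaximal B).eq_of_le p.2.ne_top h]
      exact maximalIdeal.isMaximal B
    intro z hz
    have h1 : z - a (μ z) ∈ p.asIdeal := hsub _ (by rw [map_sub, ha, sub_self])
    have hμm : (maximalIdeal B).map μ ≤ maximalIdeal A := ((local_hom_TFAE μ).out 0 2).1 hμl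
    have h2 : a (μ z) ∈ p.asIdeal := hm (Ideal.mem_map_of_mem _ (hμm (Ideal.mem_map_of_mem _ hz)))
    simpa using p.asIdeal.add_mem h1 h2
  · rw [Module.supportDim_quotient_eq_ringKrullDim, e4]
    push_cast
    rfl
  · have : D + rs.length = D + (D + t) := by exact_mod_cast e5
    omega

/-- The Hilbert–Samuel polynomial has degree at most the dimension. -/
theorem natDegree_le_supportDim {R : Type u} [CommRing R] [IsNoetherianRing R] [IsLocalRing R] {c : ℕ}
    (g : Fin c → R) (M : Type u) [AddCommGroup M] [Module R M] [Module.Finite R M] [Nontrivial M]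
    (hI : Ideal.span (Set.range g) ≤ maximalIdeal R)
    (hmax : HSLib.MaxSupp (Ideal.span (Set.range g)) M) {d : ℕ} (hd : Module.supportDim R M = (d : WithBot ℕ∞))
    (P : Polynomial ℚ) (hP : HSLib.EvPoly (HSLib.hs (Ideal.span (Set.range g)) M) P) : P.natDegree ≤ d := by
  set I := Ideal.span (Set.range g)
  obtain ⟨Q, hQ⟩ := HSLib.exists_poly_jacobson (A := R) M
  have hQd : Q.natDegree = d := by
    have h := HSLib.supportDim_eq M Q hQ
    rw [hd] at h
    exact_mod_cast h
  obtain ⟨e, he⟩ : ∃ e : ℕ, maximalIdeal R ^ e ≤ Module.annihilator R M ⊔ I := by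
    refine Ideal.exists_pow_le_of_le_radical_of_fg ?_ (IsNoetherian.noetherian _)
    rw [Ideal.radical_eq_sInf]
    refine le_sInf fun p hp => ?_
    haveI := hp.2
    obtain ⟨h1, h2⟩ := sup_le_iff.1 hp.1
    have := hmax ⟨p, inferInstance⟩ (Module.mem_support_iff_of_finite.2 h1) h2
    exact (IsLocalRing.eq_maximalIdeal this).ge
  have step : ∀ X : Submodule R M, maximalIdeal R ^ e • X ≤ I • X := fun X =>
    (Submodule.smul_mono he le_rfl).trans (by
      rw [Submodule.sup_smul]
      exact sup_le (Submodule.smul_le.2 fun r hr x _ => by rw [Module.mem_annihilator.1 hr]; exact zero_mem _) le_rfl)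
  have hpow : ∀ t : ℕ, maximalIdeal R ^ (e * t) • (⊤ : Submodule R M) ≤ I ^ t • ⊤ := by
    intro t
    induction t with
    | zero => simp
    | succ t ih =>
      rw [Nat.mul_succ, add_comm, pow_add, Submodule.mul_smul, pow_succ', Submodule.mul_smul]
      exact (step _).trans (Submodule.smul_mono le_rfl ih)
  have hle : P.natDegree ≤ (Q.comp (Polynomial.C (e : ℚ) * Polynomial.X)).natDegree := by
    refine HSLib.natDegree_le_of_eventually_le hP (g := fun t => HSLib.hs (Ring.jacobson R) M (e * t)) ?_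
      (Filter.Eventually.of_forall fun t => ?_)
    · rcases Nat.eq_zero_or_pos e with rfl | hepos
      · exfalso
        rw [pow_zero, Ideal.one_eq_top, top_le_iff] at he
        obtain ⟨p, hp⟩ := Module.nonempty_support_of_nontrivial (R := R) (M := M)
        have h1 : Module.annihilator R M ≤ maximalIdeal R :=
          (Module.annihilator_le_of_mem_support hp).trans (le_maximalIdeal p.2.ne_top)
        exact (maximalIdeal.isMaximal R).ne_top (top_le_iff.1 (he.ge.trans (sup_le h1 hI)))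
      filter_upwards [(Filter.tendsto_id.const_mul_atTop' hepos).eventually hQ] with t ht
      rw [id] at ht
      rw [ht]
      simp [Polynomial.eval_comp]
    · refine ENat.toNat_le_toNat (Module.length_le_of_surjective (Submodule.factor ?_) (Submodule.factor_surjective _)) ?_
      · rw [IsLocalRing.ringJacobson_eq_maximalIdeal]
        exact hpow t
      · exact HSLib.length_quot_ne_top (HSLib.maxSupp_jacobson M) le_rfl
  refine hle.trans ?_
  rw [Polynomial.natDegree_comp, hQd]
  calc d * (Polynomial.C (e : ℚ) * Polynomial.X).natDegree ≤ d * 1 :=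
        Nat.mul_le_mul le_rfl ((Polynomial.natDegree_C_mul_le _ _).trans Polynomial.natDegree_X_le)
    _ = d := Nat.mul_one d

include ha hb in
theorem chi_pos_of_diag (hfa : a.Flat) (hfb : b.Flat) (I J : Ideal A)
    (hfl : ((Ideal.Quotient.mk (J.map b)).comp a).Flat)
    (hflm : ((Ideal.Quotient.mk ((maximalIdeal A).map a)).comp b).Flat)
    {D di dj : ℕ} (hD : ringKrullDim A = D) (hi : ringKrullDim (A ⧸ I) = di) (hj : ringKrullDim (A ⧸ J) = dj)
    (hle : D ≤ di + dj) (he : ∃ e : ℕ, maximalIdeal A ^ e ≤ I ⊔ J) :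
    0 < IntMult.chi A (A ⧸ I) (A ⧸ J) := by
  obtain ⟨c, t, g, hw, hgm, hM, hchi, hmax, hdim, hc⟩ := diag_data μ a b ha hb hfa hfb I J hfl hflm hD hi hj he
  haveI := hM
  rw [hchi]
  refine H9Samuel.chi_pos g _ hw hgm hmax ?_
  rw [hdim]
  exact_mod_cast (by omega : c ≤ di + (dj + t))

include ha hb in
/-- Serre vanishing. -/
theorem chi_zero_of_diag (hfa : a.Flat) (hfb : b.Flat) (I J : Ideal A)
    (hfl : ((Ideal.Quotient.mk (J.map b)).comp a).Flat)
    (hflm : ((Ideal.Quotient.mk ((maximalIdeal A).map a)).comp b).Flat)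
    {D di dj : ℕ} (hD : ringKrullDim A = D) (hi : ringKrullDim (A ⧸ I) = di) (hj : ringKrullDim (A ⧸ J) = dj)
    (hlt : di + dj < D) (he : ∃ e : ℕ, maximalIdeal A ^ e ≤ I ⊔ J) :
    IntMult.chi A (A ⧸ I) (A ⧸ J) = 0 := by
  obtain ⟨c, t, g, hw, hgm, hM, hchi, hmax, hdim, hc⟩ := diag_data μ a b ha hb hfa hfb I J hfl hflm hD hi hj he
  haveI := hM
  rw [hchi, H9Samuel.chi_eq_euler g _ hw]
  obtain ⟨P, -, hP, hPe⟩ := H9Samuel.euler_eq g (B ⧸ (I.map a ⊔ J.map b)) hmax
  have h := natDegree_le_supportDim g _ hgm hmax hdim P hP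
  rw [Polynomial.coeff_eq_zero_of_natDegree_lt (by omega : P.natDegree < c), mul_zero] at hPe
  exact_mod_cast hPe

end Groth.Agent.H9Diag
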