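import Groth.Agent.H9Diag.Main
import Groth.Agent.H9Diag.Positive
import Groth.Agent.GrpSchLib.SmoothRegular

/-!
Positivity of intersection multiplicities.
-/

set_option autoImplicit false
set_option linter.style.haveILetI false
set_option backward.isDefEq.respectTransparency false
set_option backward.isDefEq.respectTransparency.types false
set_option maxHeartbeats 1000000

universe u

open AlgebraicGeometry CategoryTheory Limits TopologicalSpace Groth.Agent Groth.Agent.H9Mult

noncomputable section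

namespace Groth.Agent.H9Diag

theorem flat_mod_comap {X P : Scheme.{u}} (s : X ⟶ P) (p q : P ⟶ X) (hp : s ≫ p = 𝟙 X) (hq : s ≫ q = 𝟙 X) (ξ : X)
    (I : X.IdealSheafData) (hξ : ξ ∈ I.support) [Flat ((I.comap q).subschemeι ≫ p)] :
    ((Ideal.Quotient.mk ((IntMult.stalkIdeal I ξ).map (sectStalk s q hq ξ).hom)).comp
      (sectStalk s p hp ξ).hom).Flat := by
  let J := I.comap q
  have hmem : s ξ ∈ J.support := by
    rw [Scheme.IdealSheafData.support_comap]
    show q (s ξ) ∈ I.support
    rw [← Scheme.Hom.comp_apply, hq]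
    exact hξ
  obtain ⟨d, hd⟩ : s ξ ∈ Set.range J.subschemeι := by rw [J.range_subschemeι]; exact hmem
  have h := quot_flat J p d
  rw [← stalkIdeal_comap_sect]
  have key : ∀ z, z = s ξ → ((Ideal.Quotient.mk (IntMult.stalkIdeal J z)).comp (p.stalkMap z).hom).Flat →
      ((Ideal.Quotient.mk (IntMult.stalkIdeal J (s ξ))).comp (p.stalkMap (s ξ)).hom).Flat := by
    rintro z rfl hz
    exact hz
  show ((Ideal.Quotient.mk _).comp (_ ≫ p.stalkMap (s ξ)).hom).Flat
  rw [CommRingCat.hom_comp, ← RingHom.comp_assoc]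
  refine RingHom.Flat.comp (RingHom.Flat.of_bijective ?_) (key _ hd h)
  haveI : IsIso (X.presheaf.stalkSpecializes (specializes_of_eq (show p (s ξ) = ξ by
      rw [← Scheme.Hom.comp_apply, hp]; rfl))) :=
    (X.presheaf.stalkCongr (.of_eq (show ξ = p (s ξ) by rw [← Scheme.Hom.comp_apply, hp]; rfl))).isIso_hom
  exact ConcreteCategory.bijective_of_isIso _

theorem stalkIdeal_ptIdeal_self {X : Scheme.{u}} (ξ : X) :
    IntMult.stalkIdeal (IntMult.ptIdeal ξ) ξ = IsLocalRing.maximalIdeal (X.presheaf.stalk ξ) := by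
  haveI := isIntegral_ptIdeal ξ
  let ι := (IntMult.ptIdeal ξ).subschemeι
  have hr : Set.range ι = closure ({ξ} : Set X) := H23.RedSub.range_vanishingIdeal _
  obtain ⟨w, hw⟩ : ξ ∈ Set.range ι := by rw [hr]; exact subset_closure rfl
  have hgen : w = genericPoint (IntMult.ptIdeal ξ).subscheme := by
    refine ((genericPoint_spec _).specializes (Set.mem_univ w)).antisymm ?_ |>.eq.symm
    rw [← ι.isEmbedding.isInducing.specializes_iff, hw]
    exact specializes_iff_mem_closure.2 (hr.le ⟨_, rfl⟩)
  have key : ∀ z : X, z = ι w → IntMult.stalkIdeal (IntMult.ptIdeal ξ) z = IsLocalRing.maximalIdeal _ := by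
    rintro z rfl
    obtain ⟨e⟩ := stalk_quot_equiv (IntMult.ptIdeal ξ) w
    subst hgen
    have hf : IsField ((IntMult.ptIdeal ξ).subscheme.presheaf.stalk (genericPoint (IntMult.ptIdeal ξ).subscheme)) :=
      Field.toIsField (IntMult.ptIdeal ξ).subscheme.functionField
    exact IsLocalRing.eq_maximalIdeal (Ideal.Quotient.maximal_of_isField _ (e.toMulEquiv.isField hf))
  exact key _ hw.symm

variable {K : Type u} [Field K]

/-- The flatness hypotheses of the reduction to the diagonal. -/
theorem stalk_flats {X : Scheme.{u}} (f : X ⟶ Spec (CommRingCat.of K)) [Smooth f] (IW : X.IdealSheafData) (ξ : X)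
    (hξW : ξ ∈ IW.support) :
    ((Ideal.Quotient.mk ((IntMult.stalkIdeal IW ξ).map
      (sectStalk (pullback.diagonal f) (pullback.snd f f) (pullback.diagonal_snd f) ξ).hom)).comp
      (sectStalk (pullback.diagonal f) (pullback.fst f f) (pullback.diagonal_fst f) ξ).hom).Flat ∧
    ((Ideal.Quotient.mk ((IsLocalRing.maximalIdeal (X.presheaf.stalk ξ)).map
      (sectStalk (pullback.diagonal f) (pullback.fst f f) (pullback.diagonal_fst f) ξ).hom)).comp
      (sectStalk (pullback.diagonal f) (pullback.snd f f) (pullback.diagonal_snd f) ξ).hom).Flat := by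
  haveI := FibDim.subsingleton_spec_field K
  let Δ := pullback.diagonal f
  have h1 : Δ ≫ pullback.fst f f = 𝟙 X := pullback.diagonal_fst f
  have h2 : Δ ≫ pullback.snd f f = 𝟙 X := pullback.diagonal_snd f
  haveI : Flat ((IW.comap (pullback.snd f f)).subschemeι ≫ pullback.fst f f) := by
    haveI : Flat (pullback.fst f (IW.subschemeι ≫ f)) := inferInstance
    rw [← Scheme.IdealSheafData.comapIso_hom_fst_assoc, ← pullbackLeftPullbackSndIso_hom_fst f f IW.subschemeι]
    infer_instance
  haveI : Flat (((IntMult.ptIdeal ξ).comap (pullback.fst f f)).subschemeι ≫ pullback.snd f f) := by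
    haveI : Flat (pullback.snd ((IntMult.ptIdeal ξ).subschemeι ≫ f) f) := inferInstance
    rw [← Scheme.IdealSheafData.comapIso_hom_fst_assoc,
      ← pullbackSymmetry_hom_comp_snd_assoc (f := pullback.fst f f) (g := (IntMult.ptIdeal ξ).subschemeι),
      ← pullbackRightPullbackFstIso_hom_snd f f (IntMult.ptIdeal ξ).subschemeι]
    infer_instance
  have hflm := flat_mod_comap Δ (pullback.snd f f) (pullback.fst f f) h2 h1 ξ (IntMult.ptIdeal ξ) (by
    have := (IntMult.ptIdeal ξ).range_subschemeι
    rw [show Set.range (IntMult.ptIdeal ξ).subschemeι = closure ({ξ} : Set X) from H23.RedSub.range_vanishingIdeal _] at this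
    exact this.le (subset_closure rfl))
  rw [stalkIdeal_ptIdeal_self] at hflm
  exact ⟨flat_mod_comap Δ _ _ h1 h2 ξ IW hξW, hflm⟩

/-- Intersection multiplicities are positive. -/
theorem mult_pos {X : Scheme.{u}} (f : X ⟶ Spec (CommRingCat.of K)) [Smooth f] [IsSeparated f] [QuasiCompact f]
    [IsIntegral X] (IV IW : X.IdealSheafData) [IsIntegral IV.subscheme] [IsIntegral IW.subscheme] (n r s : ℕ)
    (hn : topologicalKrullDim X = n) (hr : topologicalKrullDim IV.support = r)
    (hs : topologicalKrullDim IW.support = s)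
    (hprop : IntMult.ProperInt (IV.support : Set X) (IW.support : Set X) n r s) (ξ : X) (hξV : ξ ∈ IV.support)
    (hξW : ξ ∈ IW.support) (hmax : ∀ ξ' : X, ξ' ∈ IV.support → ξ' ∈ IW.support → ξ' ⤳ ξ → ξ' = ξ) :
    0 < IntMult.mult IV IW ξ := by
  haveI := FibDim.subsingleton_spec_field K
  haveI : IsLocallyNoetherian X := LocallyOfFiniteType.isLocallyNoetherian f
  obtain ⟨hA, D, di, dj, hD, hdi, hdj, hle⟩ := local_data f IV IW n r s hn hr hs hprop ξ hξV hξW
  obtain ⟨e, he⟩ := exists_pow_le IV IW ξ hmax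
  let Δ := pullback.diagonal f
  have h1 : Δ ≫ pullback.fst f f = 𝟙 X := pullback.diagonal_fst f
  have h2 : Δ ≫ pullback.snd f f = 𝟙 X := pullback.diagonal_snd f
  haveI := hA
  haveI : IsRegularLocalRing ((pullback f f).presheaf.stalk (Δ ξ)) :=
    GrpSchLib.isRegularLocalRing_stalk_of_smooth (pullback.fst f f ≫ f) _
  obtain ⟨hfl, hflm⟩ := stalk_flats f IW ξ hξW
  rw [IntMult.mult, H9Samuel.chi_comm]
  exact chi_pos_of_diag (Δ.stalkMap ξ).hom (sectStalk Δ _ h1 ξ).hom (sectStalk Δ _ h2 ξ).hom
    (fun x => ConcreteCategory.congr_hom (sectStalk_section Δ _ h1 ξ) x)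
    (fun x => ConcreteCategory.congr_hom (sectStalk_section Δ _ h2 ξ) x)
    (sectStalk_flat Δ _ h1 ξ) (sectStalk_flat Δ _ h2 ξ) _ _
    hfl hflm hD hdi hdj hle ⟨e, he⟩

end Groth.Agent.H9Diag
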