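import Groth.Agent.H9Diag.ExtProd
import Groth.Agent.H9Diag.Main
import Groth.Agent.H9Diag.MainPos

/-!
Intersection with the diagonal of the exterior product of two points.
-/

set_option autoImplicit false
set_option linter.style.haveILetI false
set_option backward.isDefEq.respectTransparency false
set_option backward.isDefEq.respectTransparency.types false
set_option maxHeartbeats 1000000

universe u

open AlgebraicGeometry CategoryTheory Limits Groth.Agent IsLocalRing Groth.Agent.CDiv6

noncomputable section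

namespace Groth.Agent.H9Diag

/-- The structure sheaf of a closed subscheme, as a module on the ambient scheme. -/
def closedSheaf {P : Scheme.{u}} (I : P.IdealSheafData) : P.Modules :=
  (Coh.push I.subschemeι).obj (Coh.structureModule I.subscheme)

theorem isCoh_closedSheaf {P : Scheme.{u}} [IsLocallyNoetherian P] (I : P.IdealSheafData) :
    Coh.IsCoh (closedSheaf I) :=
  haveI := LocallyOfFiniteType.isLocallyNoetherian I.subschemeι
  QCoh.isCoh_pushforward_finite _ QCoh.isCoh_structureModule'

theorem mem_support_of_nontrivial {P : Scheme.{u}} (I : P.IdealSheafData) {w : P}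
    (h : Nontrivial ((closedSheaf I).presheaf.stalk w)) : w ∈ Set.range I.subschemeι :=
  QCoh.support_push_subset _ QCoh.isQCoh_structureModule (not_subsingleton_iff_nontrivial.2 h)

theorem nonempty_stalk_closedSheaf {P : Scheme.{u}} (I : P.IdealSheafData) {w : P} (hw : w ∈ Set.range I.subschemeι) :
    Nonempty ((P.presheaf.stalk w ⧸ IntMult.stalkIdeal I w) ≃ₗ[P.presheaf.stalk w] (closedSheaf I).presheaf.stalk w) := by
  obtain ⟨d, rfl⟩ := hw
  letI := Module.compHom (I.subscheme.presheaf.stalk d) (I.subschemeι.stalkMap d).hom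
  obtain ⟨e⟩ := exists_equiv_push_structure I.subschemeι d
  let L : P.presheaf.stalk (I.subschemeι d) →ₗ[P.presheaf.stalk (I.subschemeι d)] I.subscheme.presheaf.stalk d :=
    LinearMap.toSpanSingleton _ _ 1
  have hL : ∀ a, L a = (I.subschemeι.stalkMap d).hom a := fun a => mul_one _
  have hk : LinearMap.ker L = IntMult.stalkIdeal I (I.subschemeι d) := by
    rw [H9Mult.stalkIdeal_eq_ker I d]
    ext a
    rw [LinearMap.mem_ker, RingHom.mem_ker, hL]
  exact ⟨((Submodule.quotEquivOfEq _ _ hk.symm).trans (L.quotKerEquivOfSurjective fun t => by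
    obtain ⟨a, ha⟩ := I.subschemeι.stalkMap_surjective d t
    exact ⟨a, (hL a).trans ha⟩)).trans e.symm⟩

variable {K : Type u} [Field K] [IsAlgClosed K] {X : Scheme.{u}} (f : X ⟶ Spec (CommRingCat.of K)) [Smooth f]
  [IsProper f] [IsIntegral X] {δ : X → ℤ} (hδ : Cyc.DeltaCompat f δ (fun _ => 0))
  {δ₂ : ↥(pullback f f) → ℤ} (h₂ : Cyc.DeltaCompat (pullback.fst f f ≫ f) δ₂ (fun _ => 0))

/-- The ideal of the product of the closures of two points. -/
abbrev boxIdeal (ξ η : X) : (pullback f f).IdealSheafData :=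
  (IntMult.ptIdeal ξ).comap (pullback.fst f f) ⊔ (IntMult.ptIdeal η).comap (pullback.snd f f)

omit [Smooth f] [IsProper f] [IsIntegral X] [IsAlgClosed K] in
theorem mem_box {ξ η : X} {w : ↥(pullback f f)} (hw : w ∈ Set.range (boxIdeal f ξ η).subschemeι) :
    ξ ⤳ pullback.fst f f w ∧ η ⤳ pullback.snd f f w := by
  rw [Scheme.IdealSheafData.range_subschemeι] at hw
  constructor
  · have h1 : w ∈ ((IntMult.ptIdeal ξ).comap (pullback.fst f f)).support :=
      Scheme.IdealSheafData.support_antitone le_sup_left hw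
    rw [Scheme.IdealSheafData.support_comap] at h1
    rw [specializes_iff_mem_closure, ← H9Mult.support_ptIdeal]
    exact h1
  · have h1 : w ∈ ((IntMult.ptIdeal η).comap (pullback.snd f f)).support :=
      Scheme.IdealSheafData.support_antitone le_sup_right hw
    rw [Scheme.IdealSheafData.support_comap] at h1
    rw [specializes_iff_mem_closure, ← H9Mult.support_ptIdeal]
    exact h1

omit [IsProper f] [IsIntegral X] [IsAlgClosed K] in
theorem maximalIdeal_eq_stalkIdeal [LocallyOfFiniteType f] {δ : X → ℤ} (hδ : Cyc.DeltaCompat f δ (fun _ => 0)) (ξ : X) :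
    IntMult.stalkIdeal (IntMult.ptIdeal ξ) ξ = maximalIdeal (X.presheaf.stalk ξ) := by
  rw [← primeOf_eq_ptIdeal (specializes_rfl : ξ ⤳ ξ) f hδ]
  ext a
  rw [mem_primeOf, TopCat.Presheaf.stalkSpecializes_refl]
  rfl

omit [IsAlgClosed K] in
include hδ h₂ in
theorem delta_diag (y : X) : δ₂ (pullback.diagonal f y) = δ y := by
  rw [H9Mult.delta_eq _ h₂, H9Mult.delta_eq f hδ]
  have e : pullback.diagonal f ≫ pullback.fst f f ≫ f = f := by rw [pullback.diagonal_fst_assoc]
  have h := FibDim.rd_comp (pullback.diagonal f) (pullback.fst f f ≫ f) y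
  haveI : IsClosedImmersion (pullback.diagonal f) := IsSeparated.isClosedImmersion_diagonal
  rw [FibDim.rd_eq_zero_of_quasiFinite (pullback.diagonal f)] at h
  rw [e] at h
  omega

include hδ h₂ in
theorem sheafFun_box [DecidableEq X] (ξ η : X) (w : ↥(pullback f f)) :
    Cyc.sheafFun δ₂ (δ ξ + δ η) (closedSheaf (boxIdeal f ξ η)) w =
      IntMult.extProd f f δ δ δ₂ (fun x => if x = ξ then 1 else 0) (fun x => if x = η then 1 else 0) w := by
  haveI : IsLocallyNoetherian X := LocallyOfFiniteType.isLocallyNoetherian f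
  have hd := CycLib.isDimFun_of_deltaCompat f (CycLib.isSetup_spec_field K) hδ
  simp only [IntMult.extProd, Cyc.sheafFun]
  by_cases hpt : pullback.fst f f w = ξ ∧ pullback.snd f f w = η
  · obtain ⟨h1, h2⟩ := hpt
    subst h1 h2
    simp only [if_true]
    by_cases hw : δ₂ w = δ (pullback.fst f f w) + δ (pullback.snd f f w)
    swap
    · rw [if_neg hw, if_neg hw]
    rw [if_pos hw, if_pos hw, one_mul, one_mul]
    have hmem : w ∈ Set.range (boxIdeal f (pullback.fst f f w) (pullback.snd f f w)).subschemeι := by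
      rw [Scheme.IdealSheafData.range_subschemeι]
      show w ∈ ((boxIdeal f _ _).support : Set ↥(pullback f f))
      rw [Scheme.IdealSheafData.support_sup, Scheme.IdealSheafData.support_comap, Scheme.IdealSheafData.support_comap]
      refine ⟨?_, ?_⟩
      · show pullback.fst f f w ∈ ((IntMult.ptIdeal (pullback.fst f f w)).support : Set X)
        rw [H9Mult.support_ptIdeal]
        exact subset_closure rfl
      · show pullback.snd f f w ∈ ((IntMult.ptIdeal (pullback.snd f f w)).support : Set X)
        rw [H9Mult.support_ptIdeal]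
        exact subset_closure rfl
    obtain ⟨e⟩ := nonempty_stalk_closedSheaf _ hmem
    rw [← e.length_eq, stalkIdeal_sup, stalkIdeal_comap, stalkIdeal_comap, maximalIdeal_eq_stalkIdeal f hδ,
      maximalIdeal_eq_stalkIdeal f hδ]
  · have hr : ((if pullback.fst f f w = ξ then (1 : ℤ) else 0) * (if pullback.snd f f w = η then 1 else 0)) = 0 := by
      split_ifs with a b <;> simp
      exact hpt ⟨a, b⟩
    rw [hr, zero_mul, ite_self]
    split_ifs with hw
    · have hs : Subsingleton ((closedSheaf (boxIdeal f ξ η)).presheaf.stalk w) := by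
        refine not_nontrivial_iff_subsingleton.1 fun hn => ?_
        obtain ⟨s1, s2⟩ := mem_box f (mem_support_of_nontrivial _ hn)
        have a1 := CycLib.delta_le hd s1
        have a2 := CycLib.delta_le hd s2
        have a3 := delta_le_add f f hδ hδ h₂ w
        exact hpt ⟨(CycLib.eq_of_delta_le hd s1 (by omega)).symm, (CycLib.eq_of_delta_le hd s2 (by omega)).symm⟩
      rw [Module.length_eq_zero]
      rfl
    · rfl

include hδ h₂ in
theorem diag_point [IsIntegral (pullback f f)] [DecidableEq X] [DecidableEq ↥(pullback f f)] {n : ℤ}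
    (hn : δ (genericPoint X) = n) (hn₂ : δ₂ (genericPoint ↥(pullback f f)) = n + n) (ξ η : X)
    (hprop : ∀ z, ξ ⤳ z → η ⤳ z → δ z ≤ δ ξ + δ η - n) (y : X) :
    IntMult.interProd δ₂ (n + n) (fun w => if w = pullback.diagonal f (genericPoint X) then 1 else 0)
      (IntMult.extProd f f δ δ δ₂ (fun x => if x = ξ then 1 else 0) (fun x => if x = η then 1 else 0))
      (pullback.diagonal f y) =
    IntMult.interProd δ n (fun x => if x = ξ then 1 else 0) (fun x => if x = η then 1 else 0) y := by
  classical
  haveI : IsLocallyNoetherian X := LocallyOfFiniteType.isLocallyNoetherian f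
  let p := pullback.fst f f
  let q := pullback.snd f f
  let Δ := pullback.diagonal f
  haveI : IsClosedImmersion Δ := IsSeparated.isClosedImmersion_diagonal
  haveI : IsLocallyNoetherian (pullback f f) := LocallyOfFiniteType.isLocallyNoetherian (p ≫ f)
  have hd := CycLib.isDimFun_of_deltaCompat f (CycLib.isSetup_spec_field K) hδ
  have hd₂ := CycLib.isDimFun_of_deltaCompat (p ≫ f) (CycLib.isSetup_spec_field K) h₂
  have hp : ∀ v, p (Δ v) = v := fun v => by rw [← Scheme.Hom.comp_apply, pullback.diagonal_fst]; rfl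
  have hq : ∀ v, q (Δ v) = v := fun v => by rw [← Scheme.Hom.comp_apply, pullback.diagonal_snd]; rfl
  let γ := Δ (genericPoint X)
  let F := Cyc.closureStructureSheaf γ
  let G := closedSheaf (boxIdeal f ξ η)
  have hγy : γ ⤳ Δ y := ((genericPoint_spec X).specializes (Set.mem_univ y)).map Δ.continuous
  have hF : Coh.IsCoh F := H9ChowK.isCoh_closure γ
  have hG : Coh.IsCoh G := isCoh_closedSheaf _
  have hFr : ∀ w, Nontrivial (F.presheaf.stalk w) → δ₂ w ≤ n := fun w hw => by
    have := CycLib.delta_le hd₂ ((nontrivial_closure_iff γ w).1 hw)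
    rw [show δ₂ γ = n from (delta_diag f hδ h₂ _).trans hn] at this
    exact this
  have hGs : ∀ w, Nontrivial (G.presheaf.stalk w) → δ₂ w ≤ δ ξ + δ η := fun w hw => by
    obtain ⟨s1, s2⟩ := mem_box f (mem_support_of_nontrivial _ hw)
    exact (delta_le_add f f hδ hδ h₂ w).trans (add_le_add (CycLib.delta_le hd s1) (CycLib.delta_le hd s2))
  have hFG : ∀ w, Nontrivial (F.presheaf.stalk w) → Nontrivial (G.presheaf.stalk w) →
      δ₂ w ≤ n + (δ ξ + δ η) - (n + n) := fun w hw hw' => by
    obtain ⟨v, rfl⟩ : w ∈ Set.range Δ := ((nontrivial_closure_iff γ w).1 hw).mem_closed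
      Δ.isClosedEmbedding.isClosed_range ⟨_, rfl⟩
    obtain ⟨s1, s2⟩ := mem_box f (mem_support_of_nontrivial _ hw')
    rw [show δ₂ (Δ v) = δ v from delta_diag f hδ h₂ v]
    have := hprop v (hp v ▸ s1) (hq v ▸ s2)
    omega
  have hFfun : (fun w => if w = γ then (1 : ℤ) else 0) = Cyc.sheafFun δ₂ n F := by
    funext w
    rw [← sheafFun_closure hd₂ γ w, show δ₂ γ = n from (delta_diag f hδ h₂ _).trans hn]
  have hGfun : IntMult.extProd f f δ δ δ₂ (fun x => if x = ξ then 1 else 0) (fun x => if x = η then 1 else 0) =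
      Cyc.sheafFun δ₂ (δ ξ + δ η) G := funext fun w => (sheafFun_box f hδ h₂ ξ η w).symm
  show IntMult.interProd δ₂ (n + n) (fun w => if w = γ then (1 : ℤ) else 0) _ (Δ y) = _
  rw [hFfun, hGfun, interProd_sheafFun (p ≫ f) h₂ hn₂ F G hF hG n (δ ξ + δ η) hFr hGs hFG (Δ y),
    show δ₂ (Δ y) = δ y from delta_diag f hδ h₂ y]
  have e1 : (fun x => if x = ξ then (1 : ℤ) else 0) = Set.indicator {ξ} 1 := by
    funext x; simp [Set.indicator_apply]
  have e2 : (fun x => if x = η then (1 : ℤ) else 0) = Set.indicator {η} 1 := by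
    funext x; simp [Set.indicator_apply]
  rw [e1, e2]
  obtain ⟨k1, k2⟩ := H9Assoc.interProd_points δ n ξ η y
  by_cases hy : ξ ⤳ y ∧ η ⤳ y ∧ δ y = δ ξ + δ η - n
  · obtain ⟨hξy, hηy, hdy⟩ := hy
    rw [if_pos (by omega), k2 hξy hηy hdy, mult_diag f _ _ y (by
      show y ∈ ((IntMult.ptIdeal η).support : Set X)
      rw [H9Mult.support_ptIdeal]
      exact specializes_iff_mem_closure.1 hηy), IntMult.mult, ker_prodMap]
    have hmem : Δ y ∈ Set.range (boxIdeal f ξ η).subschemeι := by
      rw [Scheme.IdealSheafData.range_subschemeι]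
      show Δ y ∈ ((boxIdeal f ξ η).support : Set ↥(pullback f f))
      rw [Scheme.IdealSheafData.support_sup, Scheme.IdealSheafData.support_comap, Scheme.IdealSheafData.support_comap]
      refine ⟨?_, ?_⟩
      · show p (Δ y) ∈ ((IntMult.ptIdeal ξ).support : Set X)
        rw [H9Mult.support_ptIdeal, hp]
        exact specializes_iff_mem_closure.1 hξy
      · show q (Δ y) ∈ ((IntMult.ptIdeal η).support : Set X)
        rw [H9Mult.support_ptIdeal, hq]
        exact specializes_iff_mem_closure.1 hηy
    obtain ⟨eG⟩ := nonempty_stalk_closedSheaf _ hmem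
    let L := LinearMap.toSpanSingleton ((pullback f f).presheaf.stalk (Δ y)) _ (H9ChowK.oneGerm γ (Δ y))
    have hk : LinearMap.ker L = IntMult.stalkIdeal Δ.ker (Δ y) := by
      have h0 : LinearMap.ker L = (primeOf hγy).asIdeal := by
        ext a
        exact H9ChowK.smul_oneGerm_eq_zero γ hγy a
      rw [h0, stalkIdeal_ker]
      obtain ⟨a, ha, ha'⟩ := exists_dim_primeOf (p ≫ f) h₂ hγy
      obtain ⟨D, hD, hD'⟩ := exists_dim_stalk f hδ hn y
      haveI : IsRegularLocalRing (X.presheaf.stalk y) := GrpSchLib.isRegularLocalRing_stalk_of_smooth f y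
      haveI : IsDomain (X.presheaf.stalk y) := RegLoc6.isDomain_of_isRegularLocalRing _
      have hsur : Function.Surjective (Δ.stalkMap y).hom := Δ.stalkMap_surjective y
      haveI : (RingHom.ker (Δ.stalkMap y).hom).IsPrime := RingHom.ker_isPrime _
      have hle : RingHom.ker (Δ.stalkMap y).hom ≤ (primeOf hγy).asIdeal := by
        rw [primeOf_eq_ptIdeal hγy (p ≫ f) h₂]
        exact H9Mult.stalkIdeal_le_ptIdeal Δ y ⟨_, rfl⟩
      rw [show δ₂ γ = n from (delta_diag f hδ h₂ _).trans hn, show δ₂ (Δ y) = δ y from delta_diag f hδ h₂ y] at ha'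
      obtain rfl : a = D := by omega
      refine (H9Mult.eq_of_le_of_dim hle (a := a) ?_ ha.ge).symm
      rw [ringKrullDim_eq_of_ringEquiv (RingHom.quotientKerEquivOfSurjective hsur)]
      exact hD.le
    have hs : Function.Surjective L := fun t =>
      Submodule.mem_span_singleton.1 ((H9ChowK.span_oneGerm γ (Δ y)).ge (Submodule.mem_top : t ∈ ⊤))
    exact chi_congr ((Submodule.quotEquivOfEq _ _ hk.symm).trans (L.quotKerEquivOfSurjective hs)).symm eG.symm
  · rw [show IntMult.interProd δ n (Set.indicator {ξ} 1) (Set.indicator {η} 1) y = 0 from by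
      by_contra h; exact hy (k1 h)]
    split_ifs with h
    · have hs : Subsingleton (G.presheaf.stalk (Δ y)) := not_nontrivial_iff_subsingleton.1 fun hn' => by
        obtain ⟨s1, s2⟩ := mem_box f (mem_support_of_nontrivial _ hn')
        exact hy ⟨hp y ▸ s1, hq y ▸ s2, by omega⟩
      rw [H9Samuel.chi_comm]
      refine finsum_eq_zero_of_forall_eq_zero fun i => ?_
      rw [Module.length_eq_zero_iff.2 (interProd_sheafFun.subsingleton_tor_of_subsingleton i)]
      simp
    · rfl

end Groth.Agent.H9Diag
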