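import Groth.Agent.H9Diag.ProjFormula
import Groth.Agent.H9Mult.Quot
import Groth.Agent.H9Mult.Cases
import Groth.Agent.RegLoc6.Seq
import Groth.Agent.FibDim.BaseField
import Groth.Agent.H23.EquidimFibres
import Mathlib.RingTheory.Regular.Flat
import Mathlib.RingTheory.TensorProduct.Quotient

/-!
The exterior product as an intersection product of pull-backs from the factors.
-/

set_option autoImplicit false
set_option linter.style.haveILetI false
set_option backward.isDefEq.respectTransparency false
set_option backward.isDefEq.respectTransparency.types false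
set_option maxHeartbeats 1000000

universe u

open AlgebraicGeometry CategoryTheory Limits Groth.Agent IsLocalRing TensorProduct

noncomputable section

namespace Groth.Agent.H9Diag

section Algebra

theorem cm_and_dim_fibre {A O : Type u} [CommRing A] [IsRegularLocalRing A] [CommRing O] [IsRegularLocalRing O]
    (φ : A →+* O) (hφ : φ.Flat) [IsLocalHom φ] {d D : ℕ} (hd : ringKrullDim A = d) (hD : ringKrullDim O = D) :
    LocCoh.IsCohenMacaulayLocalRing (O ⧸ (maximalIdeal A).map φ) ∧
      ∃ c : ℕ, ringKrullDim (O ⧸ (maximalIdeal A).map φ) = c ∧ c + d = D := by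
  constructor
  · obtain ⟨rs, hreg, hrs⟩ := RegLoc6.exists_regularSequence_maximalIdeal A
    algebraize [φ]
    haveI : IsLocalHom (algebraMap A O) := inferInstanceAs (IsLocalHom φ)
    haveI : Module.FaithfullyFlat A O := Module.FaithfullyFlat.of_flat_of_isLocalHom
    exact H9Mult.isCM_quot_regular _ (hreg.of_faithfullyFlat (S := O)) _ (by rw [← Ideal.map_ofList, hrs]; rfl)
  · have h := dim_flat_quot φ hφ ⊥ bot_ne_top
    rw [Ideal.map_bot, ringKrullDim_eq_of_ringEquiv (RingEquiv.quotientBot O),
      ringKrullDim_eq_of_ringEquiv (RingEquiv.quotientBot A), hd, hD] at h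
    have hne : (maximalIdeal A).map φ ≠ ⊤ :=
      ne_top_of_le_ne_top (maximalIdeal.isMaximal O).ne_top (((local_hom_TFAE φ).out 0 2).1 ‹IsLocalHom φ›)
    haveI : Nontrivial (O ⧸ (maximalIdeal A).map φ) := Ideal.Quotient.nontrivial_iff.2 hne
    obtain ⟨c, hc⟩ := H9Mult.chi_eq_length.exists_nat_dim ((ringKrullDim_quotient_le ((maximalIdeal A).map φ)).trans hD.le)
    rw [hc] at h
    exact ⟨c, hc, by
      have : D = d + c := by exact_mod_cast h
      omega⟩

theorem chi_transversal {A B O : Type u} [CommRing A] [IsRegularLocalRing A] [CommRing B] [IsRegularLocalRing B]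
    [CommRing O] [IsRegularLocalRing O] (φ : A →+* O) (ψ : B →+* O) (hφ : φ.Flat) (hψ : ψ.Flat) [IsLocalHom φ]
    [IsLocalHom ψ] {a b D : ℕ} (ha : ringKrullDim A = a) (hb : ringKrullDim B = b) (hD : ringKrullDim O = D)
    (hab : a + b ≤ D) (hfin : ∃ e : ℕ, maximalIdeal O ^ e ≤ (maximalIdeal A).map φ ⊔ (maximalIdeal B).map ψ) :
    IntMult.chi O (O ⧸ (maximalIdeal A).map φ) (O ⧸ (maximalIdeal B).map ψ) =
      ((Module.length O (O ⧸ ((maximalIdeal A).map φ ⊔ (maximalIdeal B).map ψ))).toNat : ℤ) := by
  obtain ⟨h1, c, hc, hc'⟩ := cm_and_dim_fibre φ hφ ha hD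
  obtain ⟨h2, e, he, he'⟩ := cm_and_dim_fibre ψ hψ hb hD
  exact (H9Mult.chi_eq_length _ _ h1 h2 (by rw [hD, hc, he]; exact_mod_cast (by omega : D ≤ c + e)) hfin).2

end Algebra

variable {X Y : Scheme.{u}}

/-- The stalk of the structure sheaf of a closure at its generic point. -/
theorem nonempty_closure_residue (ξ : X) :
    Nonempty ((X.presheaf.stalk ξ ⧸ maximalIdeal (X.presheaf.stalk ξ)) ≃ₗ[X.presheaf.stalk ξ]
      (Cyc.closureStructureSheaf ξ).presheaf.stalk ξ) := by
  let L := LinearMap.toSpanSingleton (X.presheaf.stalk ξ) _ (H9ChowK.oneGerm ξ ξ)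
  have hs : Function.Surjective L := fun t =>
    Submodule.mem_span_singleton.1 ((H9ChowK.span_oneGerm ξ ξ).ge (Submodule.mem_top : t ∈ ⊤))
  have hk : LinearMap.ker L = maximalIdeal (X.presheaf.stalk ξ) := by
    ext r
    exact H9ChowK.smul_oneGerm_self ξ r
  exact ⟨(Submodule.quotEquivOfEq _ _ hk.symm).trans (L.quotKerEquivOfSurjective hs)⟩

theorem nonempty_pullback_closure (f : X ⟶ Y) [Flat f] {x : X} {η : Y} (h : f x = η) :
    Nonempty ((X.presheaf.stalk x ⧸ (maximalIdeal (Y.presheaf.stalk (f x))).map (f.stalkMap x).hom) ≃ₗ[X.presheaf.stalk x]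
      ((Scheme.Modules.pullback f).obj (Cyc.closureStructureSheaf η)).presheaf.stalk x) := by
  subst h
  have eG := ((KFlatLib.stalkPullbackIso f x).app (Cyc.closureStructureSheaf (f x))).toLinearEquiv
  obtain ⟨e⟩ := nonempty_closure_residue (f x)
  refine ⟨?_⟩
  algebraize [(f.stalkMap x).hom]
  exact LinearEquiv.trans (M₂ := X.presheaf.stalk x ⊗[Y.presheaf.stalk (f x)]
      (Cyc.closureStructureSheaf (f x)).presheaf.stalk (f x))
    ((Algebra.TensorProduct.quotIdealMapEquivTensorQuot (X.presheaf.stalk x)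
    (maximalIdeal (Y.presheaf.stalk (f x)))).toLinearEquiv.trans
      (TensorProduct.AlgebraTensorModule.congr (LinearEquiv.refl (X.presheaf.stalk x) (X.presheaf.stalk x)) e))
    eG.symm

variable {K : Type u} [Field K] [IsAlgClosed K] (f : X ⟶ Spec (CommRingCat.of K)) (g : Y ⟶ Spec (CommRingCat.of K))
  [Smooth f] [IsSeparated f] [QuasiCompact f] [IsIntegral X] [Smooth g] [IsSeparated g] [QuasiCompact g] [IsIntegral Y]
  {δX : X → ℤ} {δY : Y → ℤ} {δ : ↥(pullback f g) → ℤ} (hX : Cyc.DeltaCompat f δX (fun _ => 0))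
  (hY : Cyc.DeltaCompat g δY (fun _ => 0)) (hXY : Cyc.DeltaCompat (pullback.fst f g ≫ f) δ (fun _ => 0))

omit [IsSeparated f] [IsSeparated g] [IsIntegral X] [IsIntegral Y] [QuasiCompact f] [QuasiCompact g] [IsAlgClosed K] in
include hX hY hXY in
theorem delta_le_add (z : ↥(pullback f g)) : δ z ≤ δX (pullback.fst f g z) + δY (pullback.snd f g z) := by
  rw [H9Mult.delta_eq _ hXY, H9Mult.delta_eq f hX, H9Mult.delta_eq g hY, FibDim.rd_comp]
  have h := FibDim.rd_baseChange_le (IsPullback.of_hasPullback f g).flip z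
  push_cast
  omega

omit [IsSeparated f] [QuasiCompact f] in
include hX in
theorem delta_le_generic {n : ℕ} (hn : δX (genericPoint X) = n) (x : X) : δX x ≤ n := by
  have hd := CycLib.isDimFun_of_deltaCompat f (CycLib.isSetup_spec_field K) hX
  rw [← hn]
  exact CycLib.delta_le hd ((genericPoint_spec X).specializes (Set.mem_univ x))

include hX hY hXY in
theorem prod_data {n m : ℕ} (hn : δX (genericPoint X) = n) (hm : δY (genericPoint Y) = m) :
    ∃ _ : IsIntegral (pullback f g), δ (genericPoint ↥(pullback f g)) = n + m := by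
  haveI : IsIntegral (Over.mk g).left := ‹IsIntegral Y›
  haveI : GeometricallyIntegral g := H23.EquidimFibres.geometricallyIntegral_of_isAlgClosed (V := Over.mk g)
  haveI : IsLocallyNoetherian X := LocallyOfFiniteType.isLocallyNoetherian f
  haveI hI : IsIntegral (pullback f g) := inferInstance
  refine ⟨hI, le_antisymm ?_ ?_⟩
  · have h := delta_le_add f g hX hY hXY (genericPoint ↥(pullback f g))
    have h1 := delta_le_generic f hX hn (pullback.fst f g (genericPoint ↥(pullback f g)))
    have h2 := delta_le_generic g hY hm (pullback.snd f g (genericPoint ↥(pullback f g)))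
    omega
  · haveI := FibDim.subsingleton_spec_field K
    obtain ⟨z, hz1, hz2, hz⟩ := FibDim.exists_rd_baseChange_eq (IsPullback.of_hasPullback f g).flip (genericPoint Y)
      (genericPoint X) (Subsingleton.elim _ _)
    have hd := CycLib.isDimFun_of_deltaCompat (pullback.fst f g ≫ f) (CycLib.isSetup_spec_field K) hXY
    refine le_trans (le_of_eq ?_) (CycLib.delta_le hd ((genericPoint_spec ↥(pullback f g)).specializes (Set.mem_univ z)))
    rw [← hn, ← hm, H9Mult.delta_eq _ hXY, H9Mult.delta_eq f hX, H9Mult.delta_eq g hY, FibDim.rd_comp, hz2, hz]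
    push_cast
    rfl

include hX hY hXY in
/-- The product of the pull-backs of two points. -/
theorem chi_ext_point [IsIntegral (pullback f g)] {n m : ℕ} (hn : δX (genericPoint X) = n)
    (hm : δY (genericPoint Y) = m) (hnm : δ (genericPoint ↥(pullback f g)) = n + m) {ξ : X} {η : Y}
    (z : ↥(pullback f g)) (hξ : pullback.fst f g z = ξ) (hη : pullback.snd f g z = η) (hz : δ z = δX ξ + δY η) :
    IntMult.chi ((pullback f g).presheaf.stalk z)
        (((Scheme.Modules.pullback (pullback.fst f g)).obj (Cyc.closureStructureSheaf ξ)).presheaf.stalk z)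
        (((Scheme.Modules.pullback (pullback.snd f g)).obj (Cyc.closureStructureSheaf η)).presheaf.stalk z) =
      ((Module.length ((pullback f g).presheaf.stalk z)
        (↑((pullback f g).presheaf.stalk z) ⧸
          ((maximalIdeal (X.presheaf.stalk (pullback.fst f g z))).map ((pullback.fst f g).stalkMap z).hom ⊔
            (maximalIdeal (Y.presheaf.stalk (pullback.snd f g z))).map
              ((pullback.snd f g).stalkMap z).hom))).toNat : ℤ) := by
  let p := pullback.fst f g
  let q := pullback.snd f g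
  haveI : IsLocallyNoetherian X := LocallyOfFiniteType.isLocallyNoetherian f
  haveI : IsLocallyNoetherian Y := LocallyOfFiniteType.isLocallyNoetherian g
  haveI : IsLocallyNoetherian (pullback f g) := LocallyOfFiniteType.isLocallyNoetherian (p ≫ f)
  haveI : IsRegularLocalRing (X.presheaf.stalk (p z)) := GrpSchLib.isRegularLocalRing_stalk_of_smooth f _
  haveI : IsRegularLocalRing (Y.presheaf.stalk (q z)) := GrpSchLib.isRegularLocalRing_stalk_of_smooth g _
  haveI : IsRegularLocalRing ((pullback f g).presheaf.stalk z) :=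
    GrpSchLib.isRegularLocalRing_stalk_of_smooth (p ≫ f) _
  obtain ⟨e₁⟩ := nonempty_pullback_closure p hξ
  obtain ⟨e₂⟩ := nonempty_pullback_closure q hη
  have hd := CycLib.isDimFun_of_deltaCompat (p ≫ f) (CycLib.isSetup_spec_field K) hXY
  have hdX := CycLib.isDimFun_of_deltaCompat f (CycLib.isSetup_spec_field K) hX
  have hdY := CycLib.isDimFun_of_deltaCompat g (CycLib.isSetup_spec_field K) hY
  have hP := primary_stalk hd _ _ (ZClosLib.isCoh_pullback p (H9ChowK.isCoh_closure ξ))
    (ZClosLib.isCoh_pullback q (H9ChowK.isCoh_closure η)) z fun w _ h1 h2 => by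
      have a1 := CycLib.delta_le hdX ((nontrivial_closure_iff ξ _).1 (H23.FlatShift.nontrivial_of_pullback p _ w h1))
      have a2 := CycLib.delta_le hdY ((nontrivial_closure_iff η _).1 (H23.FlatShift.nontrivial_of_pullback q _ w h2))
      have a3 := delta_le_add f g hX hY hXY w
      exact a3.trans ((add_le_add a1 a2).trans hz.ge)
  obtain ⟨e, he⟩ := ((hP.mono (annihilator_le_of_equiv e₁.symm)).symm.mono (annihilator_le_of_equiv e₂.symm)).symm
  rw [Ideal.annihilator_quotient, Ideal.annihilator_quotient] at he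
  rw [chi_congr e₁.symm e₂.symm]
  obtain ⟨a, ha, ha'⟩ := exists_dim_stalk f hX hn (p z)
  obtain ⟨b, hb, hb'⟩ := exists_dim_stalk g hY hm (q z)
  obtain ⟨D, hD, hD'⟩ := exists_dim_stalk (p ≫ f) hXY hnm z
  exact chi_transversal (p.stalkMap z).hom (q.stalkMap z).hom (Flat.stalkMap p z) (Flat.stalkMap q z) ha hb hD
    (by
      have k1 : δX (p z) = δX ξ := congrArg δX hξ
      have k2 : δY (q z) = δY η := congrArg δY hη
      omega) ⟨e, he⟩

end Groth.Agent.H9Diag
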