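import Groth.Agent.H9Diag.TorChange
import Groth.Agent.H9CycPush.Stalk
import Groth.Agent.H9ChowK.ClosureStalk
import Groth.Agent.CycLib.DivPush
import Groth.Agent.ExistEasy.PP.HatLemmas

/-!
`χ` of the push-forward of the structure sheaf of a subvariety, at a point over which it is finite.
-/

set_option autoImplicit false
set_option linter.style.haveILetI false
set_option backward.isDefEq.respectTransparency false
set_option backward.isDefEq.respectTransparency.types false
set_option maxHeartbeats 1000000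

universe u

open AlgebraicGeometry CategoryTheory TensorProduct IsLocalRing Groth.Agent H9CycPush

noncomputable section

namespace Groth.Agent.H9Diag

variable {X Y Z : Scheme.{u}} (f : X ⟶ Y) (i : Z ⟶ X)

theorem ringMap_comp {z : Z} {y : Y} (hz : (i ≫ f) z ⤳ y) (hz' : f (i z) ⤳ y) :
    ringMap (i ≫ f) hz = (i.stalkMap z).hom.comp (ringMap f hz') := by
  rw [ringMap, ringMap, Scheme.Hom.stalkMap_comp]
  rfl

theorem ringMap_isLocalHom {x : X} {y : Y} (hx : f x = y) : IsLocalHom (ringMap f (specializes_of_eq hx)) := by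
  subst hx
  rw [ringMap, TopCat.Presheaf.stalkSpecializes_refl, Category.id_comp]
  infer_instance

theorem ringMap_flat [Flat f] {x : X} {y : Y} (hx : f x = y) : (ringMap f (specializes_of_eq hx)).Flat := by
  subst hx
  rw [ringMap, TopCat.Presheaf.stalkSpecializes_refl, Category.id_comp]
  exact Flat.stalkMap f x

theorem toNat_length_residue [LocallyOfFiniteType f] {δX : X → ℤ} {δY : Y → ℤ} (hδ : Cyc.DeltaCompat f δX δY)
    (x : X) (heq : δX x = δY (f x)) [Algebra (Y.presheaf.stalk (f x)) (X.presheaf.stalk x)]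
    [IsLocalHom (algebraMap (Y.presheaf.stalk (f x)) (X.presheaf.stalk x))]
    (halg : algebraMap (Y.presheaf.stalk (f x)) (X.presheaf.stalk x) = (f.stalkMap x).hom) :
    (Module.length (IsLocalRing.ResidueField (Y.presheaf.stalk (f x)))
      (IsLocalRing.ResidueField (X.presheaf.stalk x))).toNat = f.residueDegree x := by
  obtain ⟨n, hn, hδx⟩ := hδ x
  obtain rfl : n = 0 := by omega
  letI aK : Algebra (Y.residueField (f x)) (X.residueField x) := (f.residueFieldMap x).hom.toAlgebra
  haveI : Module.Finite (Y.residueField (f x)) (X.residueField x) := by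
    refine CycLib.finite_residueFieldMap_of_rd_eq_zero f x ?_
    have h1 := FibDim.rd_eq_rdeg f x
    rw [VarDim.rdeg, hn] at h1
    exact_mod_cast h1
  let e₁ : Y.residueField (f x) ≃+* IsLocalRing.ResidueField (Y.presheaf.stalk (f x)) := RingEquiv.refl _
  let e₂ : X.residueField x ≃+* IsLocalRing.ResidueField (X.presheaf.stalk x) := RingEquiv.refl _
  have hc : (algebraMap (IsLocalRing.ResidueField (Y.presheaf.stalk (f x)))
      (IsLocalRing.ResidueField (X.presheaf.stalk x))).comp e₁.toRingHom =
      e₂.toRingHom.comp (algebraMap (Y.residueField (f x)) (X.residueField x)) := by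
    refine Ideal.Quotient.ringHom_ext (RingHom.ext fun a => ?_)
    show algebraMap _ _ (IsLocalRing.residue _ a) = IsLocalRing.residue _ ((f.stalkMap x).hom a)
    rw [IsLocalRing.ResidueField.algebraMap_residue, halg]
  haveI : Module.Finite (IsLocalRing.ResidueField (Y.presheaf.stalk (f x)))
      (IsLocalRing.ResidueField (X.presheaf.stalk x)) :=
    Module.Finite.of_equiv_equiv e₁ e₂ hc
  rw [H23.FiniteFibreSum.length_eq_finrank, ENat.toNat_natCast]
  exact (Algebra.finrank_eq_of_equiv_equiv e₁ e₂ hc).symm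

/-- The stalk at a point of the push-forward of the structure sheaf along a closed immersion. -/
theorem exists_equiv_push_structure [IsClosedImmersion i] (z : Z) :
    letI := Module.compHom (Z.presheaf.stalk z) (i.stalkMap z).hom
    Nonempty (((Coh.push i).obj (Coh.structureModule Z)).presheaf.stalk (i z) ≃ₗ[X.presheaf.stalk (i z)]
      Z.presheaf.stalk z) := by
  letI := Module.compHom (Z.presheaf.stalk z) (i.stalkMap z).hom
  letI := Module.compHom ((Coh.structureModule Z).presheaf.stalk z) (i.stalkMap z).hom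
  let u : Z.presheaf.stalk z ≃ₗ[Z.presheaf.stalk z] (Coh.structureModule Z).presheaf.stalk z :=
    LinearEquiv.ofBijective (LinearMap.toSpanSingleton (Z.presheaf.stalk z) _ (H23.UnitSec.one z))
      ⟨fun a b h => sub_eq_zero.1 (H23.UnitSec.eq_zero_of_smul_one (a - b) (by rw [sub_smul]; exact sub_eq_zero.2 h)),
       fun m => Submodule.mem_span_singleton.1 ((H23.UnitSec.span_one z).ge (Submodule.mem_top : m ∈ ⊤))⟩
  have hbij : Function.Bijective (toStalkAdd i (Coh.structureModule Z) (specializes_rfl : i z ⤳ i z)) := by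
    haveI := KFlatLib.isIso_stalkPushforward_closed i (Coh.structureModule Z) z
    rw [toStalkAdd, TopCat.Presheaf.stalkSpecializes_refl]
    erw [Category.id_comp]
    exact ConcreteCategory.bijective_of_isIso
      (TopCat.Presheaf.stalkPushforward Ab.{u} i.base (Coh.structureModule Z).presheaf z)
  have hmap : ringMap i (specializes_rfl : i z ⤳ i z) = (i.stalkMap z).hom := by
    rw [ringMap, TopCat.Presheaf.stalkSpecializes_refl, Category.id_comp]
  refine ⟨LinearEquiv.ofBijective
    { toFun := fun m => u.symm (toStalkAdd i (Coh.structureModule Z) (specializes_rfl : i z ⤳ i z) m)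
      map_add' := fun a b => by rw [map_add, map_add]
      map_smul' := fun a m => by
        rw [toStalkAdd_smul, map_smul, hmap]
        rfl } (u.symm.bijective.comp hbij)⟩

/-- Change of rings at one point of the fibre. -/
theorem chi_point [IsClosedImmersion i] [Flat f] [LocallyOfFiniteType f] {δX : X → ℤ} {δY : Y → ℤ}
    (hδ : Cyc.DeltaCompat f δX δY) (z : Z) {y : Y} (hz : f (i z) = y) (heq : δX (i z) = δY y)
    (N : Type u) [AddCommGroup N] [Module (Y.presheaf.stalk y) N] :
    letI := (ringMap f (specializes_of_eq hz)).toAlgebra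
    letI := (ringMap (i ≫ f) (specializes_of_eq (show (i ≫ f) z = y from hz))).toAlgebra
    IntMult.chi (Y.presheaf.stalk y) (Z.presheaf.stalk z) N = (f.residueDegree (i z) : ℤ) *
      IntMult.chi (X.presheaf.stalk (i z)) (((Coh.push i).obj (Coh.structureModule Z)).presheaf.stalk (i z))
        (X.presheaf.stalk (i z) ⊗[Y.presheaf.stalk y] N) := by
  letI aB := (ringMap f (specializes_of_eq hz)).toAlgebra
  letI aL := (ringMap (i ≫ f) (specializes_of_eq (show (i ≫ f) z = y from hz))).toAlgebra
  letI mL : Module (X.presheaf.stalk (i z)) (Z.presheaf.stalk z) :=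
    Module.compHom (Z.presheaf.stalk z) (i.stalkMap z).hom
  haveI : IsScalarTower (Y.presheaf.stalk y) (X.presheaf.stalk (i z)) (Z.presheaf.stalk z) :=
    IsScalarTower.of_algebraMap_smul fun a m => by
      show (i.stalkMap z).hom (ringMap f _ a) * m = ringMap (i ≫ f) _ a * m
      rw [ringMap_comp f i (specializes_of_eq (show (i ≫ f) z = y from hz)) (specializes_of_eq hz)]
      rfl
  haveI hloc : IsLocalHom (algebraMap (Y.presheaf.stalk y) (X.presheaf.stalk (i z))) := ringMap_isLocalHom f hz
  haveI : Module.Flat (Y.presheaf.stalk y) (X.presheaf.stalk (i z)) := RingHom.flat_algebraMap_iff.1 (ringMap_flat f hz)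
  obtain ⟨e⟩ := exists_equiv_push_structure i z
  rw [chi_change (Y.presheaf.stalk y) (X.presheaf.stalk (i z)) (Z.presheaf.stalk z) N, chi_congr_left e.symm, mul_comm]
  refine congrArg (fun t : ℕ => (t : ℤ) * _) ?_
  revert hloc
  subst hz
  intro hloc
  exact toNat_length_residue f hδ (i z) heq (by
    show ringMap f _ = _
    rw [ringMap, TopCat.Presheaf.stalkSpecializes_refl, Category.id_comp])

/-- `χ` of the push-forward of the structure sheaf of a closure at a point over which it is finite. -/
theorem chi_push_closure [IsLocallyNoetherian Y] [IsProper f] [Flat f] {δX : X → ℤ} {δY : Y → ℤ}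
    (hδ : Cyc.DeltaCompat f δX δY) (ξ : X) (y : Y) [IsRegularLocalRing (Y.presheaf.stalk y)]
    (hT : {x : X | f x = y ∧ ξ ⤳ x}.Finite) (heq : ∀ x, f x = y → ξ ⤳ x → δX x = δY y)
    (N : Type u) [AddCommGroup N] [Module (Y.presheaf.stalk y) N] [Module.Finite (Y.presheaf.stalk y) N]
    (hP : Primary (Y.presheaf.stalk y) (((Coh.push f).obj (Cyc.closureStructureSheaf ξ)).presheaf.stalk y) N)
    (g : X → ℤ) (hg : ∀ (x : X) (hx : f x = y), ξ ⤳ x →
      letI := (ringMap f (specializes_of_eq hx)).toAlgebra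
      g x = IntMult.chi (X.presheaf.stalk x) ((Cyc.closureStructureSheaf ξ).presheaf.stalk x)
        (X.presheaf.stalk x ⊗[Y.presheaf.stalk y] N)) :
    IntMult.chi (Y.presheaf.stalk y) (((Coh.push f).obj (Cyc.closureStructureSheaf ξ)).presheaf.stalk y) N =
      ∑ᶠ x ∈ {x : X | f x = y ∧ ξ ⤳ x}, (f.residueDegree x : ℤ) * g x := by
  classical
  let Z' := (IntMult.ptIdeal ξ).subscheme
  let j : Z' ⟶ X := (IntMult.ptIdeal ξ).subschemeι
  let h : Z' ⟶ Y := j ≫ f
  haveI : IsLocallyNoetherian X := LocallyOfFiniteType.isLocallyNoetherian f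
  have hrange : Set.range j = closure {ξ} := H9ChowK.range_ptIdeal ξ
  have himg : {x : X | f x = y ∧ ξ ⤳ x} = j '' (h ⁻¹' {y}) := by
    ext x
    constructor
    · rintro ⟨hx, hξx⟩
      obtain ⟨z, rfl⟩ : x ∈ Set.range j := by rw [hrange]; exact specializes_iff_mem_closure.1 hξx
      exact ⟨z, hx, rfl⟩
    · rintro ⟨z, hz, rfl⟩
      exact ⟨hz, specializes_iff_mem_closure.2 (hrange.subset ⟨z, rfl⟩)⟩
  have hfib : (h ⁻¹' {y}).Finite := by
    rw [himg] at hT
    exact hT.of_finite_image j.isClosedEmbedding.injective.injOn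
  obtain ⟨V₀, hyV₀, hfinV₀⟩ := exists_isFinite_morphismRestrict_of_finite_preimage_singleton h y hfib
  obtain ⟨V, hV, hyV, hVV₀⟩ := exists_isAffineOpen_mem_and_subset (x := y) (U := V₀) hyV₀
  haveI : IsFinite (h ∣_ V) := by
    have hle : h ⁻¹ᵁ V ≤ h ⁻¹ᵁ V₀ := fun z hz => hVV₀ hz
    have hw : Z'.homOfLE hle ≫ (h ∣_ V₀) = (h ∣_ V) ≫ Y.homOfLE hVV₀ := by
      rw [← cancel_mono V₀.ι]
      simp [morphismRestrict_ι]
    have hsq : IsPullback (Z'.homOfLE hle) (h ∣_ V) (h ∣_ V₀) (Y.homOfLE hVV₀) := by
      refine IsPullback.of_right ?_ hw (isPullback_morphismRestrict h V₀).flip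
      rw [Scheme.homOfLE_ι, Scheme.homOfLE_ι]
      exact (isPullback_morphismRestrict h V).flip
    exact MorphismProperty.of_isPullback hsq hfinV₀
  obtain ⟨hU, hfin⟩ := CycLib.finite_app_of_restrict h hV
  let R := Γ(Y, V)
  let S := Γ(Z', h ⁻¹ᵁ V)
  let A := Y.presheaf.stalk y
  letI aRS : Algebra R S := (h.app V).hom.toAlgebra
  haveI : Module.Finite R S := hfin
  letI aRA : Algebra R A := QCoh.stalkAlg hyV
  let P := (hV.primeIdealOf ⟨y, hyV⟩).asIdeal
  haveI hlocA : IsLocalization.AtPrime A P := QCoh.isLocalization_stalk' hV hyV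
  let M := (Coh.push f).obj (Cyc.closureStructureSheaf ξ)
  have hM : Coh.IsCoh M := ExistEasy.isCoh_pushforward_proper f (H9ChowK.isCoh_closure ξ)
  letI := QCoh.stalkModule M hyV
  haveI : IsScalarTower R A (M.presheaf.stalk y) := QCoh.isScalarTower_stalk M hyV
  haveI hloc0 : IsLocalizedModule P.primeCompl (QCoh.germLin M hyV) := QCoh.isLocalizedModule_germLin hM.1 hV hyV
  let κ : S ≃ₗ[R] Γ(M, V) :=
    { toFun := fun s => (show Γ(M, V) from s)
      invFun := fun s => (show S from s)
      left_inv := fun _ => rfl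
      right_inv := fun _ => rfl
      map_add' := fun _ _ => rfl
      map_smul' := fun r s => by
        refine ((QCoh.pushforward_smul (M := Cyc.closureStructureSheaf ξ) f V r _).trans ?_).symm
        refine (QCoh.pushforward_smul (M := Coh.structureModule Z') j (f ⁻¹ᵁ V) _ _).trans ?_
        rfl }
  have hbc : IsBaseChange A ((QCoh.germLin M hyV).comp κ.toLinearMap) := by
    haveI : IsLocalizedModule P.primeCompl ((QCoh.germLin M hyV).comp κ.toLinearMap) :=
      IsLocalizedModule.of_linearEquiv_right P.primeCompl (QCoh.germLin M hyV) κ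
    exact (isLocalizedModule_iff_isBaseChange P.primeCompl A _).1 inferInstance
  let C := A ⊗[R] S
  let eC : C ≃ₗ[A] M.presheaf.stalk y := hbc.equiv
  letI := hfib.fintype
  let ι := ↥(h ⁻¹' {y})
  have hzU : ∀ q : ι, q.1 ∈ h ⁻¹ᵁ V := fun q => show h q.1 ∈ V from (show h q.1 = y from q.2).symm ▸ hyV
  let Bi : ι → Type u := fun q => Z'.presheaf.stalk q.1
  letI aABi : ∀ q : ι, Algebra A (Bi q) := fun q =>
    (ringMap h (specializes_of_eq (show h q.1 = y from q.2))).toAlgebra
  haveI : ∀ q : ι, IsLocalHom (algebraMap A (Bi q)) := fun q => ringMap_isLocalHom h (show h q.1 = y from q.2)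
  letI aRBi : ∀ q : ι, Algebra R (Bi q) := fun q => ((algebraMap A (Bi q)).comp (algebraMap R A)).toAlgebra
  haveI : ∀ q : ι, IsScalarTower R A (Bi q) := fun q => IsScalarTower.of_algebraMap_eq fun _ => rfl
  let σ : ∀ q : ι, S →ₐ[R] Bi q := fun q =>
    { (Z'.presheaf.germ (h ⁻¹ᵁ V) q.1 (hzU q)).hom with
      commutes' := fun r => (ringMap_germ h (specializes_of_eq (show h q.1 = y from q.2)) V hyV r).symm }
  let L : ∀ q : ι, C →ₐ[A] Bi q := fun q =>
    Algebra.TensorProduct.lift (Algebra.ofId A (Bi q)) (σ q) fun a b => Commute.all _ _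
  letI aCBi : ∀ q : ι, Algebra C (Bi q) := fun q => (L q).toRingHom.toAlgebra
  haveI : ∀ q : ι, IsScalarTower A C (Bi q) := fun q =>
    IsScalarTower.of_algebraMap_eq fun a => ((L q).commutes a).symm
  letI aSC : Algebra S C := Algebra.TensorProduct.rightAlgebra
  letI aSBi : ∀ q : ι, Algebra S (Bi q) := fun q => (σ q).toRingHom.toAlgebra
  haveI : ∀ q : ι, IsScalarTower S C (Bi q) := fun q => IsScalarTower.of_algebraMap_eq fun s => by
    show σ q s = L q (1 ⊗ₜ s)
    exact ((Algebra.TensorProduct.lift_tmul _ _ _ _ _).trans (by rw [map_one, one_mul])).symm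
  haveI : IsLocalization (Algebra.algebraMapSubmonoid S P.primeCompl) C := inferInstance
  let Q : ι → Ideal S := fun q => (hU.primeIdealOf ⟨q.1, hzU q⟩).asIdeal
  haveI hlocS : ∀ q : ι, IsLocalization.AtPrime (Bi q) (Q q) := fun q =>
    QCoh.isLocalization_stalk' hU (hzU q)
  have hcompat : ∀ (z : Z') (hz : z ∈ h ⁻¹ᵁ V) (r : R), h.app V r ∉ (hU.primeIdealOf ⟨z, hz⟩).asIdeal ↔ h z ∈ Y.basicOpen r := by
    intro z hz r
    rw [← QCoh.mem_basicOpen_iff_notMem hU hz, ← Scheme.preimage_basicOpen]
    rfl
  have hle : ∀ q : ι, Algebra.algebraMapSubmonoid S P.primeCompl ≤ (Q q).primeCompl := by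
    rintro q _ ⟨r, hr, rfl⟩
    refine (hcompat q.1 (hzU q) r).2 ?_
    rw [show h q.1 = y from q.2]
    exact (QCoh.mem_basicOpen_iff_notMem hV hyV r).2 hr
  let m : ι → Ideal C := fun q => (maximalIdeal (Bi q)).comap (algebraMap C (Bi q))
  haveI hmp : ∀ q, (m q).IsPrime := fun q => inferInstance
  haveI : ∀ q, (m q).IsMaximal := fun q => by
    refine Ideal.isMaximal_of_isIntegral_of_isMaximal_comap (R := A) (m q) ?_
    have : (m q).comap (algebraMap A C) = maximalIdeal A := by
      ext a
      simp only [m, Ideal.mem_comap]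
      rw [← IsScalarTower.algebraMap_apply A C (Bi q), IsLocalRing.mem_maximalIdeal, IsLocalRing.mem_maximalIdeal,
        mem_nonunits_iff, mem_nonunits_iff, isUnit_map_iff]
    rw [this]
    exact maximalIdeal.isMaximal A
  have hmQ : ∀ q, (m q).comap (algebraMap S C) = Q q := fun q => by
    ext s
    simp only [m, Ideal.mem_comap]
    rw [← IsScalarTower.algebraMap_apply S C (Bi q)]
    exact IsLocalization.AtPrime.to_map_mem_maximal_iff (Bi q) (Q q) s
  haveI : ∀ q, IsLocalization.AtPrime (Bi q) (m q) := fun q => by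
    haveI := IsLocalization.isLocalization_of_submonoid_le (R := S) C (Bi q)
      (Algebra.algebraMapSubmonoid S P.primeCompl) (Q q).primeCompl (hle q)
    refine IsLocalization.of_le ((Q q).primeCompl.map (algebraMap S C)) (m q).primeCompl ?_ fun c hc => ?_
    · rintro _ ⟨s, hs, rfl⟩
      exact fun hm => hs ((hmQ q).le hm)
    · by_contra hu
      exact hc ((IsLocalRing.mem_maximalIdeal _).2 hu)
  have hinj : Function.Injective m := fun q q' hqq => by
    have h1 : Q q = Q q' := by rw [← hmQ, ← hmQ, hqq]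
    refine Subtype.ext (CycLib.eq_of_basicOpen_iff hU (hzU q) (hzU q') fun c => ?_)
    rw [QCoh.mem_basicOpen_iff_notMem hU (hzU q), QCoh.mem_basicOpen_iff_notMem hU (hzU q')]
    exact not_congr (SetLike.ext_iff.1 h1 c)
  have hall : ∀ W : Ideal C, W.IsMaximal → ∃ q, m q = W := by
    intro W hW
    haveI := hW
    have hWA : W.comap (algebraMap A C) = maximalIdeal A :=
      IsLocalRing.eq_maximalIdeal (Ideal.isMaximal_comap_of_isIntegral_of_isMaximal W)
    obtain ⟨z, hzU', hz⟩ := QCoh.exists_point hU ⟨W.comap (algebraMap S C), inferInstance⟩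
    have hzy : h z = y := by
      refine CycLib.eq_of_basicOpen_iff hV hzU' hyV fun r => ?_
      rw [← hcompat z hzU' r, hz, QCoh.mem_basicOpen_iff_notMem hV hyV]
      refine not_congr ?_
      show algebraMap S C (h.app V r) ∈ W ↔ r ∈ P
      have he : algebraMap S C (h.app V r) = algebraMap A C (algebraMap R A r) := by
        show (1 : A) ⊗ₜ[R] algebraMap R S r = algebraMap R A r ⊗ₜ[R] (1 : S)
        rw [Algebra.algebraMap_eq_smul_one, Algebra.algebraMap_eq_smul_one (A := A), TensorProduct.tmul_smul,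
          TensorProduct.smul_tmul']
      rw [he, ← Ideal.mem_comap, hWA]
      exact IsLocalization.AtPrime.to_map_mem_maximal_iff A P r
    refine ⟨⟨z, hzy⟩, ?_⟩
    have h2 : (m ⟨z, hzy⟩).comap (algebraMap S C) = W.comap (algebraMap S C) := by
      rw [hmQ]
      exact congrArg PrimeSpectrum.asIdeal hz
    exact (IsLocalization.map_comap (Algebra.algebraMapSubmonoid S P.primeCompl) C _).symm.trans
      ((congrArg (Ideal.map (algebraMap S C)) h2).trans
        (IsLocalization.map_comap (Algebra.algebraMapSubmonoid S P.primeCompl) C W))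
  have hPC : Primary A C N := hP.mono (annihilator_le_of_equiv eC.symm)
  rw [chi_congr_left eC.symm, chi_eq_sum_localizations Bi m hinj hall N hPC, himg,
    finsum_mem_image j.isClosedEmbedding.injective.injOn,
    finsum_mem_eq_finite_toFinset_sum _ hfib]
  refine Eq.trans (Finset.sum_congr rfl fun q _ => ?_)
    (Finset.sum_subtype hfib.toFinset (fun x => by simp) (fun z => (f.residueDegree (j z) : ℤ) * g (j z))).symm
  rw [hg (j q.1) q.2 (specializes_iff_mem_closure.2 (hrange.subset ⟨q.1, rfl⟩))]
  exact chi_point f j hδ q.1 q.2 (heq _ q.2 (specializes_iff_mem_closure.2 (hrange.subset ⟨q.1, rfl⟩))) N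

end Groth.Agent.H9Diag
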