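import Groth.Agent.H9Misc.TorBaseChange
import Groth.Agent.H9Samuel.Positive
import Mathlib.RingTheory.LocalRing.Length

/-!
Flat base change of the Tor Euler characteristic.
-/

set_option autoImplicit false
set_option linter.style.haveILetI false
set_option backward.isDefEq.respectTransparency false
set_option backward.isDefEq.respectTransparency.types false
set_option maxHeartbeats 1000000

universe u

open CategoryTheory CategoryTheory.Limits MonoidalCategory TensorProduct Groth.Agent

noncomputable section

namespace Groth.Agent.H9Diag

open H9Misc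

variable (A B : Type u) [CommRing A] [CommRing B] [Algebra A B]

/-- Flat base change is exact. -/
theorem preservesHomology_baseChange [Module.Flat A B] : (TorBaseChange.G A B).PreservesHomology :=
  Functor.preservesHomology_of_map_exact _ fun S hS => by
    rw [ShortComplex.ShortExact.moduleCat_exact_iff_function_exact] at hS ⊢
    exact Module.Flat.lTensor_exact B hS

/-- Base change commutes with tensor products. -/
def tensorBaseChangeIso (N : Type u) [AddCommGroup N] [Module A N] :
    tensorRight (ModuleCat.of A N) ⋙ TorBaseChange.G A B ≅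
      TorBaseChange.G A B ⋙ tensorRight (ModuleCat.of B (B ⊗[A] N)) :=
  NatIso.ofComponents (fun X => (AlgebraTensorModule.distribBaseChange A B X N).toModuleIso)
    (fun {X Y} g => ModuleCat.hom_ext (LinearMap.ext fun w => by
      refine TensorProduct.induction_on w ?_ ?_ ?_
      · simp
      · intro b xn
        refine TensorProduct.induction_on xn ?_ ?_ ?_
        · simp
        · intro x n
          rfl
        · intro p q hp hq
          rw [TensorProduct.tmul_add, map_add, map_add, hp, hq]
      · intro p q hp hq
        rw [map_add, map_add, hp, hq]))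

/-- Flat base change of `Tor`. -/
theorem nonempty_tor_baseChange [Module.Flat A B] (M N : Type u) [AddCommGroup M] [Module A M] [AddCommGroup N]
    [Module A N] (i : ℕ) :
    Nonempty (DRing.Tor B i (B ⊗[A] M) (B ⊗[A] N) ≃ₗ[B] B ⊗[A] DRing.Tor A i M N) := by
  haveI := preservesHomology_baseChange A B
  let P : ProjectiveResolution (ModuleCat.of A M) := ProjectiveResolution.of _
  let R' := TorBaseChange.resolution B P fun q hq => by
    obtain ⟨k, rfl⟩ : ∃ k, q = k + 1 := ⟨q - 1, by omega⟩
    exact (TorBridge.isZero_tor_succ_of_flat (ModuleCat.of A B) (ModuleCat.of A M) k).of_iso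
      (TorBalance.torSymm (ModuleCat.of A M) (ModuleCat.of A B) (k + 1))
  let T := tensorRight (ModuleCat.of A N)
  let C := (T.mapHomologicalComplex (ComplexShape.down ℕ)).obj P.complex
  exact ⟨(TorBalance.torIso' R' (ModuleCat.of B (B ⊗[A] N)) i ≪≫
    (HomologicalComplex.homologyFunctor _ _ i).mapIso
      ((NatIso.mapHomologicalComplex (tensorBaseChangeIso A B N) (ComplexShape.down ℕ)).app P.complex).symm ≪≫
    (C.sc i).mapHomologyIso (TorBaseChange.G A B) ≪≫
    (TorBaseChange.G A B).mapIso (TorBalance.torIso' P (ModuleCat.of A N) i).symm).toLinearEquiv⟩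

/-- `χ` and flat local base change. -/
theorem chi_baseChange [IsLocalRing A] [IsLocalRing B] [Module.Flat A B] [IsLocalHom (algebraMap A B)]
    (M N : Type u) [AddCommGroup M] [Module A M] [AddCommGroup N] [Module A N] :
    IntMult.chi B (B ⊗[A] M) (B ⊗[A] N) =
      IntMult.chi A M N * ((Module.length B (B ⧸ (IsLocalRing.maximalIdeal A).map (algebraMap A B))).toNat : ℤ) := by
  rw [IntMult.chi, IntMult.chi]
  refine Eq.trans (finsum_congr fun i => ?_) (finsum_mul (R := ℤ) _ _).symm
  obtain ⟨e⟩ := nonempty_tor_baseChange A B M N i
  rw [e.length_eq, IsLocalRing.length_baseChange A B (DRing.Tor A i M N), ENat.toNat_mul]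
  push_cast
  ring

end Groth.Agent.H9Diag
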