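import Groth.Agent.H9Diag.P1Cap
import Groth.Agent.H23.P1Closed
import Groth.Agent.FlatDvr.FibreStalk

/-!
Pull-back of a point to the projective line, and the fibre of a subvariety over a coordinate point.
-/

set_option autoImplicit false
set_option linter.style.haveILetI false
set_option backward.isDefEq.respectTransparency false
set_option backward.isDefEq.respectTransparency.types false
set_option maxHeartbeats 1000000

universe u

open AlgebraicGeometry CategoryTheory Limits IsLocalRing Groth.Agent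
open scoped Pointwise

noncomputable section

namespace Groth.Agent.H9Diag.P1Pull

variable {X : Scheme.{u}}

theorem isIntegral_fibre (y : X) : IsIntegral ((CohB1.ProjSpaceOver.toBase 1 X).fiber y) := by
  let e := (H23.P1Conn.isPullback_toP1 (X.fromSpecResidueField y)).isoPullback
  haveI : IsIntegral (CohB1.ProjSpaceOver 1 (Spec (X.residueField y))) :=
    inferInstanceAs (IsIntegral (CohB1.ProjSpaceOver 1 (Spec (CommRingCat.of (X.residueField y)))))
  let g : (CohB1.ProjSpaceOver.toBase 1 X).fiber y ⟶ CohB1.ProjSpaceOver 1 (Spec (X.residueField y)) := e.inv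
  haveI : IsIso g := inferInstanceAs (IsIso e.inv)
  haveI : Nonempty ↥((CohB1.ProjSpaceOver.toBase 1 X).fiber y) :=
    ⟨(inv g) (genericPoint ↥(CohB1.ProjSpaceOver 1 (Spec (X.residueField y))))⟩
  exact isIntegral_of_isOpenImmersion g

variable {δ : X → ℤ} {δP : ↥(CohB1.ProjSpaceOver 1 X) → ℤ}

/-- The pull-back of a point to the projective line is the point over it of the largest dimension. -/
theorem pullFun_point (hX : Cyc.IsSetup X δ) (hP : Cyc.DeltaCompat (CohB1.ProjSpaceOver.toBase 1 X) δP δ)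
    {η : X} {ζ : CohB1.ProjSpaceOver 1 X} (hζ : CohB1.ProjSpaceOver.toBase 1 X ζ = η) (hdζ : δP ζ = δ η + 1) :
    Cyc.pullFun (CohB1.ProjSpaceOver.toBase 1 X) δP δ 1 (Set.indicator {η} 1) = Set.indicator {ζ} 1 := by
  classical
  haveI := P1Geom.smooth_toBase X
  haveI := P1Geom.isProper_toBase X
  let π := CohB1.ProjSpaceOver.toBase 1 X
  have hd := (H23.SetupLFT.isSetup π hX hP).2.2
  haveI := isIntegral_fibre η
  let g := π.fiberι η (genericPoint ↥(π.fiber η))
  have hg : π g = η := (π.range_fiberι η).le ⟨_, rfl⟩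
  have htop : ∀ z, π z = η → g ⤳ z := by
    intro z hz
    obtain ⟨b, rfl⟩ : z ∈ Set.range (π.fiberι η) := by rw [π.range_fiberι]; exact hz
    exact ((genericPoint_spec ↥(π.fiber η)).specializes (Set.mem_univ b)).map (π.fiberι η).continuous
  have hgd : δP g ≤ δ η + 1 := by
    have := H23.FlatShift.le_of_hasRelDim π (P1Geom.hasRelDim_toBase X) hP g
    rw [hg] at this
    exact_mod_cast this
  have huniq : ∀ z, π z = η → δP z = δ η + 1 → z = g := fun z hz hdz =>
    (CycLib.eq_of_delta_le hd (htop z hz) (by omega)).symm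
  obtain rfl : ζ = g := huniq ζ hζ hdζ
  funext z
  by_cases hz : π z = η ∧ δP z = δ η + 1
  swap
  · rw [Set.indicator_of_notMem (fun h => hz (by rw [Set.mem_singleton_iff] at h; subst h; exact ⟨hζ, hdζ⟩))]
    rw [Cyc.pullFun]
    beta_reduce
    split_ifs with h
    · rw [Set.indicator_of_notMem (fun h' => hz ?_), zero_mul]
      rw [Set.mem_singleton_iff] at h'
      exact ⟨h', h.trans (by rw [h'])⟩
    · rfl
  · obtain ⟨hz1, hz2⟩ := hz
    obtain rfl : z = g := huniq z hz1 hz2
    rw [Set.indicator_of_mem (Set.mem_singleton _), Cyc.pullFun]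
    beta_reduce
    rw [if_pos (hz2.trans (by rw [hz1])), Set.indicator_of_mem (show π g ∈ ({η} : Set X) from hz1),
      Pi.one_apply, Pi.one_apply, one_mul]
    letI : Field ((π.fiber η).presheaf.stalk (genericPoint ↥(π.fiber η))) :=
      (inferInstance : Field (π.fiber η).functionField)
    have hmax : Ideal.map (π.stalkMap g).hom (maximalIdeal (X.presheaf.stalk (π g))) = maximalIdeal _ := by
      rw [← FlatDvr.ker_stalkMap_fiberι π (genericPoint ↥(π.fiber η))]
      exact IsLocalRing.eq_maximalIdeal (RingHom.ker_isMaximal_of_surjective _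
        ((π.fiberι η).stalkMap_surjective _))
    rw [hmax]
    haveI : IsSimpleModule ((CohB1.ProjSpaceOver 1 X).presheaf.stalk g)
        (↑((CohB1.ProjSpaceOver 1 X).presheaf.stalk g) ⧸ maximalIdeal ((CohB1.ProjSpaceOver 1 X).presheaf.stalk g)) :=
      isSimpleModule_iff_isCoatom.2 (maximalIdeal.isMaximal _).out
    rw [Module.length_eq_one]
    rfl

/-- The prime of the generic point of an integral closed subscheme. -/
theorem primeOf_closed {P W : Scheme.{u}} [IsIntegral W] (ι : W ⟶ P) [IsPreimmersion ι] (z : W)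
    (h : ι (genericPoint W) ⤳ ι z) : (CDiv6.primeOf h).asIdeal = RingHom.ker (ι.stalkMap z).hom := by
  have hsp : genericPoint W ⤳ z := (genericPoint_spec W).specializes (Set.mem_univ z)
  ext g
  rw [CDiv6.mem_primeOf, RingHom.mem_ker]
  have hcomp : (ι.stalkMap (genericPoint W)).hom ((P.presheaf.stalkSpecializes h).hom g) =
      (W.presheaf.stalkSpecializes hsp).hom ((ι.stalkMap z).hom g) :=
    ConcreteCategory.congr_hom (Scheme.Hom.stalkSpecializes_stalkMap ι (genericPoint W) z hsp) g
  letI : Field (W.presheaf.stalk (genericPoint W)) := (inferInstance : Field W.functionField)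
  constructor
  · intro hg
    have h0 : (ι.stalkMap (genericPoint W)).hom ((P.presheaf.stalkSpecializes h).hom g) = 0 := by
      by_contra hne
      exact hg (isUnit_of_map_unit (ι.stalkMap (genericPoint W)).hom _ (Ne.isUnit hne))
    rw [hcomp] at h0
    refine (injective_iff_map_eq_zero _).1 ?_ _ h0
    exact IsFractionRing.injective (W.presheaf.stalk z) W.functionField
  · intro hg hu
    have h1 := hu.map (ι.stalkMap (genericPoint W)).hom
    rw [hcomp, hg, map_zero] at h1
    exact not_isUnit_zero h1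

/-- The fibre cycle of an integral closed subscheme, two ways. -/
theorem subschemeFun_sect [IsLocallyNoetherian (CohB1.ProjSpaceOver 1 X)] {W : Scheme.{u}} [IsIntegral W]
    (ι : W ⟶ CohB1.ProjSpaceOver 1 X) [IsClosedImmersion ι] (δ : X → ℤ) (k : ℤ) (i : Fin (1 + 1)) :
    Cyc.subschemeFun δ k (pullback.snd ι (P1.sect X i)) = P1Cap.fibFun δ k (ι (genericPoint W)) i := by
  classical
  rw [H23.SpClosed.subschemeFun_symm, H23.SpClosed.subschemeFun_eq]
  funext x
  simp only [P1Cap.fibFun, Cyc.sheafFun]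
  split_ifs
  swap
  · rfl
  rw [H23.CapSheaf.length_stalk_pullback_closed _ _ x (H23.P1Sect.ker_sect X i x),
    H23.CapSheaf.length_stalk_pullback_closed _ _ x (H23.P1Sect.ker_sect X i x)]
  by_cases hr : P1.sect X i x ∈ Set.range ι
  · obtain ⟨z, hz⟩ := hr
    have key : ∀ (y : CohB1.ProjSpaceOver 1 X) (_ : ι z = y) (c : (CohB1.ProjSpaceOver 1 X).presheaf.stalk y),
        Module.length ((CohB1.ProjSpaceOver 1 X).presheaf.stalk y) (((Coh.push ι).obj (Coh.structureModule W)).presheaf.stalk y ⧸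
          c • (⊤ : Submodule ((CohB1.ProjSpaceOver 1 X).presheaf.stalk y) (((Coh.push ι).obj (Coh.structureModule W)).presheaf.stalk y))) =
        Module.length ((CohB1.ProjSpaceOver 1 X).presheaf.stalk y) ((Cyc.closureStructureSheaf (ι (genericPoint W))).presheaf.stalk y ⧸
          c • (⊤ : Submodule ((CohB1.ProjSpaceOver 1 X).presheaf.stalk y) ((Cyc.closureStructureSheaf (ι (genericPoint W))).presheaf.stalk y))) := by
      rintro y rfl c
      have h : ι (genericPoint W) ⤳ ι z :=
        ((genericPoint_spec W).specializes (Set.mem_univ z)).map ι.continuous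
      rw [P1Cap.length_smul_cyclic (H9ChowK.oneGerm _ _) (H9ChowK.span_oneGerm _ _) _
        (H9ChowK.smul_oneGerm_eq_zero _ h) c]
      obtain ⟨e⟩ := H23.SpClosed.nonempty_quotEquiv ι z
      have hspan : Submodule.span ((CohB1.ProjSpaceOver 1 X).presheaf.stalk (ι z)) {e.symm (Submodule.Quotient.mk 1)} = ⊤ := by
        refine eq_top_iff.2 fun t _ => ?_
        obtain ⟨r, hr⟩ := Submodule.Quotient.mk_surjective _ (e t)
        refine Submodule.mem_span_singleton.2 ⟨r, e.injective ?_⟩
        rw [map_smul, e.apply_symm_apply, ← hr, ← Submodule.Quotient.mk_smul, smul_eq_mul, mul_one]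
      rw [P1Cap.length_smul_cyclic _ hspan (CDiv6.primeOf h).asIdeal (fun r => ?_) c]
      rw [← e.map_eq_zero_iff, map_smul, e.apply_symm_apply, ← Submodule.Quotient.mk_smul,
        Submodule.Quotient.mk_eq_zero, smul_eq_mul, mul_one, primeOf_closed ι z h]
    exact congrArg (fun n : ℕ∞ => (n.toNat : ℤ)) (key _ hz _)
  · haveI := H23.ClosedPushLen.subsingleton_stalk ι (Coh.structureModule W) hr
    haveI : Subsingleton ((Cyc.closureStructureSheaf (ι (genericPoint W))).presheaf.stalk (P1.sect X i x)) := by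
      rw [← not_nontrivial_iff_subsingleton, nontrivial_closure_iff]
      exact fun h => hr (h.mem_closed ι.isClosedEmbedding.isClosed_range ⟨_, rfl⟩)
    rw [Module.length_eq_zero, Module.length_eq_zero]

variable {K : Type u} [Field K] (f : X ⟶ Spec (CommRingCat.of K)) [Smooth f]

include f in
/-- A subvariety meeting a section but not inside it meets it in its codimension one. -/
theorem exists_fib (hX : Cyc.IsSetup X δ) (hδ : Cyc.DeltaCompat f δ (fun _ => 0))
    (hP : Cyc.DeltaCompat (CohB1.ProjSpaceOver.toBase 1 X) δP δ) {k : ℤ} {w : CohB1.ProjSpaceOver 1 X}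
    (hw : δP w = k + 1) (i : Fin (1 + 1)) (hnot : w ∉ Set.range (P1.sect X i)) {x : X}
    (hwx : w ⤳ P1.sect X i x) :
    ∃ ξ : X, δ ξ = k ∧ ξ ⤳ x ∧ w ⤳ P1.sect X i ξ ∧ P1Cap.fibFun δ k w i ξ ≠ 0 := by
  classical
  haveI := hX.1
  haveI := P1Geom.smooth_toBase X
  haveI := P1Geom.isProper_toBase X
  let π := CohB1.ProjSpaceOver.toBase 1 X
  have hPs := H23.SetupLFT.isSetup π hX hP
  haveI := hPs.1
  have hP' := P1Cap.deltaCompat_point f hδ hP
  let q := P1.sect X i x
  let A := (CohB1.ProjSpaceOver 1 X).presheaf.stalk q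
  let c : A := (CohB1.ProjSpaceOver 1 X).presheaf.germ _ q (H23.P1Sect.sect_mem X i x) (H23.P1Sect.c X i)
  let J := (CDiv6.primeOf hwx).asIdeal
  have hdw := H23.P1Fam.delta_sect hP i x
  have hlt : δ x ≤ k := by
    have := CycLib.delta_lt hPs.2.2 hwx (fun e => hnot ⟨x, e.symm⟩)
    omega
  have hcm : c ∈ maximalIdeal A := fun hu =>
    H23.P1Fam.sect_ne i x ((H23.P1Sect.mem_other_iff' X i (H23.P1Sect.sect_mem X i x)).2 hu)
  have hrange : ∀ {p : CohB1.ProjSpaceOver 1 X} (h : p ⤳ q), c ∈ (CDiv6.primeOf h).asIdeal →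
      p ∈ Set.range (P1.sect X i) := by
    intro p h hc
    refine (H23.P1Sect.range_sect X i).ge ⟨h.mem_open (H23.P1Sect.V X i).2 (H23.P1Sect.sect_mem X i x), fun hu => ?_⟩
    refine (CDiv6.mem_primeOf h c).1 hc ?_
    simpa only [c, TopCat.Presheaf.germ_stalkSpecializes_apply] using hu
  have hcJ : c ∉ J := fun hc => hnot (hrange hwx hc)
  haveI : IsNoetherianRing A := inferInstance
  haveI : IsLocalRing (A ⧸ J) := IsLocalRing.of_surjective' _ Ideal.Quotient.mk_surjective
  obtain ⟨D, hD, hD', -⟩ := H9Mult.exists_dim_ptIdeal (CohB1.ProjSpaceOver.toBase 1 X ≫ f) hP' hwx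
  rw [← primeOf_eq_ptIdeal (CohB1.ProjSpaceOver.toBase 1 X ≫ f) hP' (h := hwx)] at hD
  let cb : A ⧸ J := Ideal.Quotient.mk J c
  have hne0 : cb ≠ 0 := fun h0 => hcJ (Ideal.Quotient.eq_zero_iff_mem.1 h0)
  haveI : IsLocalHom (Ideal.Quotient.mk J) := IsLocalHom.of_surjective _ Ideal.Quotient.mk_surjective
  have hcb : cb ∈ maximalIdeal (A ⧸ J) := fun hu => hcm (isUnit_of_map_unit (Ideal.Quotient.mk J) c hu)
  have hle := Ideal.height_le_ringKrullDim_quotient_add_one (R := A ⧸ J) (p := maximalIdeal (A ⧸ J)) hcb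
  rw [IsLocalRing.maximalIdeal_height_eq_ringKrullDim] at hle
  change ringKrullDim (A ⧸ J) = (D : WithBot ℕ∞) at hD
  rw [hD, ringKrullDim_quotient] at hle
  obtain ⟨m, hm⟩ : ∃ m, D = m + 1 := ⟨D - 1, by omega⟩
  have hm' : (m : WithBot ℕ∞) ≤ Order.krullDim (PrimeSpectrum.zeroLocus (R := A ⧸ J) (Ideal.span {cb} : Ideal (A ⧸ J))) := by
    rw [hm, Nat.cast_add, Nat.cast_one] at hle
    revert hle
    generalize Order.krullDim (PrimeSpectrum.zeroLocus (R := A ⧸ J) (Ideal.span {cb} : Ideal (A ⧸ J))) = E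
    induction E using WithBot.recBotCoe with
    | bot =>
      intro hle
      rw [WithBot.bot_add, le_bot_iff] at hle
      exact absurd hle (WithBot.coe_ne_bot (a := (m : ℕ∞) + 1))
    | coe e =>
      intro hle
      have h1 : (m : ℕ∞) + 1 ≤ e + 1 := by exact_mod_cast hle
      exact_mod_cast (ENat.add_le_add_iff_right ENat.one_ne_top).1 h1
  obtain ⟨l, hl⟩ := Order.le_krullDim_iff.1 hm'
  let pb : Fin (l.length + 1) → CohB1.ProjSpaceOver 1 X := fun j =>
    (CohB1.ProjSpaceOver 1 X).fromSpecStalk q (PrimeSpectrum.comap (Ideal.Quotient.mk J) (l j).1)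
  have hpb : ∀ j, pb j ⤳ q := fun j => CDiv6.fromSpecStalk_specializes _
  have hprime : ∀ j, (CDiv6.primeOf (hpb j)).asIdeal = (l j).1.asIdeal.comap (Ideal.Quotient.mk J) := fun j => by
    rw [primeOf_point]; rfl
  have hmono : ∀ j : Fin l.length, δP (pb j.succ) + 1 ≤ δP (pb j.castSucc) := by
    intro j
    have hlt' : (l j.castSucc).1 < (l j.succ).1 := l.step j
    have hs : pb j.castSucc ⤳ pb j.succ := (H23.StalkPrimes.primeOf_le_iff (hpb _) (hpb _)).1 (by
      rw [hprime, hprime]; exact Ideal.comap_mono hlt'.le)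
    have hne : pb j.castSucc ≠ pb j.succ := fun e => hlt'.ne (PrimeSpectrum.comap_injective_of_surjective
      (Ideal.Quotient.mk J) Ideal.Quotient.mk_surjective (((CohB1.ProjSpaceOver 1 X).fromSpecStalk q).isEmbedding.injective e))
    have := CycLib.delta_lt hPs.2.2 hs hne
    omega
  have hall : ∀ j : Fin (l.length + 1), δP q + ((l.length : ℤ) - j) ≤ δP (pb j) := by
    intro j
    induction j using Fin.reverseInduction with
    | last => simpa using CycLib.delta_le hPs.2.2 (hpb _)
    | cast j ih =>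
        have := hmono j
        simp only [Fin.val_succ, Fin.val_castSucc, Nat.cast_add, Nat.cast_one] at ih ⊢
        omega
  have hwp : w ⤳ pb 0 := (H23.StalkPrimes.primeOf_le_iff (hpb 0) hwx).1 (by
    rw [hprime]
    exact fun a ha => by
      show Ideal.Quotient.mk J a ∈ (l 0).1.asIdeal
      rw [Ideal.Quotient.eq_zero_iff_mem.2 ha]; exact zero_mem _)
  obtain ⟨ξ, hξ⟩ := hrange (hpb 0) (by
    rw [hprime]
    exact (l 0).2 (Ideal.mem_span_singleton_self cb))
  have hξk : δ ξ = k := by
    have h1 := hall 0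
    have h2 := CycLib.delta_lt hPs.2.2 (hξ.symm ▸ hwp : w ⤳ P1.sect X i ξ) (fun e => hnot ⟨ξ, e.symm⟩)
    have h6 := H23.P1Fam.delta_sect hP i ξ
    have h7 : δP (pb 0) = δP (P1.sect X i ξ) := by rw [hξ]
    have h3 : (l.length : ℤ) = m := by exact_mod_cast hl
    simp only [Fin.val_zero, Nat.cast_zero, sub_zero] at h1
    have h4 : δP q = δ x := hdw
    have h5 : (D : ℤ) = m + 1 := by exact_mod_cast hm
    omega
  have hξx : ξ ⤳ x := by
    refine (P1.sect X i).isEmbedding.isInducing.specializes_iff.1 ?_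
    rw [hξ]
    exact hpb 0
  have hwξ : w ⤳ P1.sect X i ξ := hξ.symm ▸ hwp
  refine ⟨ξ, hξk, hξx, hwξ, ?_⟩
  haveI := (nontrivial_closure_iff w _).2 hwξ
  haveI := QCoh.finite_stalk_of_isFT (H9ChowK.isCoh_closure w).1 (H9ChowK.isCoh_closure w).2 (P1.sect X i ξ)
  have hfin := CycLib.length_stalk_lt_top _
    (ZClosLib.isCoh_pullback (P1.sect X i) (H9ChowK.isCoh_closure w)) (ξ := ξ) fun u hu huξ => by
      have hn : w ⤳ P1.sect X i u := by
        by_contra hn
        have hs : Subsingleton ((Cyc.closureStructureSheaf w).presheaf.stalk (P1.sect X i u)) := by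
          rw [← not_nontrivial_iff_subsingleton, nontrivial_closure_iff]; exact hn
        have h0 : Module.length (X.presheaf.stalk u) (((Scheme.Modules.pullback (P1.sect X i)).obj
            (Cyc.closureStructureSheaf w)).presheaf.stalk u) = 0 := by
          rw [H23.CapSheaf.length_stalk_pullback_closed _ _ u (H23.P1Sect.ker_sect X i u),
            Module.length_eq_zero_iff.2 inferInstance]
        exact not_subsingleton_iff_nontrivial.2 hu (Module.length_eq_zero_iff.1 h0)
      refine CycLib.eq_of_delta_le hX.2.2 huξ ?_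
      have := CycLib.delta_lt hPs.2.2 hn (fun e => hnot ⟨u, e.symm⟩)
      rw [H23.P1Fam.delta_sect hP] at this
      omega
  rw [P1Cap.fibFun, Cyc.sheafFun]
  beta_reduce
  rw [if_pos hξk, Nat.cast_ne_zero, ne_eq, ENat.toNat_eq_zero, not_or]
  refine ⟨?_, hfin.ne⟩
  rw [H23.CapSheaf.length_stalk_pullback_closed _ _ ξ (H23.P1Sect.ker_sect X i ξ)]
  exact H23.P1Fam.nontrivial_quot_smul fun hu =>
    H23.P1Fam.sect_ne i ξ ((H23.P1Sect.mem_other_iff' X i (H23.P1Sect.sect_mem X i ξ)).2 hu)

end Groth.Agent.H9Diag.P1Pull
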