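import Groth.Agent.H9Diag.ProjFormula
import Groth.Agent.H9Diag.ExtProd
import Groth.Agent.H9Diag.P1Pull
import Groth.Agent.H9Mult.TorVanish

/-!
The intersection of a closed subscheme that is flat over the target with a flat pull-back.
-/

set_option autoImplicit false
set_option linter.style.haveILetI false
set_option backward.isDefEq.respectTransparency false
set_option backward.isDefEq.respectTransparency.types false
set_option maxHeartbeats 1000000

universe u

open AlgebraicGeometry CategoryTheory Limits IsLocalRing Groth.Agent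
open scoped TensorProduct

noncomputable section

namespace Groth.Agent.H9Diag.GraphPull

/-- `χ` of a quotient which is flat over the base with an extended module. -/
theorem chi_flat_quot (O A L : Type u) [CommRing O] [CommRing A] [CommRing L] [Algebra O A] [Algebra A L]
    [Algebra O L] [IsScalarTower O A L] [Module.Flat O A] [Module.Flat O L]
    (hs : Function.Surjective (algebraMap A L)) (N : Type u) [AddCommGroup N] [Module O N] :
    IntMult.chi A L (A ⊗[O] N) = ((Module.length L (L ⊗[O] N)).toNat : ℤ) := by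
  have hv : ∀ i, Subsingleton (DRing.Tor A (i + 1) (A ⊗[O] N) L) := fun i => by
    obtain ⟨φ, hφ⟩ := exists_tor_change O A L N (i + 1)
    haveI := subsingleton_tor_succ_of_flat_right (R := O) N L i
    exact hφ.2.subsingleton
  rw [H9Samuel.chi_comm, IntMult.chi, finsum_eq_single _ 0]
  · obtain ⟨e0⟩ := H9Mult.nonempty_tor_zero (ModuleCat.of A (A ⊗[O] N)) (ModuleCat.of A L)
    have e : (A ⊗[O] N) ⊗[A] L ≃ₗ[A] L ⊗[O] N :=
      (TensorProduct.comm A (A ⊗[O] N) L).trans (TensorProduct.AlgebraTensorModule.cancelBaseChange O A A L N)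
    rw [pow_zero, one_mul]
    exact congrArg (fun n : ℕ∞ => (n.toNat : ℤ))
      ((e0.trans e).length_eq.trans (Module.length_eq_of_surjective (S := A) (R := L) (M := L ⊗[O] N) hs))
  · intro i hi
    obtain ⟨j, rfl⟩ : ∃ j, i = j + 1 := ⟨i - 1, by omega⟩
    haveI := hv j
    rw [Module.length_eq_zero]
    simp

theorem nonempty_equiv_cyclic {A L M : Type u} [CommRing A] [CommRing L] [Algebra A L] [AddCommGroup M] [Module A M]
    (hs : Function.Surjective (algebraMap A L)) (m : M) (hm : Submodule.span A {m} = ⊤)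
    (hk : ∀ r : A, r • m = 0 ↔ algebraMap A L r = 0) : Nonempty (M ≃ₗ[A] L) :=
  ⟨(((LinearMap.toSpanSingleton A M m).quotKerEquivOfSurjective fun t =>
    Submodule.mem_span_singleton.1 (hm.ge (Submodule.mem_top : t ∈ ⊤))).symm.trans
    (Submodule.quotEquivOfEq _ (LinearMap.ker (Algebra.linearMap A L)) (Submodule.ext fun r => hk r))).trans
    (LinearMap.quotKerEquivOfSurjective (Algebra.linearMap A L) hs)⟩

variable {W X Y : Scheme.{u}}

/-- The multiplicity of a closed subscheme, flat over `Y`, with a sheaf pulled back from `Y`. -/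
theorem chi_closure_pullback [IsIntegral X] [IsLocallyNoetherian W] (Γ : X ⟶ W) [IsClosedImmersion Γ] (q : W ⟶ Y)
    [Flat q] [Flat (Γ ≫ q)] (G : Y.Modules) (x : X) :
    IntMult.chi (W.presheaf.stalk (Γ x)) ((Cyc.closureStructureSheaf (Γ (genericPoint X))).presheaf.stalk (Γ x))
      (((Scheme.Modules.pullback q).obj G).presheaf.stalk (Γ x)) =
      ((Module.length (X.presheaf.stalk x) (((Scheme.Modules.pullback (Γ ≫ q)).obj G).presheaf.stalk x)).toNat : ℤ) := by
  have h : Γ (genericPoint X) ⤳ Γ x := ((genericPoint_spec X).specializes (Set.mem_univ x)).map Γ.continuous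
  have e1 := ((KFlatLib.stalkPullbackIso q (Γ x)).app G).toLinearEquiv
  have e2 := ((KFlatLib.stalkPullbackIso (Γ ≫ q) x).app G).toLinearEquiv
  refine Eq.trans ?_ (congrArg (fun n : ℕ∞ => (n.toNat : ℤ)) e2.length_eq.symm)
  refine (chi_congr (LinearEquiv.refl _ _) e1).trans ?_
  letI : Algebra (Y.presheaf.stalk (q (Γ x))) (W.presheaf.stalk (Γ x)) := (q.stalkMap (Γ x)).hom.toAlgebra
  letI : Algebra (W.presheaf.stalk (Γ x)) (X.presheaf.stalk x) := (Γ.stalkMap x).hom.toAlgebra
  letI : Algebra (Y.presheaf.stalk (q (Γ x))) (X.presheaf.stalk x) := ((Γ ≫ q).stalkMap x).hom.toAlgebra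
  haveI : IsScalarTower (Y.presheaf.stalk (q (Γ x))) (W.presheaf.stalk (Γ x)) (X.presheaf.stalk x) :=
    IsScalarTower.of_algebraMap_eq fun a => ConcreteCategory.congr_hom (Scheme.Hom.stalkMap_comp Γ q x) a
  haveI : Module.Flat (Y.presheaf.stalk (q (Γ x))) (W.presheaf.stalk (Γ x)) := Flat.stalkMap q (Γ x)
  haveI : Module.Flat (Y.presheaf.stalk (q (Γ x))) (X.presheaf.stalk x) := Flat.stalkMap (Γ ≫ q) x
  have hs : Function.Surjective (algebraMap (W.presheaf.stalk (Γ x)) (X.presheaf.stalk x)) :=
    Γ.stalkMap_surjective x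
  obtain ⟨eM⟩ := nonempty_equiv_cyclic (L := X.presheaf.stalk x) hs (H9ChowK.oneGerm (Γ (genericPoint X)) (Γ x))
    (H9ChowK.span_oneGerm _ _) fun r => by
      rw [H9ChowK.smul_oneGerm_eq_zero _ h, P1Pull.primeOf_closed Γ x h, RingHom.mem_ker]
      rfl
  refine (chi_congr eM (LinearEquiv.refl _ _)).trans ?_
  exact chi_flat_quot (Y.presheaf.stalk (q (Γ x))) (W.presheaf.stalk (Γ x)) (X.presheaf.stalk x) hs _

end Groth.Agent.H9Diag.GraphPull
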