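import Groth.Agent.H9Diag.FinitePush
import Groth.Agent.H9Diag.Bilin

/-!
Supports, linearity and the point form of the projection formula.
-/

set_option autoImplicit false
set_option linter.style.haveILetI false
set_option backward.isDefEq.respectTransparency false
set_option backward.isDefEq.respectTransparency.types false
set_option maxHeartbeats 2000000

universe u

open AlgebraicGeometry CategoryTheory Groth.Agent IsLocalRing Groth.Agent.CDiv6

noncomputable section

namespace Groth.Agent.H9Diag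

variable {X Y : Scheme.{u}}

/-- Coherent supports meeting only at a maximal point give a primary pair of stalks. -/
theorem primary_stalk [IsLocallyNoetherian X] {δ : X → ℤ} (hd : Cyc.IsDimFun X δ) (F G : X.Modules)
    (hF : Coh.IsCoh F) (hG : Coh.IsCoh G) (y : X)
    (h : ∀ z : X, z ⤳ y → Nontrivial (F.presheaf.stalk z) → Nontrivial (G.presheaf.stalk z) → δ z ≤ δ y) :
    Primary (X.presheaf.stalk y) (F.presheaf.stalk y) (G.presheaf.stalk y) := by
  haveI := QCoh.finite_stalk_of_isFT hF.1 hF.2 y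
  haveI := QCoh.finite_stalk_of_isFT hG.1 hG.2 y
  refine Ideal.exists_pow_le_of_le_radical_of_fg ?_ (IsNoetherian.noetherian _)
  rw [Ideal.radical_eq_sInf]
  refine le_sInf fun p hp => ?_
  haveI := hp.2
  obtain ⟨h1, h2⟩ := sup_le_iff.1 hp.1
  let P : PrimeSpectrum (X.presheaf.stalk y) := ⟨p, inferInstance⟩
  have hs := fromSpecStalk_specializes P
  have hn : ∀ (E : X.Modules), Coh.IsQCoh E → P ∈ Module.support (X.presheaf.stalk y) (E.presheaf.stalk y) →
      Nontrivial (E.presheaf.stalk (X.fromSpecStalk y P)) := fun E hE hP =>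
    (mem_support_primeOf_iff E hE hs).1 (by rwa [primeOf_point])
  have heq : X.fromSpecStalk y P = y := CycLib.eq_of_delta_le hd hs
    (h _ hs (hn F hF.1 (Module.mem_support_iff_of_finite.2 h1)) (hn G hG.1 (Module.mem_support_iff_of_finite.2 h2)))
  have hcl : X.fromSpecStalk y (IsLocalRing.closedPoint (X.presheaf.stalk y)) = y := Scheme.fromSpecStalk_closedPoint
  have : P = IsLocalRing.closedPoint (X.presheaf.stalk y) :=
    (X.fromSpecStalk y).isEmbedding.injective (heq.trans hcl.symm)
  exact (congrArg PrimeSpectrum.asIdeal this).ge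

theorem interProd_sum_left {δ : X → ℤ} {n : ℤ} {κ : Type*} (S : Finset κ) (c : κ → ℤ) (a : κ → X → ℤ) {b : X → ℤ}
    (ha : ∀ k ∈ S, FinGen (a k)) (hb : FinGen b) (ζ : X) :
    IntMult.interProd δ n (fun x => ∑ k ∈ S, c k * a k x) b ζ = ∑ k ∈ S, c k * IntMult.interProd δ n (a k) b ζ := by
  simp only [IntMult.interProd]
  rw [Finset.sum_congr rfl fun k _ => mul_finsum (R := ℤ) _ (c k),
    ← finsum_sum_comm _ _ fun k hk => ((finite_pairs (ha k hk) hb ζ).subset fun p hp h0 => hp (by
      simp only at h0 ⊢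
      rw [h0, mul_zero]))]
  refine finsum_congr fun p => ?_
  rw [Finset.sum_mul, Finset.sum_mul]
  exact Finset.sum_congr rfl fun k _ => by ring

theorem finGen_indicator [DecidableEq X] (ξ : X) (c : ℤ) : FinGen (fun x => if x = ξ then c else 0) := fun ζ =>
  (Set.finite_singleton ξ).subset fun x hx => by
    by_contra hne
    exact hx.2 (if_neg hne)

theorem sheafFun_closure [IsLocallyNoetherian X] {δ : X → ℤ} (hd : Cyc.IsDimFun X δ) (ξ x : X) [DecidableEq X] :
    Cyc.sheafFun δ (δ ξ) (Cyc.closureStructureSheaf ξ) x = if x = ξ then 1 else 0 := by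
  rw [Cyc.sheafFun]
  by_cases hx : x = ξ
  · subst hx
    rw [if_pos rfl, if_pos rfl, H9ChowK.length_closure_self]
    rfl
  · rw [if_neg hx]
    split_ifs with hδ
    · rw [Module.length_eq_zero_iff.2 (not_not.1 fun hn => hx ((H9ChowK.delta_le_of_mem_support_closure hd hn).2 hδ))]
      rfl
    · rfl

theorem nontrivial_closure_iff [IsLocallyNoetherian X] (ξ x : X) :
    Nontrivial ((Cyc.closureStructureSheaf ξ).presheaf.stalk x) ↔ ξ ⤳ x := by
  refine ⟨fun h => specializes_iff_mem_closure.2 (H9ChowK.support_closure_subset ξ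
    (not_subsingleton_iff_nontrivial.2 h)), fun h => nontrivial_of_specializes _ (H9ChowK.isQCoh_closure ξ) h ?_⟩
  exact nontrivial_of_length_ne_zero (by rw [H9ChowK.length_closure_self]; exact one_ne_zero)

theorem nontrivial_push (f : X ⟶ Y) [IsProper f] (F : X.Modules) (hF : Coh.IsCoh F) [IsLocallyNoetherian X] (y : Y)
    (hy : Nontrivial (((Coh.push f).obj F).presheaf.stalk y)) :
    ∃ x, f x = y ∧ Nontrivial (F.presheaf.stalk x) := by
  by_contra hc
  push_neg at hc
  have hb := H9CycPush.bijective_toStalk f F f.isClosedMap (y := y) (CycLib.isClosed_nontrivial F hF) ∅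
    Set.finite_empty (fun x hx => hx.elim) (fun x hx => hx.elim) (fun x hx => hx.elim)
    (fun z hz hn => absurd hn (not_nontrivial_iff_subsingleton.2 (hc z hz)))
  haveI : IsEmpty ↥(∅ : Set X) := Set.isEmpty_coe_sort.2 rfl
  exact not_subsingleton_iff_nontrivial.2 hy hb.1.subsingleton

open scoped TensorProduct in
theorem chi_pullback_right (f : X ⟶ Y) [Flat f] (F : X.Modules) (G : Y.Modules) (x : X)
    (φ : Y.presheaf.stalk (f x) →+* X.presheaf.stalk x) (hφ : φ = (f.stalkMap x).hom) :
    letI := φ.toAlgebra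
    IntMult.chi (X.presheaf.stalk x) (F.presheaf.stalk x) (((Scheme.Modules.pullback f).obj G).presheaf.stalk x) =
      IntMult.chi (X.presheaf.stalk x) (F.presheaf.stalk x)
        (X.presheaf.stalk x ⊗[Y.presheaf.stalk (f x)] G.presheaf.stalk (f x)) := by
  subst hφ
  have eG := ((KFlatLib.stalkPullbackIso f x).app G).toLinearEquiv
  refine (chi_congr (LinearEquiv.refl (X.presheaf.stalk x) (F.presheaf.stalk x)) eG).trans ?_
  algebraize [(f.stalkMap x).hom]
  rfl

/-- A closed set has finitely many points of top dimension. -/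
theorem finite_top_points [IsNoetherian X] {δ : X → ℤ} (hd : Cyc.IsDimFun X δ) {C : Set X} (hC : IsClosed C) {l : ℤ}
    (hl : ∀ x ∈ C, δ x ≤ l) : {x ∈ C | δ x = l}.Finite := by
  obtain ⟨S, hSf, hSirr, hS⟩ := TopologicalSpace.NoetherianSpace.exists_finite_set_closeds_irreducible
    (⟨C, hC⟩ : TopologicalSpace.Closeds X)
  haveI := hSf.to_subtype
  refine (Set.finite_range fun t : S => (hSirr t.1 t.2).genericPoint).subset fun x hx => ?_
  obtain ⟨t, ht, hxt⟩ : ∃ t ∈ S, x ∈ t := by
    have hxC : x ∈ (⟨C, hC⟩ : TopologicalSpace.Closeds X) := hx.1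
    rw [hS] at hxC
    haveI := hSf.fintype
    rw [← Set.coe_toFinset S, ← Finset.sup_id_eq_sSup, ← SetLike.mem_coe] at hxC
    simpa using hxC
  refine ⟨⟨t, ht⟩, ?_⟩
  have hsp := (hSirr t ht).isGenericPoint_genericPoint_closure
  rw [(TopologicalSpace.Closeds.isClosed t).closure_eq] at hsp
  have hm : (hSirr t ht).genericPoint ∈ (⟨C, hC⟩ : TopologicalSpace.Closeds X) := (le_sSup ht).trans hS.ge hsp.mem
  exact CycLib.eq_of_delta_le hd (hsp.specializes hxt) ((hl _ hm).trans hx.2.ge)

variable {K : Type u} [Field K] (gX : X ⟶ Spec (CommRingCat.of K)) (gY : Y ⟶ Spec (CommRingCat.of K)) [Smooth gX]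
  [IsSeparated gX] [QuasiCompact gX] [IsIntegral X] [Smooth gY] [IsSeparated gY] [QuasiCompact gY] [IsIntegral Y]
  (f : X ⟶ Y) [Flat f] [IsProper f] {δX : X → ℤ} {δY : Y → ℤ} (hX : Cyc.IsSetup X δX) (hY : Cyc.IsSetup Y δY)
  (hδX : Cyc.DeltaCompat gX δX (fun _ => 0)) (hδY : Cyc.DeltaCompat gY δY (fun _ => 0))
  (hδ : Cyc.DeltaCompat f δX δY) {n m : ℤ} (hn : δX (genericPoint X) = n) (hm : δY (genericPoint Y) = m)
  {e : ℕ} (he : (e : ℤ) = n - m) (hrel : Cyc.HasRelDim f e)

include hX hY hδX hδY hδ hn hm he hrel in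
/-- The projection formula for one point and one sheaf. -/
theorem proj_point (ξ : X) (G : Y.Modules) (hG : Coh.IsCoh G) (s : ℤ)
    (hs : ∀ y : Y, Nontrivial (G.presheaf.stalk y) → δY y ≤ s)
    (hxi : ∀ x : X, ξ ⤳ x → Nontrivial (G.presheaf.stalk (f x)) → δX x ≤ δX ξ + s - m) (y : Y) [DecidableEq Y]
    [DecidableEq X] :
    IntMult.interProd δY m (fun w => if w = f ξ then (AlgebraicCycle.mapCoeff f δX δY ξ : ℤ) else 0)
        (Cyc.sheafFun δY s G) y =
      ∑ᶠ x ∈ f ⁻¹' {y}, IntMult.interProd δX n (fun w => if w = ξ then (1 : ℤ) else 0)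
        (Cyc.pullFun f δX δY e (Cyc.sheafFun δY s G)) x * (AlgebraicCycle.mapCoeff f δX δY x : ℤ) := by
  classical
  haveI : IsLocallyNoetherian X := hX.1
  haveI : IsLocallyNoetherian Y := hY.1
  let F := Cyc.closureStructureSheaf ξ
  have hF : Coh.IsCoh F := H9ChowK.isCoh_closure ξ
  have hFr : ∀ x : X, Nontrivial (F.presheaf.stalk x) → δX x ≤ δX ξ := fun x hx =>
    CycLib.delta_le hX.2.2 ((nontrivial_closure_iff ξ x).1 hx)
  have hM : Coh.IsCoh ((Coh.push f).obj F) := ExistEasy.isCoh_pushforward_proper f hF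
  have hMr : ∀ w : Y, Nontrivial (((Coh.push f).obj F).presheaf.stalk w) → δY w ≤ δX ξ := fun w hw => by
    obtain ⟨x, rfl, hx⟩ := nontrivial_push f F hF w hw
    exact (CycLib.le_of_deltaCompat f hδ x).trans (hFr x hx)
  have hMG : ∀ w : Y, Nontrivial (((Coh.push f).obj F).presheaf.stalk w) → Nontrivial (G.presheaf.stalk w) →
      δY w ≤ δX ξ + s - m := fun w hw hw' => by
    obtain ⟨x, rfl, hx⟩ := nontrivial_push f F hF w hw
    exact (CycLib.le_of_deltaCompat f hδ x).trans (hxi x ((nontrivial_closure_iff ξ x).1 hx) hw')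
  let α₀ : AlgebraicCycle X ℤ := Function.locallyFinsuppWithin.single ξ 1
  have hα₀ : ⇑α₀ = Cyc.sheafFun δX (δX ξ) F := funext fun x => by
    rw [sheafFun_closure hX.2.2 ξ x]
    exact Function.locallyFinsuppWithin.single_apply
  have hα₀' : ⇑α₀ = fun w => if w = ξ then (1 : ℤ) else 0 := funext fun x =>
    Function.locallyFinsuppWithin.single_apply
  have hmap : (fun w => if w = f ξ then (AlgebraicCycle.mapCoeff f δX δY ξ : ℤ) else 0) =
      Cyc.sheafFun δY (δX ξ) ((Coh.push f).obj F) := by
    rw [← H9CycPush.map_sheafFun f F hX.2.2 hδ (δX ξ) hF hFr α₀ hα₀]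
    funext w
    rw [CycLib.map_apply', hα₀']
    by_cases hw : w = f ξ
    · rw [if_pos hw, finsum_mem_eq_sum_of_subset _ (t := {ξ}) (fun x hx => ?_) (fun x hx => ?_),
        Finset.sum_singleton]
      · show _ = (if ξ = ξ then (1 : ℤ) else 0) * _
        rw [if_pos rfl, one_mul]
      · simp only [Finset.coe_singleton, Set.mem_singleton_iff]
        by_contra hne
        exact hx.2 (by show (if x = ξ then (1 : ℤ) else 0) * _ = 0; rw [if_neg hne, zero_mul])
      · simp only [Finset.coe_singleton, Set.mem_singleton_iff] at hx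
        subst hx
        exact hw.symm
    · rw [if_neg hw]
      refine (finsum_mem_of_eqOn_zero fun x hx => ?_).symm
      show (if x = ξ then (1 : ℤ) else 0) * _ = 0
      rw [if_neg (fun hxe => hw (by rw [← hxe]; exact (show f x = w from hx).symm)), zero_mul]
  rw [hmap, ← hα₀', hα₀]
  have hle := H23.FlatShift.le_of_hasRelDim f hrel hδ
  obtain ⟨hs', hpull⟩ := H23.FlatShift.sheafFun_pullback f δX δY hle s G hs
  have hG' : Coh.IsCoh ((Scheme.Modules.pullback f).obj G) := ZClosLib.isCoh_pullback f hG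
  have hfG : ∀ x : X, Nontrivial (((Scheme.Modules.pullback f).obj G).presheaf.stalk x) →
      Nontrivial (G.presheaf.stalk (f x)) := fun x hx => H23.FlatShift.nontrivial_of_pullback f G x hx
  have hrs : ∀ x : X, Nontrivial (F.presheaf.stalk x) →
      Nontrivial (((Scheme.Modules.pullback f).obj G).presheaf.stalk x) → δX x ≤ δX ξ + (s + e) - n := fun x hx hx' => by
    have := hxi x ((nontrivial_closure_iff ξ x).1 hx) (hfG x hx')
    omega
  rw [hpull, interProd_sheafFun gY hδY hm _ G hM hG (δX ξ) s hMr hs hMG y,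
    finsum_mem_congr rfl fun x _ => by
      rw [interProd_sheafFun gX hδX hn F ((Scheme.Modules.pullback f).obj G) hF hG' (δX ξ) (s + e) hFr hs' hrs x]]
  by_cases hy : δY y = δX ξ + s - m
  swap
  · rw [if_neg hy]
    refine (finsum_mem_of_eqOn_zero fun x hx => ?_).symm
    have hxy : f x = y := hx
    simp only [AlgebraicCycle.mapCoeff]
    split_ifs with h1 h2 <;> try simp
    exfalso
    rw [show f.base x = y from hxy] at h2
    omega
  rw [if_pos hy]
  by_cases hGy : Nontrivial (G.presheaf.stalk y)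
  swap
  · rw [not_nontrivial_iff_subsingleton] at hGy
    rw [H9Samuel.chi_comm, show IntMult.chi (Y.presheaf.stalk y) (G.presheaf.stalk y) _ = 0 from
      finsum_eq_zero_of_forall_eq_zero fun i => by
        rw [Module.length_eq_zero_iff.2 (interProd_sheafFun.subsingleton_tor_of_subsingleton i)]; simp]
    refine (finsum_mem_of_eqOn_zero fun x hx => ?_).symm
    have hxy : f x = y := hx
    haveI : Subsingleton (((Scheme.Modules.pullback f).obj G).presheaf.stalk x) := by
      refine not_nontrivial_iff_subsingleton.1 fun hn' => ?_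
      have := hfG x hn'
      rw [hxy] at this
      exact not_subsingleton_iff_nontrivial.2 this hGy
    show (if δX x = _ then _ else 0) * _ = 0
    rw [H9Samuel.chi_comm, show IntMult.chi (X.presheaf.stalk x) (((Scheme.Modules.pullback f).obj G).presheaf.stalk x) _ = 0 from
      finsum_eq_zero_of_forall_eq_zero fun i => by
        rw [Module.length_eq_zero_iff.2 (interProd_sheafFun.subsingleton_tor_of_subsingleton i)]; simp]
    split_ifs <;> simp
  have hTδ : ∀ x, f x = y → ξ ⤳ x → δX x = δY y := fun x hx hξx => by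
    have h1 := CycLib.le_of_deltaCompat f hδ x
    have h2 := hxi x hξx (hx.symm ▸ hGy)
    rw [hx] at h1
    omega
  have hT : {x : X | f x = y ∧ ξ ⤳ x}.Finite := by
    haveI : CompactSpace X := QuasiCompact.compactSpace_of_compactSpace gX
    haveI : IsNoetherian X := {}
    refine (finite_top_points hX.2.2 (C := closure {ξ} ∩ f ⁻¹' {w : Y | Nontrivial (G.presheaf.stalk w)})
      (isClosed_closure.inter ((CycLib.isClosed_nontrivial G hG).preimage f.continuous)) (l := δY y)
      (fun x hx => (hxi x (specializes_iff_mem_closure.2 hx.1) hx.2).trans hy.ge)).subset fun x hx => ?_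
    exact ⟨⟨specializes_iff_mem_closure.1 hx.2, show Nontrivial (G.presheaf.stalk (f x)) from hx.1.symm ▸ hGy⟩,
      hTδ x hx.1 hx.2⟩
  haveI : IsRegularLocalRing (Y.presheaf.stalk y) := GrpSchLib.isRegularLocalRing_stalk_of_smooth gY y
  haveI := QCoh.finite_stalk_of_isFT hG.1 hG.2 y
  have hP : Primary (Y.presheaf.stalk y) (((Coh.push f).obj F).presheaf.stalk y) (G.presheaf.stalk y) :=
    primary_stalk hY.2.2 _ G hM hG y fun z _ h1 h2 => (hMG z h1 h2).trans hy.ge
  rw [chi_push_closure f hδ ξ y hT hTδ (G.presheaf.stalk y) hP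
    (fun x => IntMult.chi (X.presheaf.stalk x) (F.presheaf.stalk x)
      (((Scheme.Modules.pullback f).obj G).presheaf.stalk x)) ?_]
  · symm
    refine (finsum_mem_inter_support_eq' _ _ {x : X | f x = y ∧ ξ ⤳ x} fun x hx => ?_).trans
      (finsum_mem_congr rfl fun x hx => ?_)
    · refine ⟨fun hxy => ⟨hxy, ?_⟩, fun h => h.1⟩
      by_contra hns
      haveI : Subsingleton (F.presheaf.stalk x) := not_nontrivial_iff_subsingleton.1 fun hn' =>
        hns ((nontrivial_closure_iff ξ x).1 hn')
      refine hx ?_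
      show (if δX x = _ then _ else 0) * _ = 0
      rw [show IntMult.chi (X.presheaf.stalk x) (F.presheaf.stalk x) _ = 0 from
        finsum_eq_zero_of_forall_eq_zero fun i => by
          rw [Module.length_eq_zero_iff.2 (interProd_sheafFun.subsingleton_tor_of_subsingleton i)]; simp]
      split_ifs <;> simp
    · have h1 := hTδ x hx.1 hx.2
      rw [if_pos (by omega), AlgebraicCycle.mapCoeff, if_pos (by rw [show f.base x = y from hx.1]; exact h1)]
      ring
  · intro x hx hξx
    subst hx
    exact chi_pullback_right f _ G x _ (by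
      rw [H9CycPush.ringMap, TopCat.Presheaf.stalkSpecializes_refl, Category.id_comp])

theorem finsum_mem_sub_int {κ : Type*} {s : Set κ} {f g : κ → ℤ} (hf : (s ∩ Function.support f).Finite)
    (hg : (s ∩ Function.support g).Finite) :
    ∑ᶠ i ∈ s, (f i - g i) = (∑ᶠ i ∈ s, f i) - ∑ᶠ i ∈ s, g i := by
  rw [eq_sub_iff_add_eq, ← finsum_mem_add_distrib' ((hf.union hg).subset ?_) hg]
  · exact finsum_mem_congr rfl fun i _ => sub_add_cancel _ _
  · rintro i ⟨hi, hne⟩
    by_cases h : f i = 0
    · exact Or.inr ⟨hi, fun h0 => hne (by simp [h, h0])⟩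
    · exact Or.inl ⟨hi, h⟩

theorem finsum_mem_sum_comm {κ ι : Type*} (S : Finset ι) (s : Set κ) (g : ι → κ → ℤ) (c : ι → ℤ)
    (hg : ∀ i ∈ S, (s ∩ Function.support (g i)).Finite) :
    ∑ᶠ k ∈ s, ∑ i ∈ S, c i * g i k = ∑ i ∈ S, c i * ∑ᶠ k ∈ s, g i k := by
  classical
  induction S using Finset.induction with
  | empty => simp
  | @insert a S ha ih =>
    simp only [Finset.sum_insert ha]
    have h1 : ∀ i ∈ insert a S, (s ∩ Function.support (fun k => c i * g i k)).Finite := fun i hi =>
      (hg i hi).subset (Set.inter_subset_inter_right _ fun k hk => right_ne_zero_of_mul hk)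
    rw [finsum_mem_add_distrib' (h1 a (Finset.mem_insert_self a S)), ih fun i hi => hg i (Finset.mem_insert_of_mem hi)]
    · congr 1
      rw [mul_finsum_mem]
    · refine ((Set.finite_iUnion fun i : S => h1 i.1 (Finset.mem_insert_of_mem i.2))).subset fun k hk => ?_
      obtain ⟨i, hi, hne⟩ := Finset.exists_ne_zero_of_sum_ne_zero hk.2
      exact Set.mem_iUnion.2 ⟨⟨i, hi⟩, hk.1, hne⟩

end Groth.Agent.H9Diag
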