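import Groth.Agent.H9Diag.P1Geom
import Groth.Agent.H9Diag.ProjFormula
import Groth.Agent.H9Mult.Cases
import Groth.Agent.S14434
import Groth.Agent.S1903

/-!
The intersection product of a subvariety of the projective line over `X` with the two sections.
-/

set_option autoImplicit false
set_option linter.style.haveILetI false
set_option backward.isDefEq.respectTransparency false
set_option backward.isDefEq.respectTransparency.types false
set_option maxHeartbeats 1000000

universe u

open AlgebraicGeometry CategoryTheory Limits IsLocalRing Groth.Agent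
open scoped Pointwise TensorProduct

noncomputable section

namespace Groth.Agent.H9Diag.P1Cap

/-- The intersection number of a prime quotient with a Cartier divisor not containing it. -/
theorem chi_span_quot {A : Type u} [CommRing A] [IsRegularLocalRing A] (c : A) (hc : IsSMulRegular A c) (J : Ideal A) [J.IsPrime]
    (hJ : c ∉ J) : IntMult.chi A (A ⧸ Ideal.span {c}) (A ⧸ J) = ((Module.length A (A ⧸ (J ⊔ Ideal.span {c}))).toNat : ℤ) := by
  rw [H9Samuel.chi_comm]
  refine H9Mult.chi_of_vanish J (Ideal.span {c}) fun i => S14434.result (A ⧸ J) c hc ?_ (i + 1) (Nat.le_add_left 1 i)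
  intro a b hab
  obtain ⟨a, rfl⟩ := Ideal.Quotient.mk_surjective a
  obtain ⟨b, rfl⟩ := Ideal.Quotient.mk_surjective b
  simp only [Algebra.smul_def, Ideal.Quotient.algebraMap_eq] at hab
  rw [← map_mul, ← map_mul,
    Ideal.Quotient.mk_eq_mk_iff_sub_mem, ← mul_sub] at hab
  rw [Ideal.Quotient.mk_eq_mk_iff_sub_mem]
  exact (Ideal.IsPrime.mem_or_mem inferInstance hab).resolve_left hJ

/-- The length of the reduction of a cyclic module. -/
theorem length_smul_cyclic {A M : Type u} [CommRing A] [AddCommGroup M] [Module A M] (m : M)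
    (hm : Submodule.span A {m} = ⊤) (J : Ideal A) (hJ : ∀ r : A, r • m = 0 ↔ r ∈ J) (c : A) :
    Module.length A (M ⧸ c • (⊤ : Submodule A M)) = Module.length A (A ⧸ (J ⊔ Ideal.span {c})) := by
  let L : A →ₗ[A] M ⧸ c • (⊤ : Submodule A M) := (Submodule.mkQ _).comp (LinearMap.toSpanSingleton A M m)
  have hs : Function.Surjective L := (Submodule.mkQ_surjective _).comp fun t =>
    Submodule.mem_span_singleton.1 (hm.ge (Submodule.mem_top : t ∈ ⊤))
  have hk : LinearMap.ker L = J ⊔ Ideal.span {c} := by
    ext r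
    rw [LinearMap.mem_ker]
    show Submodule.mkQ _ (r • m) = 0 ↔ _
    rw [Submodule.mkQ_apply, Submodule.Quotient.mk_eq_zero, Submodule.mem_smul_pointwise_iff_exists]
    constructor
    · rintro ⟨t, -, ht⟩
      obtain ⟨s, rfl⟩ := Submodule.mem_span_singleton.1 (hm.ge (Submodule.mem_top : t ∈ ⊤))
      have h0 : (r - c * s) • m = 0 := by rw [sub_smul, mul_smul, ht, sub_self]
      have := Submodule.add_mem_sup ((hJ _).1 h0) (Ideal.mem_span_singleton'.2 ⟨s, mul_comm s c⟩)
      simpa using this
    · intro hr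
      obtain ⟨j, hj, e, he, rfl⟩ := Submodule.mem_sup.1 hr
      obtain ⟨s, rfl⟩ := Ideal.mem_span_singleton'.1 he
      exact ⟨s • m, trivial, by rw [add_smul, (hJ j).2 hj, zero_add, ← mul_smul, mul_comm]⟩
  exact ((L.quotKerEquivOfSurjective hs).symm.trans (Submodule.quotEquivOfEq _ _ hk)).length_eq

variable {X : Scheme.{u}}

/-- The ideal of the generic point of a section at a point of the section is cut out by the coordinate. -/
theorem primeOf_sect [IsIntegral X] (i : Fin (1 + 1)) (x : X)
    (h : P1.sect X i (genericPoint X) ⤳ P1.sect X i x) :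
    (CDiv6.primeOf h).asIdeal = Ideal.span {(CohB1.ProjSpaceOver 1 X).presheaf.germ _ (P1.sect X i x)
      (H23.P1Sect.sect_mem X i x) (H23.P1Sect.c X i)} := by
  have hsp : genericPoint X ⤳ x := (genericPoint_spec X).specializes (Set.mem_univ x)
  rw [← H23.P1Sect.ker_sect]
  ext g
  rw [CDiv6.mem_primeOf, RingHom.mem_ker]
  have hcomp : ((P1.sect X i).stalkMap (genericPoint X)).hom
      (((CohB1.ProjSpaceOver 1 X).presheaf.stalkSpecializes h).hom g) =
      (X.presheaf.stalkSpecializes hsp).hom (((P1.sect X i).stalkMap x).hom g) :=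
    ConcreteCategory.congr_hom (Scheme.Hom.stalkSpecializes_stalkMap (P1.sect X i) (genericPoint X) x hsp) g
  letI : Field (X.presheaf.stalk (genericPoint X)) :=
    (inferInstance : Field X.functionField)
  constructor
  · intro hg
    have h0 : ((P1.sect X i).stalkMap (genericPoint X)).hom
        (((CohB1.ProjSpaceOver 1 X).presheaf.stalkSpecializes h).hom g) = 0 := by
      by_contra hne
      exact hg (isUnit_of_map_unit ((P1.sect X i).stalkMap (genericPoint X)).hom _ (Ne.isUnit hne))
    rw [hcomp] at h0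
    refine (injective_iff_map_eq_zero _).1 ?_ _ h0
    exact IsFractionRing.injective (X.presheaf.stalk x) X.functionField
  · intro hg hu
    have h1 := hu.map ((P1.sect X i).stalkMap (genericPoint X)).hom
    rw [hcomp, hg, map_zero] at h1
    exact not_isUnit_zero h1

variable {K : Type u} [Field K] [IsAlgClosed K] (f : X ⟶ Spec (CommRingCat.of K)) [Smooth f]
  [IsSeparated f] [QuasiCompact f] [IsIntegral X] {δ : X → ℤ} {δP : ↥(CohB1.ProjSpaceOver 1 X) → ℤ}

/-- The fibre over the coordinate point `i` of a subvariety, as a cycle on the base. -/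
def fibFun (δ : X → ℤ) (k : ℤ) (w : CohB1.ProjSpaceOver 1 X) (i : Fin (1 + 1)) : X → ℤ :=
  Cyc.sheafFun δ k ((Scheme.Modules.pullback (P1.sect X i)).obj (Cyc.closureStructureSheaf w))

omit [IsAlgClosed K] [Smooth f] [IsSeparated f] [QuasiCompact f] [IsIntegral X] in
theorem deltaCompat_point [LocallyOfFiniteType f] [Smooth (CohB1.ProjSpaceOver.toBase 1 X)]
    (hδ : Cyc.DeltaCompat f δ (fun _ => 0))
    (hP : Cyc.DeltaCompat (CohB1.ProjSpaceOver.toBase 1 X) δP δ) :
    Cyc.DeltaCompat (CohB1.ProjSpaceOver.toBase 1 X ≫ f) δP (fun _ => 0) := by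
  have e : δP = fun z => (FibDim.rd (CohB1.ProjSpaceOver.toBase 1 X ≫ f) z : ℤ) := by
    funext z
    rw [CycLib.deltaCompat_eq (CohB1.ProjSpaceOver.toBase 1 X) hP, CycLib.deltaCompat_eq f hδ,
      CycLib.rd_comp (CohB1.ProjSpaceOver.toBase 1 X) f z]
    push_cast
    ring
  rw [e]
  exact CycLib.deltaCompat_rd _

include f in
/-- A point of dimension `k+1` meeting a section properly meets it in the fibre cycle. -/
theorem interProd_sect [DecidableEq ↥(CohB1.ProjSpaceOver 1 X)] (hX : Cyc.IsSetup X δ)
    (hδ : Cyc.DeltaCompat f δ (fun _ => 0))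
    {n : ℤ} (hn : δ (genericPoint X) = n) (hP : Cyc.DeltaCompat (CohB1.ProjSpaceOver.toBase 1 X) δP δ)
    [IsIntegral (CohB1.ProjSpaceOver 1 X)] {k : ℤ} {w : CohB1.ProjSpaceOver 1 X} (hw : δP w = k + 1)
    (i : Fin (1 + 1)) (hnot : w ∉ Set.range (P1.sect X i)) (x : X) :
    IntMult.interProd δP (n + 1) (fun z => if z = w then 1 else 0)
      (Set.indicator {P1.sect X i (genericPoint X)} 1) (P1.sect X i x) = fibFun δ k w i x := by
  classical
  haveI := hX.1
  haveI := P1Geom.smooth_toBase X
  haveI := P1Geom.isProper_toBase X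
  haveI : IsLocallyNoetherian (CohB1.ProjSpaceOver 1 X) :=
    LocallyOfFiniteType.isLocallyNoetherian (CohB1.ProjSpaceOver.toBase 1 X)
  have hds : δP (P1.sect X i (genericPoint X)) = n := (H23.P1Fam.delta_sect hP i _).trans hn
  have hdx := H23.P1Fam.delta_sect hP i x
  have hη : P1.sect X i (genericPoint X) ⤳ P1.sect X i x :=
    ((genericPoint_spec X).specializes (Set.mem_univ x)).map (P1.sect X i).continuous
  have hP' := deltaCompat_point f hδ hP
  by_cases hc : w ⤳ P1.sect X i x ∧ δ x = k
  swap
  · rw [fibFun, Cyc.sheafFun]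
    have hz : IntMult.interProd δP (n + 1) (fun z => if z = w then 1 else 0)
        (Set.indicator {P1.sect X i (genericPoint X)} 1) (P1.sect X i x) = 0 := by
      refine finsum_eq_zero_of_forall_eq_zero ?_
      rintro ⟨⟨ξ, η⟩, hξ, hη', hd⟩
      by_contra h0
      simp only [mul_eq_zero, not_or, ite_eq_right_iff, one_ne_zero, imp_false, not_not] at h0
      obtain ⟨⟨h1, h2⟩, -⟩ := h0
      have h2' : η = P1.sect X i (genericPoint X) := Set.mem_singleton_iff.1 (by
        by_contra hm
        exact h2 (Set.indicator_of_notMem hm _))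
      dsimp only at hd hξ
      subst h1 h2'
      exact hc ⟨hξ, by omega⟩
    rw [hz]
    beta_reduce
    split_ifs with hk
    · have hns : ¬ Nontrivial ((Cyc.closureStructureSheaf w).presheaf.stalk (P1.sect X i x)) := fun h =>
        hc ⟨(nontrivial_closure_iff w _).1 h, hk⟩
      rw [not_nontrivial_iff_subsingleton] at hns
      rw [H23.CapSheaf.length_stalk_pullback_closed _ _ x (H23.P1Sect.ker_sect X i x),
        Module.length_eq_zero_iff.2 inferInstance]
      rfl
    · rfl
  · obtain ⟨hwx, hk⟩ := hc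
    rw [fibFun, Cyc.sheafFun]
    beta_reduce
    rw [if_pos hk]
    rw [IntMult.interProd, finsum_eq_single _ ⟨(w, P1.sect X i (genericPoint X)), hwx, hη, by show δP w + δP (P1.sect X i (genericPoint X)) - (n + 1) = δP (P1.sect X i x); omega⟩]
    swap
    · rintro ⟨⟨ξ, η⟩, hξ, hη', hd⟩ hne
      by_contra h0
      simp only [mul_eq_zero, not_or, ite_eq_right_iff, one_ne_zero, imp_false, not_not] at h0
      obtain ⟨⟨h1, h2⟩, -⟩ := h0
      have h2' : η = P1.sect X i (genericPoint X) := Set.mem_singleton_iff.1 (by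
        by_contra hm
        exact h2 (Set.indicator_of_notMem hm _))
      subst h1 h2'
      exact hne rfl
    simp only [if_pos, Set.indicator_of_mem (Set.mem_singleton _), Pi.one_apply, one_mul]
    rw [IntMult.mult, ← primeOf_eq_ptIdeal (CohB1.ProjSpaceOver.toBase 1 X ≫ f) hP' (h := hwx),
      ← primeOf_eq_ptIdeal (CohB1.ProjSpaceOver.toBase 1 X ≫ f) hP' (h := hη), primeOf_sect i x hη,
      H23.CapSheaf.length_stalk_pullback_closed _ _ x (H23.P1Sect.ker_sect X i x),
      length_smul_cyclic (H9ChowK.oneGerm w _) (H9ChowK.span_oneGerm w _) _ (H9ChowK.smul_oneGerm_eq_zero w hwx) _]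
    haveI : IsRegularLocalRing ((CohB1.ProjSpaceOver 1 X).presheaf.stalk (P1.sect X i x)) :=
      GrpSchLib.isRegularLocalRing_stalk_of_smooth (CohB1.ProjSpaceOver.toBase 1 X ≫ f) _
    refine chi_span_quot _ ?_ _ fun hmem => ?_
    · haveI : IsDomain ((CohB1.ProjSpaceOver 1 X).presheaf.stalk (P1.sect X i x)) := inferInstance
      refine fun a b hab => mul_left_cancel₀ (fun h0 => ?_) hab
      have hbot := primeOf_sect i x hη
      rw [h0, Ideal.span_singleton_zero] at hbot
      have hgen := (genericPoint_spec (CohB1.ProjSpaceOver 1 X)).specializes (Set.mem_univ (P1.sect X i x))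
      have heq : P1.sect X i (genericPoint X) ⤳ genericPoint ↥(CohB1.ProjSpaceOver 1 X) :=
        (H23.StalkPrimes.primeOf_le_iff hgen hη).1 (by rw [hbot]; exact bot_le)
      have h2 := CycLib.delta_le (H23.SetupLFT.isSetup _ hX hP).2.2 heq
      rw [P1Geom.delta_generic f hX hP, hds, hn] at h2
      omega
    · have hle : (CDiv6.primeOf hη).asIdeal ≤ (CDiv6.primeOf hwx).asIdeal := by
        rw [primeOf_sect i x hη, Ideal.span_singleton_le_iff_mem]
        exact hmem
      exact hnot (((H23.StalkPrimes.primeOf_le_iff hwx hη).1 hle).mem_closed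
        (P1.sect X i).isClosedEmbedding.isClosed_range ⟨_, rfl⟩)

omit [Smooth f] [IsSeparated f] [QuasiCompact f] [IsIntegral X] [IsAlgClosed K] in
theorem disjoint_sect {i j : Fin (1 + 1)} (hij : i ≠ j) (x y : X) : P1.sect X i x ≠ P1.sect X j y := fun h => by
  have hj : j = 1 - i := by fin_cases i <;> fin_cases j <;> first | rfl | exact absurd rfl hij
  exact H23.P1Fam.sect_ne i x (h ▸ hj ▸ H23.P1Sect.sect_mem X j y)

omit [Smooth f] [IsSeparated f] [QuasiCompact f] [IsIntegral X] [IsAlgClosed K] in
/-- The two fibres of a subvariety of the projective line are rationally equivalent. -/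
theorem zeroOn_point (hX : Cyc.IsSetup X δ) (hP : Cyc.DeltaCompat (CohB1.ProjSpaceOver.toBase 1 X) δP δ) {k : ℤ}
    {w : CohB1.ProjSpaceOver 1 X} (hw : δP w = k + 1) (hnot : ∀ i, w ∉ Set.range (P1.sect X i)) :
    H23.RatOn.ZeroOn δ k Set.univ fun x => fibFun δ k w 0 x - fibFun δ k w 1 x := by
  classical
  haveI := hX.1
  haveI := P1Geom.isProper_toBase X
  have hPs := H23.SetupLFT.isSetup (CohB1.ProjSpaceOver.toBase 1 X) hX hP
  haveI : IsLocallyNoetherian (CohB1.ProjSpaceOver 1 X) := hPs.1
  have hsupp : ∀ p : ↥(CohB1.ProjSpaceOver 1 X),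
      Nontrivial ((Cyc.closureStructureSheaf w).presheaf.stalk p) → δP p ≤ k + 1 := fun p hp =>
    hw ▸ CycLib.delta_le hPs.2.2 ((nontrivial_closure_iff w p).1 hp)
  have hpb : ∀ (i : Fin (1 + 1)) (x : X), Nontrivial (((Scheme.Modules.pullback (P1.sect X i)).obj
      (Cyc.closureStructureSheaf w)).presheaf.stalk x) → δ x ≤ k := fun i x hx => by
    have hn : Nontrivial ((Cyc.closureStructureSheaf w).presheaf.stalk (P1.sect X i x)) := by
      by_contra hn
      rw [not_nontrivial_iff_subsingleton] at hn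
      have h0 : Module.length (X.presheaf.stalk x) (((Scheme.Modules.pullback (P1.sect X i)).obj
          (Cyc.closureStructureSheaf w)).presheaf.stalk x) = 0 := by
        rw [H23.CapSheaf.length_stalk_pullback_closed _ _ x (H23.P1Sect.ker_sect X i x),
          Module.length_eq_zero_iff.2 inferInstance]
      exact not_subsingleton_iff_nontrivial.2 hx (Module.length_eq_zero_iff.1 h0)
    have h := CycLib.delta_lt hPs.2.2 ((nontrivial_closure_iff w _).1 hn) (fun e => hnot i ⟨x, e.symm⟩)
    rw [H23.P1Fam.delta_sect hP, hw] at h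
    omega
  have hcoh := H9ChowK.isCoh_closure w
  have hlf := fun i => fun z (_ : z ∈ (Set.univ : Set X)) =>
    H23.P1Fam.locFin_sheafFun hX.2.2 (⟨QCoh.isQCoh_pullback (P1.sect X i) hcoh.1, QCoh.isFT_pullback (P1.sect X i) hcoh.1 hcoh.2⟩) (hpb i) z
  let a : Fin (1 + 1) → AlgebraicCycle X ℤ := fun i => ⟨fibFun δ k w i, Set.subset_univ _, hlf i⟩
  have h := S1903.result X δ hX δP hP k (Cyc.closureStructureSheaf w) hcoh hsupp (hpb 0) (hpb 1) ?_ (a 0) (a 1) rfl rfl
  · exact H23.RatOn.congr (H23.RatOn.of_ratEquivZero h) fun x => by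
      rw [Function.locallyFinsuppWithin.coe_sub]; rfl
  · intro p hp
    left
    suffices p = w by
      subst this
      exact fun h => h.elim (hnot 0) (hnot 1)
    obtain ⟨m, hm⟩ := ((isAssociatedPrime_iff).1 hp).2
    have hn : Nontrivial ((Cyc.closureStructureSheaf w).presheaf.stalk p) := by
      by_contra hn
      rw [not_nontrivial_iff_subsingleton] at hn
      refine hp.isPrime.ne_top ?_
      rw [hm]
      exact eq_top_iff.2 fun r _ => by rw [Subsingleton.elim m 0]; simp
    have hwp := (nontrivial_closure_iff w p).1 hn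
    obtain ⟨t, rfl⟩ := Submodule.mem_span_singleton.1
      ((H9ChowK.span_oneGerm w p).ge (Submodule.mem_top : m ∈ ⊤))
    have ht : t ∉ (CDiv6.primeOf hwp).asIdeal := fun ht => by
      refine hp.isPrime.ne_top ?_
      rw [hm, (H9ChowK.smul_oneGerm_eq_zero w hwp t).2 ht]
      simp
    refine (CycLib.eq_of_delta_le hPs.2.2 hwp ?_).symm
    have hsp : p ⤳ w := (H23.StalkPrimes.primeOf_le_iff hwp (specializes_refl p)).1 fun r hr => by
      rw [show (CDiv6.primeOf (specializes_refl p)).asIdeal = maximalIdeal _ from H23.ZeroSec.primeOf_refl' _, hm] at hr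
      have h2 : r * t ∈ (CDiv6.primeOf hwp).asIdeal := by
        rw [← H9ChowK.smul_oneGerm_eq_zero w hwp, mul_smul]
        simpa [Submodule.mem_colon_singleton] using hr
      exact ((CDiv6.primeOf hwp).isPrime.mem_or_mem h2).resolve_right ht
    exact CycLib.delta_le hPs.2.2 hsp

end Groth.Agent.H9Diag.P1Cap
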