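import Groth.Agent.H9Diag.ExtProd
import Groth.Agent.H23.P1Conn
import Groth.Agent.H23.P1Fam
import Groth.Agent.LineConst.Proper
import Groth.Agent.KRRReg.Section
import Groth.Agent.PnCoh.Chow.Proper

/-!
The projective line over a smooth variety: smoothness, integrality and fibre dimension.
-/

set_option autoImplicit false
set_option linter.style.haveILetI false
set_option backward.isDefEq.respectTransparency false
set_option backward.isDefEq.respectTransparency.types false
set_option maxHeartbeats 1000000

universe u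

open AlgebraicGeometry CategoryTheory Limits Groth.Agent

noncomputable section

namespace Groth.Agent.H9Diag.P1Geom

variable (S : Scheme.{u})

theorem smooth_toBase : Smooth (CohB1.ProjSpaceOver.toBase 1 S) := by
  haveI := KRRReg.smooth_toSpec 1 (ULift.{u} ℤ)
  exact MorphismProperty.pullback_snd (P := @Smooth) _ _ inferInstance

theorem isProper_toBase : IsProper (CohB1.ProjSpaceOver.toBase 1 S) := by
  haveI := PnCoh.Chow.isProper_toSpec 1 (ULift.{u} ℤ)
  exact MorphismProperty.pullback_snd (P := @IsProper) _ _ inferInstance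

section Field

variable (L : Type u) [Field L]

theorem topologicalKrullDim_line :
    topologicalKrullDim ↥(CohB1.ProjSpaceOver 1 (Spec (CommRingCat.of L))) = 1 := by
  let P := CohB1.ProjSpaceOver 1 (Spec (CommRingCat.of L))
  let π := CohB1.ProjSpaceOver.toBase 1 (Spec (CommRingCat.of L))
  haveI : Smooth π := smooth_toBase _
  haveI : IsProper π := isProper_toBase _
  haveI := FibDim.subsingleton_spec_field L
  haveI : IsIntegral P := inferInstanceAs (IsIntegral (CohB1.ProjSpaceOver 1 (Spec (CommRingCat.of L))))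
  let dP : P → ℤ := fun z => (FibDim.rd π z : ℤ)
  have hP : Cyc.DeltaCompat π dP (fun _ => 0) := CycLib.deltaCompat_rd π
  let x₀ : ↥(Spec (CommRingCat.of L)) := IsLocalRing.closedPoint L
  let z := P1.sect (Spec (CommRingCat.of L)) 0 x₀
  have hz : dP z = 0 := H23.P1Fam.delta_sect (δ := fun _ => (0 : ℤ)) hP 0 x₀
  obtain ⟨D, hD, hD'⟩ := exists_dim_stalk π hP (n := dP (genericPoint P)) rfl z
  rw [hz, sub_zero] at hD'
  have hle : (D : WithBot ℕ∞) ≤ 1 := hD ▸ LineConst.ringKrullDim_stalk_le_one L z
  have hD1 : D ≤ 1 := by exact_mod_cast hle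
  have hne : genericPoint P ≠ z := by
    intro h
    have hd := CycLib.isDimFun_of_deltaCompat π (CycLib.isSetup_spec_field L) hP
    have hs := (genericPoint_spec P).specializes (Set.mem_univ (P1.sect (Spec (CommRingCat.of L)) 1 x₀))
    rw [h] at hs
    have h0 : dP (P1.sect (Spec (CommRingCat.of L)) 1 x₀) = 0 := H23.P1Fam.delta_sect (δ := fun _ => (0 : ℤ)) hP 1 x₀
    have he := CycLib.eq_of_delta_le hd hs (by rw [h0, hz])
    have h5 := H23.P1Sect.sect_mem (Spec (CommRingCat.of L)) 1 x₀
    rw [← he] at h5
    exact H23.P1Fam.sect_ne 0 x₀ h5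
  have hpos : 0 < dP (genericPoint P) := by
    have hd := CycLib.isDimFun_of_deltaCompat π (CycLib.isSetup_spec_field L) hP
    have := CycLib.delta_lt hd ((genericPoint_spec P).specializes (Set.mem_univ z)) hne
    omega
  have h1 : FibDim.rd π (genericPoint P) = 1 := by
    have : (FibDim.rd π (genericPoint P) : ℤ) = D := hD'.symm
    have h3 : (0 : ℤ) < FibDim.rd π (genericPoint P) := hpos
    omega
  have h4 := FibDim.topologicalKrullDim_closure π (genericPoint P)
  rw [(genericPoint_spec P).def, (Homeomorph.Set.univ P).isHomeomorph.topologicalKrullDim_eq, h1] at h4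
  exact h4

end Field

theorem hasRelDim_toBase : Cyc.HasRelDim (CohB1.ProjSpaceOver.toBase 1 S) 1 := by
  intro y T hT
  let e := (H23.P1Conn.isPullback_toP1 (S.fromSpecResidueField y)).isoPullback
  let h : ↥((CohB1.ProjSpaceOver.toBase 1 S).fiber y) ≃ₜ ↥(CohB1.ProjSpaceOver 1 (Spec (S.residueField y))) :=
    (TopCat.homeoOfIso (Scheme.forgetToTop.mapIso e)).symm
  haveI : IsIntegral (CohB1.ProjSpaceOver 1 (Spec (S.residueField y))) :=
    inferInstanceAs (IsIntegral (CohB1.ProjSpaceOver 1 (Spec (CommRingCat.of (S.residueField y)))))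
  haveI : IrreducibleSpace ↥((CohB1.ProjSpaceOver.toBase 1 S).fiber y) :=
    (irreducibleSpace_def _).2 (by
      have h2 := (IrreducibleSpace.isIrreducible_univ ↥(CohB1.ProjSpaceOver 1 (Spec (S.residueField y)))).image h.symm
        h.symm.continuous.continuousOn
      rwa [Set.image_univ, h.symm.surjective.range_eq] at h2)
  rw [irreducibleComponents_eq_singleton, Set.mem_singleton_iff] at hT
  subst hT
  rw [(Homeomorph.Set.univ _).isHomeomorph.topologicalKrullDim_eq, h.isHomeomorph.topologicalKrullDim_eq]
  exact topologicalKrullDim_line (S.residueField y)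

variable {K : Type u} [Field K] [IsAlgClosed K] {X : Scheme.{u}} (f : X ⟶ Spec (CommRingCat.of K)) [Smooth f]
  [IsSeparated f] [QuasiCompact f] [IsIntegral X]

include f in
theorem isIntegral_line : IsIntegral (CohB1.ProjSpaceOver 1 X) := by
  haveI : IsIntegral (Over.mk f).left := ‹IsIntegral X›
  haveI : GeometricallyIntegral f := H23.EquidimFibres.geometricallyIntegral_of_isAlgClosed (V := Over.mk f)
  haveI := smooth_toBase (Spec (CommRingCat.of K))
  haveI := isProper_toBase (Spec (CommRingCat.of K))
  haveI : IsLocallyNoetherian (CohB1.ProjSpaceOver 1 (Spec (CommRingCat.of K))) :=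
    LocallyOfFiniteType.isLocallyNoetherian (CohB1.ProjSpaceOver.toBase 1 (Spec (CommRingCat.of K)))
  haveI : IsIntegral (pullback (CohB1.ProjSpaceOver.toBase 1 (Spec (CommRingCat.of K))) f) := inferInstance
  let e := (H23.P1Conn.isPullback_toP1 f).isoPullback
  haveI : Nonempty ↥(CohB1.ProjSpaceOver 1 X) := ⟨P1.sect X 0 (genericPoint X)⟩
  exact isIntegral_of_isOpenImmersion e.hom

omit [IsSeparated f] [QuasiCompact f] in
include f in
/-- Everything needed on the projective line over a smooth variety. -/
theorem delta_generic {δ : X → ℤ} (hX : Cyc.IsSetup X δ) {δP : ↥(CohB1.ProjSpaceOver 1 X) → ℤ}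
    (hP : Cyc.DeltaCompat (CohB1.ProjSpaceOver.toBase 1 X) δP δ) [IsIntegral (CohB1.ProjSpaceOver 1 X)] :
    δP (genericPoint ↥(CohB1.ProjSpaceOver 1 X)) = δ (genericPoint X) + 1 := by
  let π := CohB1.ProjSpaceOver.toBase 1 X
  haveI := smooth_toBase X
  haveI := isProper_toBase X
  have hd := (H23.SetupLFT.isSetup π hX hP).2.2
  let P := CohB1.ProjSpaceOver 1 X
  have h9 : δP (genericPoint ↥P) = δP (genericPoint ↥(CohB1.ProjSpaceOver 1 X)) := rfl
  have hle := H23.FlatShift.le_of_hasRelDim π (hasRelDim_toBase X) hP (genericPoint P)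
  have h1 := CycLib.delta_le hX.2.2 ((genericPoint_spec X).specializes (Set.mem_univ (π (genericPoint P))))
  refine le_antisymm (by push_cast at hle; omega) ?_
  have hs := (genericPoint_spec P).specializes (Set.mem_univ (P1.sect X 0 (genericPoint X)))
  have hne : genericPoint P ≠ P1.sect X 0 (genericPoint X) := fun h => by
    have hs' := (genericPoint_spec P).specializes (Set.mem_univ (P1.sect X 1 (genericPoint X)))
    rw [h] at hs'
    have he := CycLib.eq_of_delta_le hd hs' (by rw [H23.P1Fam.delta_sect hP, H23.P1Fam.delta_sect hP])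
    exact H23.P1Fam.sect_ne 0 (genericPoint X) (he ▸ H23.P1Sect.sect_mem X 1 (genericPoint X))
  have h3 := CycLib.delta_lt hd hs hne
  rw [H23.P1Fam.delta_sect hP] at h3
  omega

end Groth.Agent.H9Diag.P1Geom
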