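import Groth.Agent.H9Diag.FlatBC
import Groth.Agent.H9Diag.Global
import Groth.Agent.H23.FlatShift
import Groth.Agent.ZClosLib.CohDescent

/-!
Flat pull-back of intersection products of sheaf cycles.
-/

set_option autoImplicit false
set_option linter.style.haveILetI false
set_option backward.isDefEq.respectTransparency false
set_option backward.isDefEq.respectTransparency.types false
set_option maxHeartbeats 1000000

universe u

open AlgebraicGeometry CategoryTheory TensorProduct Groth.Agent

noncomputable section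

namespace Groth.Agent.H9Diag

theorem chi_congr {A : Type u} [CommRing A] {M M' N N' : Type u} [AddCommGroup M] [Module A M] [AddCommGroup M']
    [Module A M'] [AddCommGroup N] [Module A N] [AddCommGroup N'] [Module A N'] (e : M ≃ₗ[A] M') (e' : N ≃ₗ[A] N') :
    IntMult.chi A M N = IntMult.chi A M' N' := by
  rw [chi_congr_left e, H9Samuel.chi_comm, chi_congr_left e', H9Samuel.chi_comm]

theorem chi_stalk_pullback {X Y : Scheme.{u}} (f : X ⟶ Y) [Flat f] (F G : Y.Modules) (x : X) :
    IntMult.chi (X.presheaf.stalk x) (((Scheme.Modules.pullback f).obj F).presheaf.stalk x)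
        (((Scheme.Modules.pullback f).obj G).presheaf.stalk x) =
      IntMult.chi (Y.presheaf.stalk (f x)) (F.presheaf.stalk (f x)) (G.presheaf.stalk (f x)) *
        ((Module.length (X.presheaf.stalk x) (X.presheaf.stalk x ⧸ Ideal.map (f.stalkMap x).hom
          (IsLocalRing.maximalIdeal (Y.presheaf.stalk (f x))))).toNat : ℤ) := by
  have hflat : (f.stalkMap x).hom.Flat := Flat.stalkMap f x
  have eF := ((KFlatLib.stalkPullbackIso f x).app F).toLinearEquiv
  have eG := ((KFlatLib.stalkPullbackIso f x).app G).toLinearEquiv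
  refine (chi_congr eF eG).trans ?_
  algebraize [(f.stalkMap x).hom]
  haveI : IsLocalHom (algebraMap (Y.presheaf.stalk (f x)) (X.presheaf.stalk x)) :=
    inferInstanceAs <| IsLocalHom (f.stalkMap x).hom
  exact chi_baseChange (Y.presheaf.stalk (f x)) (X.presheaf.stalk x)
    ((DerSch.stalkFunctor Y (f x)).obj F) ((DerSch.stalkFunctor Y (f x)).obj G)

theorem intersectProperly_sheafFun {X : Scheme.{u}} {δ : X → ℤ} {n : ℤ} (F G : X.Modules) (hF : Coh.IsCoh F)
    (hG : Coh.IsCoh G) (r s : ℤ)
    (hrs : ∀ x : X, Nontrivial (F.presheaf.stalk x) → Nontrivial (G.presheaf.stalk x) → δ x ≤ r + s - n) :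
    IntMult.IntersectProperly δ n (Cyc.sheafFun δ r F) (Cyc.sheafFun δ s G) := by
  intro ξ η ζ hξ hη hξζ hηζ
  have h : ∀ (E : X.Modules) (t : ℤ) (x : X), Cyc.sheafFun δ t E x ≠ 0 → δ x = t ∧ Nontrivial (E.presheaf.stalk x) := by
    intro E t x hx
    rw [Cyc.sheafFun] at hx
    split_ifs at hx with h
    · exact ⟨h, nontrivial_of_length_ne_zero (by exact_mod_cast hx)⟩
    · exact absurd rfl hx
  obtain ⟨h1, h1'⟩ := h F r ξ hξ
  obtain ⟨h2, h2'⟩ := h G s η hη
  rw [h1, h2]
  exact hrs ζ (nontrivial_of_specializes F hF.1 hξζ h1') (nontrivial_of_specializes G hG.1 hηζ h2')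

end Groth.Agent.H9Diag
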