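import Groth.Agent.H9Diag.Algebra
import Groth.Agent.H9Mult.CycleMult
import Groth.Agent.Div21Lib.StalkIdeal

/-!
Stalks of ideal sheaves for the reduction to the diagonal.
-/

set_option autoImplicit false
set_option linter.style.haveILetI false
set_option backward.isDefEq.respectTransparency false
set_option backward.isDefEq.respectTransparency.types false
set_option maxHeartbeats 1000000

universe u

open AlgebraicGeometry CategoryTheory Limits TopologicalSpace Groth.Agent Groth.Agent.H9Mult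

noncomputable section

namespace Groth.Agent.H9Diag

variable {X Y P : Scheme.{u}}

theorem stalkIdeal_comap (I : Y.IdealSheafData) (f : X ⟶ Y) (x : X) :
    IntMult.stalkIdeal (I.comap f) x = (IntMult.stalkIdeal I (f x)).map (f.stalkMap x).hom := by
  rw [stalkIdeal_eq_stI, stalkIdeal_eq_stI, Div21Lib.stI_comap]

theorem stalkIdeal_sup (I J : X.IdealSheafData) (x : X) :
    IntMult.stalkIdeal (I ⊔ J) x = IntMult.stalkIdeal I x ⊔ IntMult.stalkIdeal J x := by
  obtain ⟨U, hU, hxU, -⟩ := exists_isAffineOpen_mem_and_subset (x := x) (U := ⊤) trivial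
  rw [stalkIdeal_eq _ ⟨U, hU⟩ hxU, stalkIdeal_eq _ ⟨U, hU⟩ hxU, stalkIdeal_eq _ ⟨U, hU⟩ hxU,
    Scheme.IdealSheafData.ideal_sup, Pi.sup_apply, Ideal.map_sup]

/-- The stalk of the ideal of a closed immersion. -/
theorem stalkIdeal_ker (i : X ⟶ Y) [IsClosedImmersion i] (x : X) :
    IntMult.stalkIdeal i.ker (i x) = RingHom.ker (i.stalkMap x).hom := by
  obtain ⟨W, hW, hxW, -⟩ := exists_isAffineOpen_mem_and_subset (x := i x) (U := ⊤) trivial
  have h : i.toImage ≫ i.ker.subschemeι = i := i.toImage_imageι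
  have e1 := stalkIdeal_eq_ker i.ker (i.toImage x)
  have e2 : i.ker.subschemeι (i.toImage x) = i x := by rw [← Scheme.Hom.comp_apply, h]
  haveI : IsIso (i.toImage.stalkMap x) := inferInstance
  have e3 : RingHom.ker (i.ker.subschemeι.stalkMap (i.toImage x)).hom =
      RingHom.ker ((i.toImage ≫ i.ker.subschemeι).stalkMap x).hom := by
    rw [Scheme.Hom.stalkMap_comp, CommRingCat.hom_comp]
    ext w
    simp only [RingHom.mem_ker, RingHom.comp_apply]
    exact ⟨fun hw => by rw [hw, map_zero], fun hw =>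
      (ConcreteCategory.bijective_of_isIso (i.toImage.stalkMap x)).1 (hw.trans (map_zero _).symm)⟩
  rw [e3] at e1
  have key : ∀ g : X ⟶ Y, g = i → IntMult.stalkIdeal i.ker (g x) = RingHom.ker (g.stalkMap x).hom →
      IntMult.stalkIdeal i.ker (i x) = RingHom.ker (i.stalkMap x).hom := by
    rintro g rfl hg
    exact hg
  exact key _ h e1

/-- The stalk map of a projection, at the image of a point under a section. -/
def sectStalk (s : X ⟶ P) (q : P ⟶ X) (h : s ≫ q = 𝟙 X) (ξ : X) :
    X.presheaf.stalk ξ ⟶ P.presheaf.stalk (s ξ) :=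
  X.presheaf.stalkSpecializes (specializes_of_eq (by rw [← Scheme.Hom.comp_apply, h]; rfl)) ≫ q.stalkMap (s ξ)

theorem sectStalk_section (s : X ⟶ P) (q : P ⟶ X) (h : s ≫ q = 𝟙 X) (ξ : X) :
    sectStalk s q h ξ ≫ s.stalkMap ξ = 𝟙 _ := by
  rw [sectStalk, Category.assoc, ← Scheme.Hom.stalkMap_comp, Scheme.Hom.stalkMap_congr_hom _ _ h,
    Scheme.Hom.stalkMap_id]
  simp only [TopCat.Presheaf.stalkCongr]
  erw [Category.comp_id, TopCat.Presheaf.stalkSpecializes_comp, TopCat.Presheaf.stalkSpecializes_refl]; rfl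

theorem stalkIdeal_comap_sect (s : X ⟶ P) (q : P ⟶ X) (h : s ≫ q = 𝟙 X) (ξ : X) (I : X.IdealSheafData) :
    IntMult.stalkIdeal (I.comap q) (s ξ) = (IntMult.stalkIdeal I ξ).map (sectStalk s q h ξ).hom := by
  rw [stalkIdeal_comap, sectStalk, CommRingCat.hom_comp, ← Ideal.map_map, stalkIdeal_eq_stI I ξ,
    Div21Lib.stI_generize, stalkIdeal_eq_stI]

theorem sectStalk_flat (s : X ⟶ P) (q : P ⟶ X) (h : s ≫ q = 𝟙 X) (ξ : X) [Flat q] :
    (sectStalk s q h ξ).hom.Flat := by
  rw [sectStalk, CommRingCat.hom_comp]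
  refine RingHom.Flat.comp (RingHom.Flat.of_bijective ?_) (Flat.stalkMap q _)
  haveI : IsIso (X.presheaf.stalkSpecializes (specializes_of_eq (show q (s ξ) = ξ by rw [← Scheme.Hom.comp_apply, h]; rfl))) :=
    (X.presheaf.stalkCongr (.of_eq (show ξ = q (s ξ) by rw [← Scheme.Hom.comp_apply, h]; rfl))).isIso_hom
  exact ConcreteCategory.bijective_of_isIso _

/-- Flatness modulo the pullback of an ideal. -/
theorem quot_flat (I : P.IdealSheafData) (q : P ⟶ X) [Flat (I.subschemeι ≫ q)] (d : ↥I.subscheme) :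
    (((Ideal.Quotient.mk (IntMult.stalkIdeal I (I.subschemeι d)))).comp (q.stalkMap (I.subschemeι d)).hom).Flat := by
  have h := Flat.stalkMap (I.subschemeι ≫ q) d
  rw [Scheme.Hom.stalkMap_comp, CommRingCat.hom_comp] at h
  let e := (Ideal.quotEquivOfEq (stalkIdeal_eq_ker I d)).trans
    (RingHom.quotientKerEquivOfSurjective (I.subschemeι.stalkMap_surjective d))
  have hc : (Ideal.Quotient.mk (IntMult.stalkIdeal I (I.subschemeι d))).comp (q.stalkMap (I.subschemeι d)).hom =
      e.symm.toRingHom.comp ((I.subschemeι.stalkMap d).hom.comp (q.stalkMap (I.subschemeι d)).hom) := by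
    ext w
    apply e.injective
    simp [e]
  rw [hc]
  exact RingHom.Flat.comp h (RingHom.Flat.of_bijective e.symm.bijective)

end Groth.Agent.H9Diag
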