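import Groth.Agent.H9Diag.Pullback
import Groth.Agent.H9Misc.TorBaseChange
import Mathlib.RingTheory.LocalRing.Length
import Mathlib.RingTheory.Localization.AtPrime.Basic

/-!
`χ` along a finite algebra, as a sum over its maximal ideals, and change of rings for the second argument.
-/

set_option autoImplicit false
set_option linter.style.haveILetI false
set_option backward.isDefEq.respectTransparency false
set_option backward.isDefEq.respectTransparency.types false
set_option maxHeartbeats 1000000

universe u

open CategoryTheory CategoryTheory.Limits MonoidalCategory TensorProduct IsLocalRing Groth.Agent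

noncomputable section

namespace Groth.Agent.H9Diag

open H9Misc

section Change

variable (A B : Type u) [CommRing A] [CommRing B] [Algebra A B]

/-- Change of rings for `Tor` against an extended module. -/
theorem exists_tor_change [Module.Flat A B] (L : Type u) [AddCommGroup L] [Module A L] [Module B L]
    [IsScalarTower A B L] (N : Type u) [AddCommGroup N] [Module A N] (i : ℕ) :
    ∃ φ : DRing.Tor A i N L →ₛₗ[algebraMap A B] DRing.Tor B i (B ⊗[A] N) L, Function.Bijective φ :=
  TorBaseChange.exists_semilinear A B L N (fun q hq => by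
    obtain ⟨k, rfl⟩ : ∃ k, q = k + 1 := ⟨q - 1, by omega⟩
    exact ModuleCat.subsingleton_of_isZero ((TorBridge.isZero_tor_succ_of_flat (ModuleCat.of A B) (ModuleCat.of A N) k).of_iso
      (TorBalance.torSymm (ModuleCat.of A N) (ModuleCat.of A B) (k + 1)))) i

theorem length_eq_of_semilinear_local [IsLocalRing A] [IsLocalRing B] [IsLocalHom (algebraMap A B)] {P Q : Type u}
    [AddCommGroup P] [Module A P] [AddCommGroup Q] [Module B Q] (φ : P →ₛₗ[algebraMap A B] Q)
    (hφ : Function.Bijective φ) :
    Module.length A P = Module.length B Q * Module.length (ResidueField A) (ResidueField B) := by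
  letI : Module A Q := Module.compHom Q (algebraMap A B)
  haveI : IsScalarTower A B Q := IsScalarTower.of_algebraMap_smul fun _ _ => rfl
  let ψ : P →ₗ[A] Q :=
    { toFun := φ
      map_add' := map_add φ
      map_smul' := fun a x => φ.map_smulₛₗ a x }
  rw [(LinearEquiv.ofBijective ψ hφ).length_eq, IsLocalRing.length_restrictScalars A B Q]

/-- The finite flat local change of rings for `χ`. -/
theorem chi_change [IsLocalRing A] [IsLocalRing B] [IsLocalHom (algebraMap A B)] [Module.Flat A B]
    (L : Type u) [AddCommGroup L] [Module A L] [Module B L] [IsScalarTower A B L] (N : Type u) [AddCommGroup N]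
    [Module A N] :
    IntMult.chi A L N =
      IntMult.chi B L (B ⊗[A] N) * ((Module.length (ResidueField A) (ResidueField B)).toNat : ℤ) := by
  rw [H9Samuel.chi_comm, H9Samuel.chi_comm (A := B), IntMult.chi, IntMult.chi]
  refine Eq.trans (finsum_congr fun i => ?_) (finsum_mul (R := ℤ) _ _).symm
  obtain ⟨φ, hφ⟩ := exists_tor_change A B L N i
  rw [length_eq_of_semilinear_local A B φ hφ, ENat.toNat_mul]
  push_cast
  ring

end Change

section Sum

variable {A C : Type u} [CommRing A] [CommRing C] [Algebra A C]

theorem exists_tor_algebra (N : Type u) [AddCommGroup N] [Module A N] (i : ℕ) :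
    ∃ (T : ModuleCat.{u} C), ∀ (D : Type u) [CommRing D] [Algebra A D] [Algebra C D] [IsScalarTower A C D],
      Module.Flat C D → ∃ φ : DRing.Tor A i N D ≃+ D ⊗[C] T, ∀ (a : A) x,
        φ (a • x) = algebraMap A D a • φ x := by
  let P : ProjectiveResolution (ModuleCat.of A N) := ProjectiveResolution.of _
  refine ⟨(((TorBaseChange.G A C).mapHomologicalComplex (ComplexShape.down ℕ)).obj P.complex).homology i,
    fun D _ _ _ _ hD => ?_⟩
  haveI := hD
  haveI := preservesHomology_baseChange C D
  let F := ModuleCat.restrictScalars.{u} (algebraMap A D)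
  let GD := TorBaseChange.G A D
  let tI : tensorRight (ModuleCat.of A D) ≅ GD ⋙ F :=
    NatIso.ofComponents (fun X => LinearEquiv.toModuleIso
      (X₁ := X ⊗[A] D) (X₂ := (F.obj (GD.obj X) : ModuleCat A))
      { toFun := fun x => TensorProduct.comm A X D x
        invFun := fun x => (TensorProduct.comm A X D).symm x
        left_inv := fun x => (TensorProduct.comm A X D).symm_apply_apply x
        right_inv := fun x => (TensorProduct.comm A X D).apply_symm_apply x
        map_add' := fun x y => map_add _ x y
        map_smul' := fun a x => by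
          show TensorProduct.comm A X D (a • x) = algebraMap A D a • TensorProduct.comm A X D x
          rw [map_smul, algebraMap_smul] })
      (fun {X Y} g => ModuleCat.hom_ext (TensorProduct.ext' fun x q => by rfl))
  let gI : TorBaseChange.G A C ⋙ TorBaseChange.G C D ≅ GD :=
    NatIso.ofComponents (fun X => (AlgebraTensorModule.cancelBaseChange A C D D X).toModuleIso)
      (fun {X Y} g => ModuleCat.hom_ext (LinearMap.ext fun w => by
        refine TensorProduct.induction_on w ?_ ?_ ?_
        · simp
        · intro d cx
          refine TensorProduct.induction_on cx ?_ ?_ ?_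
          · simp
          · intro c x
            rfl
          · intro p q hp hq
            rw [TensorProduct.tmul_add, map_add, map_add, hp, hq]
        · intro p q hp hq
          rw [map_add, map_add, hp, hq]))
  let CC := ((TorBaseChange.G A C).mapHomologicalComplex (ComplexShape.down ℕ)).obj P.complex
  let CD := (GD.mapHomologicalComplex (ComplexShape.down ℕ)).obj P.complex
  let e1 : CD.homology i ≅ (TorBaseChange.G C D).obj (CC.homology i) :=
    (HomologicalComplex.homologyFunctor _ _ i).mapIso
      ((NatIso.mapHomologicalComplex gI (ComplexShape.down ℕ)).app P.complex).symm ≪≫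
      (CC.sc i).mapHomologyIso (TorBaseChange.G C D)
  let e : ((Tor (ModuleCat.{u} A) i).obj (ModuleCat.of A N)).obj (ModuleCat.of A D) ≅
      F.obj ((TorBaseChange.G C D).obj (CC.homology i)) :=
    TorBalance.torIso' P (ModuleCat.of A D) i ≪≫
      (HomologicalComplex.homologyFunctor _ _ i).mapIso
        ((NatIso.mapHomologicalComplex tI (ComplexShape.down ℕ)).app P.complex) ≪≫
      (CD.sc i).mapHomologyIso F ≪≫ F.mapIso e1
  let l := e.toLinearEquiv
  exact ⟨{ toEquiv := l.toEquiv, map_add' := fun x y => map_add l x y }, fun a x => map_smul l a x⟩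

variable {ι : Type*} [Fintype ι] (Bi : ι → Type u) [∀ q, CommRing (Bi q)] [∀ q, Algebra C (Bi q)]
  [∀ q, Algebra A (Bi q)] [∀ q, IsScalarTower A C (Bi q)] (m : ι → Ideal C) [∀ q, (m q).IsMaximal]
  [∀ q, IsLocalization.AtPrime (Bi q) (m q)]

include m in
/-- A module of finite length is the product of its localisations at the maximal ideals. -/
theorem length_eq_sum_localizations (hinj : Function.Injective m) (hall : ∀ M : Ideal C, M.IsMaximal → ∃ q, m q = M)
    {T : Type u} [AddCommGroup T] [Module C T] (hT : IsFiniteLength C T) :
    ∀ [Module A T] [IsScalarTower A C T], Module.length A T = ∑ q, Module.length A (Bi q ⊗[C] T) := by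
  haveI : ∀ q, Module.Flat C (Bi q) := fun q => IsLocalization.flat (Bi q) (m q).primeCompl
  induction hT with
  | of_subsingleton =>
    intros
    rw [Module.length_eq_zero, Finset.sum_eq_zero fun q _ => Module.length_eq_zero]
  | @of_simple_quotient T _ _ N hs _ ih =>
    intros
    have e1 : Module.length A T = Module.length A N + Module.length A (T ⧸ N) :=
      Module.length_eq_add_of_exact (N.subtype.restrictScalars A) (N.mkQ.restrictScalars A)
        Subtype.val_injective N.mkQ_surjective (LinearMap.exact_subtype_mkQ N)
    have e2 : ∀ q, Module.length A (Bi q ⊗[C] T) =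
        Module.length A (Bi q ⊗[C] N) + Module.length A (Bi q ⊗[C] (T ⧸ N)) := fun q =>
      Module.length_eq_add_of_exact ((N.subtype.baseChange (Bi q)).restrictScalars A)
        ((N.mkQ.baseChange (Bi q)).restrictScalars A)
        (Module.Flat.lTensor_preserves_injective_linearMap N.subtype Subtype.val_injective)
        (LinearMap.lTensor_surjective (Bi q) N.mkQ_surjective)
        (Module.Flat.lTensor_exact (Bi q) (LinearMap.exact_subtype_mkQ N))
    rw [e1, Finset.sum_congr rfl fun q _ => e2 q, Finset.sum_add_distrib, ← ih]
    congr 1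
    obtain ⟨I, hI, ⟨e⟩⟩ := isSimpleModule_iff_quot_maximal.1 hs
    obtain ⟨q₀, rfl⟩ := hall I hI
    rw [Finset.sum_eq_single q₀]
    · let ψ : T ⧸ N →ₗ[C] Bi q₀ ⊗[C] (T ⧸ N) := TensorProduct.mk C (Bi q₀) (T ⧸ N) 1
      have hu : ∀ s : (m q₀).primeCompl, IsUnit (algebraMap C (Module.End C (T ⧸ N)) s) := fun s => by
        haveI := hs
        refine (Module.End.isUnit_iff _).2 ?_
        obtain ⟨d, w, hw, hdw⟩ := Ideal.IsMaximal.exists_inv (I := m q₀) ‹_› s.2
        have key : ∀ x : T ⧸ N, (d * (s : C)) • x = x := fun x => by
          have hzero : w • x = 0 := by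
            apply e.injective
            rw [map_smul, map_zero]
            obtain ⟨c, hc⟩ := Ideal.Quotient.mk_surjective (e x)
            rw [← hc, Algebra.smul_def, Ideal.Quotient.algebraMap_eq, ← map_mul]
            exact Ideal.Quotient.eq_zero_iff_mem.2 (Ideal.mul_mem_right _ _ hw)
          rw [eq_sub_of_add_eq hdw, sub_smul, one_smul, hzero, sub_zero]
        refine ⟨fun x y h => ?_, fun x => ⟨d • x, ?_⟩⟩
        · have h' : (s : C) • x = (s : C) • y := h
          rw [← key x, ← key y, mul_smul, mul_smul, h']
        · show (s : C) • d • x = x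
          rw [← mul_smul, mul_comm, key]
      haveI : IsLocalizedModule (m q₀).primeCompl ψ :=
        (isLocalizedModule_iff_isBaseChange (m q₀).primeCompl (Bi q₀) ψ).2 (TensorProduct.isBaseChange C (T ⧸ N) (Bi q₀))
      haveI : IsLocalizedModule (m q₀).primeCompl (LinearMap.id : T ⧸ N →ₗ[C] T ⧸ N) :=
        { map_units := hu
          surj := fun x => ⟨(x, 1), one_smul _ _⟩
          exists_of_eq := fun h => ⟨1, by simpa using h⟩ }
      exact ((IsLocalizedModule.iso (m q₀).primeCompl (LinearMap.id : T ⧸ N →ₗ[C] T ⧸ N)).symm.trans
        (IsLocalizedModule.iso (m q₀).primeCompl ψ)).restrictScalars A |>.length_eq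
    · intro q _ hq
      haveI : Subsingleton (Bi q ⊗[C] (T ⧸ N)) := by
        obtain ⟨t, htI, htq⟩ := SetLike.not_le_iff_exists.1 (fun hle : m q₀ ≤ m q => hq (hinj
          (Ideal.IsMaximal.eq_of_le inferInstance (Ideal.IsPrime.ne_top inferInstance) hle).symm))
        refine subsingleton_of_forall_eq 0 fun z => ?_
        have hu : IsUnit (algebraMap C (Bi q) t) := (IsLocalization.AtPrime.isUnit_to_map_iff (Bi q) (m q) t).2 htq
        have hz : algebraMap C (Bi q) t • z = 0 := by
          refine TensorProduct.induction_on z (smul_zero _) (fun b x => ?_) fun x y hx hy => by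
            rw [smul_add, hx, hy, add_zero]
          rw [TensorProduct.smul_tmul', Algebra.algebraMap_eq_smul_one t, smul_eq_mul, smul_one_mul,
            TensorProduct.smul_tmul, show t • x = 0 from ?_, TensorProduct.tmul_zero]
          apply e.injective
          rw [map_smul, map_zero]
          obtain ⟨c, hc⟩ := Ideal.Quotient.mk_surjective (e x)
          rw [← hc, Algebra.smul_def, Ideal.Quotient.algebraMap_eq, ← map_mul]
          exact Ideal.Quotient.eq_zero_iff_mem.2 (Ideal.mul_mem_right _ _ htI)
        exact (IsUnit.smul_eq_zero hu).1 hz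
      exact Module.length_eq_zero
    · exact fun h => absurd (Finset.mem_univ q₀) h

include m in
/-- `χ` of a finite algebra is the sum over its maximal ideals. -/
theorem chi_eq_sum_localizations [IsRegularLocalRing A] [Module.Finite A C] (hinj : Function.Injective m)
    (hall : ∀ M : Ideal C, M.IsMaximal → ∃ q, m q = M) (N : Type u) [AddCommGroup N] [Module A N] [Module.Finite A N]
    (hP : Primary A C N) : IntMult.chi A C N = ∑ q, IntMult.chi A (Bi q) N := by
  classical
  rw [chi_eq_sum C N]
  have key : ∀ i, Module.length A (DRing.Tor A i C N) = ∑ q, Module.length A (DRing.Tor A i (Bi q) N) := fun i => by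
    obtain ⟨T, hT⟩ := exists_tor_algebra (A := A) (C := C) N i
    letI : Module A T := Module.compHom T (algebraMap A C)
    haveI : IsScalarTower A C T := IsScalarTower.of_algebraMap_smul fun _ _ => rfl
    obtain ⟨φ, hφ⟩ := hT C inferInstance
    let φ' : DRing.Tor A i N C ≃ₗ[A] T :=
      ({ φ with map_smul' := fun a x => (hφ a x).trans (algebraMap_smul C a _) } :
          DRing.Tor A i N C ≃ₗ[A] C ⊗[C] T).trans ((TensorProduct.lid C T).restrictScalars A)
    have symm' : ∀ (M : Type u) [AddCommGroup M] [Module A M],
        Module.length A (DRing.Tor A i M N) = Module.length A (DRing.Tor A i N M) := fun M _ _ =>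
      (TorBalance.torSymm (ModuleCat.of A M) (ModuleCat.of A N) i).toLinearEquiv.length_eq
    have hfin : Module.length C T ≠ ⊤ := by
      have hA : Module.length A T ≠ ⊤ := by
        rw [← φ'.length_eq, ← symm']
        exact length_tor_ne_top hP i
      rw [Module.length_ne_top_iff, isFiniteLength_iff_isNoetherian_isArtinian] at hA ⊢
      haveI := hA.1
      haveI := hA.2
      exact ⟨isNoetherian_of_tower A inferInstance, isArtinian_of_tower A inferInstance⟩
    rw [symm', φ'.length_eq, length_eq_sum_localizations Bi m hinj hall (Module.length_ne_top_iff.1 hfin)]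
    refine Finset.sum_congr rfl fun q _ => ?_
    obtain ⟨ψ, hψ⟩ := hT (Bi q) (IsLocalization.flat (Bi q) (m q).primeCompl)
    rw [symm']
    exact (({ ψ with map_smul' := fun a x => (hψ a x).trans (algebraMap_smul (Bi q) a _) } :
      DRing.Tor A i N (Bi q) ≃ₗ[A] Bi q ⊗[C] T)).length_eq.symm
  have hne : ∀ i, ∀ q ∈ (Finset.univ : Finset ι), Module.length A (DRing.Tor A i (Bi q) N) ≠ ⊤ := fun i q _ h => by
    refine length_tor_ne_top hP i (top_le_iff.1 ?_)
    rw [key i]; exact le_trans h.ge (Finset.single_le_sum
      (f := fun q => Module.length A (DRing.Tor A i (Bi q) N)) (fun _ _ => zero_le) (Finset.mem_univ q))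
  have hvan : ∀ q, IntMult.chi A (Bi q) N = ∑ i ∈ Finset.range ((maximalIdeal A).spanFinrank + 1),
      (-1 : ℤ) ^ i * ((Module.length A (DRing.Tor A i (Bi q) N)).toNat : ℤ) := fun q => by
    refine finsum_eq_sum_of_support_subset _ fun i hi => ?_
    simp only [Finset.coe_range, Set.mem_Iio]
    by_contra hlt
    haveI := subsingleton_tor_of_lt (A := A) C N (i := i) (by omega)
    have h0 : Module.length A (DRing.Tor A i C N) = 0 := Module.length_eq_zero
    rw [key i, Finset.sum_eq_zero_iff] at h0
    exact hi (by simp [h0 q (Finset.mem_univ q)])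
  rw [Finset.sum_congr rfl fun q _ => hvan q, Finset.sum_comm]
  refine Finset.sum_congr rfl fun i _ => ?_
  rw [key i, ENat.toNat_sum (hne i), Nat.cast_sum, Finset.mul_sum]

end Sum

end Groth.Agent.H9Diag
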